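import Groth.Agent.Gerb.K893.Dict
import Groth.Agent.Gerb.K895.Glue
import Groth.Agent.AlgSp.K597.LocP
import Groth.Agent.AlgSp.K609.Points
import Groth.Agent.AlgSp.K610.Site
import Groth.Agent.AlgSp.K606.RepWithBasic
import Groth.Agent.AlgSp.K598.Site
import Groth.Prelude.Def_StGerb

/-!
# Scheme charts of base changes (helper893)

* `respectsIso_locP`, `respectsIso_surj`
* `K893.Chart.with_inf`: `RepByAlgSpWith P f → RepByAlgSpWith Q f → RepByAlgSpWith (P ⊓ Q) f`.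
* `K893.Chart.exists_chart`: for `f : 𝒳 ⟶ 𝒴` surjective with `LocP P`, `y : (Sch/U) ⟶ 𝒴`: a scheme `h : V ⟶ U`
  surjective with `P`, an object `ζ` over `V` and `y(h) ≅ f ζ`.
* `locSurjObj`.
-/

set_option autoImplicit false
set_option backward.isDefEq.respectTransparency false
set_option backward.isDefEq.respectTransparency.types false

universe v₄ u₄ v₃ u₃ v₂ u₂ v u

open CategoryTheory AlgebraicGeometry Opposite K895.Fib

namespace K893.Chart

open AlgSp in
theorem respectsIso_locP {S : Scheme.{u}} (P : MorphismProperty Scheme.{u}) : (LocP (S := S) P).RespectsIso := by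
  refine MorphismProperty.RespectsIso.mk _ (fun {F F' G} e f hf U V a b h ha hb w => ?_)
    (fun {F G G'} e f hf U V a b h ha hb w => ?_)
  · exact hf (a ≫ e.hom) b h (K606.RepWithBasic.postcomp_iso e ha) hb (by rw [Category.assoc]; exact w)
  · refine hf a (b ≫ e.inv) h ha (K606.RepWithBasic.postcomp_iso e.symm hb) ?_
    rw [← Category.assoc, ← w, Category.assoc, Category.assoc, e.hom_inv_id, Category.comp_id]

open AlgSp in
theorem points_map_iso_bijective {S : Scheme.{u}} {F G : AlgSp.Sp S} (e : F ≅ G) :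
    Function.Bijective (Points.map e.hom) := by
  refine Function.bijective_iff_has_inverse.2 ⟨Points.map e.inv, fun x => ?_, fun x => ?_⟩
  · have := Points.map_comp e.hom e.inv x
    rw [e.hom_inv_id, Points.map_id] at this
    exact this.symm
  · have := Points.map_comp e.inv e.hom x
    rw [e.inv_hom_id, Points.map_id] at this
    exact this.symm

open AlgSp in
theorem points_map_comp {S : Scheme.{u}} {F G H : AlgSp.Sp S} (f : F ⟶ G) (g : G ⟶ H) :
    Points.map (f ≫ g) = Points.map g ∘ Points.map f := funext (Points.map_comp f g)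

open AlgSp in
theorem respectsIso_surj {S : Scheme.{u}} : (IsSurjectiveMor (S := S)).RespectsIso := by
  refine MorphismProperty.RespectsIso.mk _ (fun {F F' G} e f hf => ?_) (fun {F G G'} e f hf => ?_)
  · change Function.Surjective (Points.map (e.hom ≫ f))
    rw [points_map_comp]
    exact Function.Surjective.comp hf (points_map_iso_bijective e).2
  · change Function.Surjective (Points.map (f ≫ e.hom))
    rw [points_map_comp]
    exact Function.Surjective.comp (points_map_iso_bijective e).2 hf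

variable {S : Scheme.{u}} {𝒳 : BasedCategory.{v₂, u₂} (Over S)} {𝒴 : BasedCategory.{v₃, u₃} (Over S)}

theorem with_inf {P Q : MorphismProperty (AlgSp.Sp S)} [Q.RespectsIso] {f : 𝒳 ⥤ᵇ 𝒴}
    (h1 : AlgSt.RepByAlgSpWith P f) (h2 : AlgSt.RepByAlgSpWith Q f) : AlgSt.RepByAlgSpWith (P ⊓ Q) f := by
  intro U y
  obtain ⟨F, e, he, hP⟩ := h1 U y
  exact ⟨F, e, he, hP, (K735.Rep.RepOver.of_rep (h2 U y) e he).2⟩

theorem with_mono {P Q : MorphismProperty (AlgSp.Sp S)} (h : P ≤ Q) {f : 𝒳 ⥤ᵇ 𝒴}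
    (h1 : AlgSt.RepByAlgSpWith P f) : AlgSt.RepByAlgSpWith Q f := by
  intro U y
  obtain ⟨F, e, he, hP⟩ := h1 U y
  exact ⟨F, e, he, h _ hP⟩

theorem locP_inf {P Q : MorphismProperty Scheme.{u}} {f : 𝒳 ⥤ᵇ 𝒴}
    (h1 : AlgSt.RepByAlgSpWith (AlgSp.LocP P) f) (h2 : AlgSt.RepByAlgSpWith (AlgSp.LocP Q) f) :
    AlgSt.RepByAlgSpWith (AlgSp.LocP (P ⊓ Q)) f := by
  have := respectsIso_locP (S := S) Q
  exact with_mono (fun _ _ _ h => K597.locP_inf_iff.2 h) (with_inf h1 h2)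

/-- maps out of `h_V` are determined by the value at the identity -/
theorem yon_ext {V : Over S} {G : AlgSp.Sp S} {a b : (AlgSp.yon S).obj V ⟶ G}
    (h : a.hom.app (op V) ⟨𝟙 V⟩ = b.hom.app (op V) ⟨𝟙 V⟩) : a = b := by
  apply K598.Site.yE.injective
  exact h

/-- the equality `p ≫ (F ⟶ h_U) = h_g` from the section of `p` -/
theorem comp_eq_yon_map {F : AlgSp.Sp S} {U V : Over S} (p : (AlgSp.yon S).obj V ⟶ F) (m : F ⟶ (AlgSp.yon S).obj U)
    (g : V ⟶ U) (h : m.hom.app (op V) (p.hom.app (op V) ⟨𝟙 V⟩) = ⟨g⟩) : p ≫ m = (AlgSp.yon S).map g := by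
  apply yon_ext
  change m.hom.app (op V) (p.hom.app (op V) ⟨𝟙 V⟩) = (⟨𝟙 V ≫ g⟩ : ULift _)
  rw [h, Category.id_comp]

theorem repWith_etale_id (F : AlgSp.Sp S) : AlgSp.RepWith @Etale (𝟙 F) :=
  (AlgSp.repWith_isMultiplicative @Etale).toContainsIdentities.id_mem F

/-- Charts of a base change. -/
theorem exists_chart {f : 𝒳 ⥤ᵇ 𝒴} {P : MorphismProperty Scheme.{u}}
    (hs : AlgSt.RepByAlgSpWith AlgSp.IsSurjectiveMor f) (hP : AlgSt.RepByAlgSpWith (AlgSp.LocP P) f)
    (U : Over S) (y : FibCat.overCat U ⥤ᵇ 𝒴) :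
    ∃ (V : Over S) (g : V ⟶ U) (ζ : 𝒳.obj) (φ : y.obj (Over.mk g) ≅ f.obj ζ),
      𝒳.p.obj ζ = V ∧ 𝒴.p.IsHomLift (𝟙 V) φ.hom ∧ Surjective g.left ∧ P g.left := by
  have := respectsIso_locP (S := S) P
  obtain ⟨F, e, he, hs, hP⟩ := with_inf hs hP U y
  obtain ⟨V, p, hp, hps⟩ := F.property.atlas
  obtain ⟨g, ζ, φ, hφ, hζ, hI⟩ := K893.Dict.exists_obj e V (p.hom.app (op V) ⟨𝟙 V⟩)
  have h1 := comp_eq_yon_map p (AlgSt.spMapOfOver (BasedFunctor.comp e (FibCat.fpFst y f))) g hI.app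
  refine ⟨V, g, ζ, φ, hζ, hφ, ⟨?_⟩, ?_⟩
  · rw [← K609.Points.surjective_map_yon_map_iff, ← h1, points_map_comp]
    exact Function.Surjective.comp hs (K609.Points.surjective_map_of_repWith_surjective hps)
  · exact hP p (𝟙 _) g hp (repWith_etale_id _) (by rw [h1, Category.comp_id])

/-- Flat, locally finitely presented and surjective: locally surjective on objects. -/
theorem locSurjObj {f : 𝒳 ⥤ᵇ 𝒴} (h𝒳 : FibCat.IsFibGrpd 𝒳.p) (h𝒴 : FibCat.IsFibGrpd 𝒴.p)
    (hs : AlgSt.RepByAlgSpWith AlgSp.IsSurjectiveMor f) (h1 : AlgSt.RepByAlgSpWith (AlgSp.LocP @Flat) f)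
    (h2 : AlgSt.RepByAlgSpWith (AlgSp.LocP @LocallyOfFinitePresentation) f) :
    Gerb.LocSurjObj (QuotSh.J Scheme.fppfPrecoverage S) f := by
  intro ξ
  obtain ⟨V, g, ζ, φ, hζ, hφ, hgs, hg1, hg2⟩ := exists_chart hs (locP_inf h1 h2) _ (K895.Glue.yo h𝒴 ξ rfl)
  refine ⟨Sieve.generate (Presieve.singleton g), ?_, ?_⟩
  · have h1 : Flat g.left := hg1
    have h2 : LocallyOfFinitePresentation g.left := hg2
    have h3 : Surjective g.left := hgs
    exact K598.Site.mem_J_of_single g (Sieve.le_generate (Presieve.singleton g) _ _ (Presieve.singleton_self g))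
  · rintro W h ⟨_, k, _, ⟨⟩, rfl⟩
    obtain ⟨ζ', ψ, hψ⟩ := exists_lift h𝒳 k ζ hζ
    have h3 : 𝒴.p.IsHomLift (𝟙 V) φ.inv := by
      have := lift_inv (χ := φ.hom) hφ
      rwa [IsIso.Iso.inv_hom] at this
    exact ⟨ζ', f.map ψ ≫ φ.inv ≫ K895.Glue.yoHom h𝒴 ξ rfl (Over.mk g),
      lift_comp (lift_map f hψ) (lift_id_comp h3 (K895.Glue.yoHom_lift h𝒴 ξ rfl (Over.mk g)))⟩

end K893.Chart
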