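import Groth.Agent.Gerb.K893.BC
import Groth.Agent.Gerb.K893.Chart
import Groth.Agent.AlgSp.K629.SchDesc
import Groth.Agent.AlgSp.K597.EtLoc

/-!
# Descent of chart properties and common charts (helper893)

* `locP_descend`: `LocP P` of `F ⟶ h_U` descends along `V ⟶ U`.
* `chart2`: common chart of `x : (Sch/U) ⟶ 𝒴` and `x' : (Sch/V) ⟶ 𝒴`.
* `rep_descend`: `RepByAlgSpWith (LocP P) f` can be tested on one atlas.
-/

set_option autoImplicit false
set_option backward.isDefEq.respectTransparency false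
set_option backward.isDefEq.respectTransparency.types false

universe v₄ u₄ v₃ u₃ v₂ u₂ v u

open CategoryTheory CategoryTheory.Limits AlgebraicGeometry Opposite K895.Fib

namespace K893.Desc

section Sheaf

open AlgSp

variable {S : Scheme.{u}}

/-- `LocP P` descends along a morphism of the base. -/
theorem locP_descend {P D : MorphismProperty Scheme.{u}} (hP : K597.EtLoc P) [P.DescendsAlong D]
    {F G : Sp S} (hF : IsAlgSpace F) {U V : Over S} {g : V ⟶ U} {π : G ⟶ F} {m' : G ⟶ (yon S).obj V}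
    {m : F ⟶ (yon S).obj U} (sq : IsPullback π m' m ((yon S).map g)) (hg : D g.left) (h : LocP P m') :
    LocP P m := by
  obtain ⟨W, a, ha, has⟩ := hF.atlas
  let w : W ⟶ U := (yon S).preimage (a ≫ m)
  have hw : (yon S).map w = a ≫ m := (yon S).map_preimage _
  have sq1 := IsPullback.of_hasPullback w g
  have sq2 := sq1.map (yon S)
  rw [hw] at sq2
  have e1 : ((yon S).map (pullback.fst w g) ≫ a) ≫ m = (yon S).map (pullback.snd w g) ≫ (yon S).map g := by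
    rw [Category.assoc]; exact sq2.w
  let c := sq.lift _ _ e1
  have hc1 : c ≫ π = (yon S).map (pullback.fst w g) ≫ a := sq.lift_fst _ _ e1
  have hc2 : c ≫ m' = (yon S).map (pullback.snd w g) := sq.lift_snd _ _ e1
  have sq3 : IsPullback c ((yon S).map (pullback.fst w g)) π a := by
    refine IsPullback.of_right (h₁₂ := m') (v₁₃ := (yon S).map g) (h₂₂ := m) ?_ hc1 sq.flip
    rw [hc2]
    exact sq2.flip
  have hce : RepWith @Etale c := K597.repWith_bc' _ sq3 ha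
  have h1 : P (pullback.snd w g).left :=
    h c (𝟙 _) (pullback.snd w g) hce (K893.Chart.repWith_etale_id _) (by rw [hc2, Category.comp_id])
  have sq4 : IsPullback (pullback.fst w g).left (pullback.snd w g).left w.left g.left :=
    sq1.map (Over.forget S)
  have h2 : P w.left := MorphismProperty.of_isPullback_of_descendsAlong sq4.flip hg h1
  exact K597.locP_of_chart hP m a (𝟙 _) w ha has (K893.Chart.repWith_etale_id _)
    (by rw [hw, Category.comp_id]) h2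

end Sheaf

section Stack

variable {S : Scheme.{u}} {𝒳 : BasedCategory.{v₂, u₂} (Over S)} {𝒴 : BasedCategory.{v₃, u₃} (Over S)}

/-- Common chart of two maps from schemes. -/
theorem chart2 {P P' : MorphismProperty Scheme.{u}} {U V : Over S} (x : FibCat.overCat U ⥤ᵇ 𝒴)
    (x' : FibCat.overCat V ⥤ᵇ 𝒴) (hx : AlgSt.RepByAlgSpWith (AlgSp.LocP P) x)
    (hx' : AlgSt.RepByAlgSpWith (AlgSp.LocP P') x') :
    ∃ (W : Over S) (a : W ⟶ U) (b : W ⟶ V) (φ : x.obj (Over.mk a) ≅ x'.obj (Over.mk b)),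
      𝒴.p.IsHomLift (𝟙 W) φ.hom ∧ P' a.left ∧ P b.left ∧
      (AlgSt.RepByAlgSpWith AlgSp.IsSurjectiveMor x' → Surjective a.left) ∧
      (AlgSt.RepByAlgSpWith AlgSp.IsSurjectiveMor x → Surjective b.left) := by
  have := K893.Chart.respectsIso_locP (S := S) P
  have := K893.Chart.respectsIso_surj (S := S)
  obtain ⟨F, e, he, hP'⟩ := hx' U x
  let e' : AlgSt.ofSp F.obj ⥤ᵇ FibCat.fp x' x := BasedFunctor.comp e (K734.Fib.fpSwap x x')
  have he' : FibCat.IsEquivOver e' := K734.Fib.isEquivOver_comp he (K734.Fib.isEquivOver_fpSwap x x')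
  have hP := (K735.Rep.RepOver.of_rep (hx V x') e' he').2
  obtain ⟨W, p, hp, hps⟩ := F.property.atlas
  obtain ⟨a, T, φ, hφ, hT, hI⟩ := K893.Dict.exists_obj e W (p.hom.app (op W) ⟨𝟙 W⟩)
  change T.left = W at hT
  subst hT
  have hT' : T = Over.mk T.hom := rfl
  have h1 := K893.Chart.comp_eq_yon_map p (AlgSt.spMapOfOver (BasedFunctor.comp e (FibCat.fpFst x x'))) a hI.app
  have hφ' : 𝒴.p.IsHomLift (𝟙 T.left) φ.inv := by
    have := lift_inv (χ := φ.hom) hφ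
    rwa [IsIso.Iso.inv_hom] at this
  have hI' : K893.Dict.Is e' T.left (p.hom.app (op T.left) ⟨𝟙 T.left⟩) T.hom (Over.mk a) φ.symm hφ' := by
    obtain ⟨i, hi⟩ := hI
    exact ⟨(K734.Fib.fpSwap x x').mapIso i, lift_map (K734.Fib.fpSwap x x') hi⟩
  have h2 := K893.Chart.comp_eq_yon_map p (AlgSt.spMapOfOver (BasedFunctor.comp e' (FibCat.fpFst x' x))) T.hom hI'.app
  refine ⟨T.left, a, T.hom, φ, hφ, ?_, ?_, fun hs => ⟨?_⟩, fun hs => ⟨?_⟩⟩
  · exact hP' p (𝟙 _) a hp (K893.Chart.repWith_etale_id _) (by rw [h1, Category.comp_id])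
  · exact hP p (𝟙 _) T.hom hp (K893.Chart.repWith_etale_id _) (by rw [h2, Category.comp_id])
  · have hs' := (K735.Rep.RepOver.of_rep (hs U x) e he).2
    rw [← K609.Points.surjective_map_yon_map_iff, ← h1, K893.Chart.points_map_comp]
    exact Function.Surjective.comp hs' (K609.Points.surjective_map_of_repWith_surjective hps)
  · have hs' := (K735.Rep.RepOver.of_rep (hs V x') e' he').2
    rw [← K609.Points.surjective_map_yon_map_iff, ← h2, K893.Chart.points_map_comp]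
    exact Function.Surjective.comp hs' (K609.Points.surjective_map_of_repWith_surjective hps)

/-- 2-isomorphism of restricted charts from an isomorphism at the top. -/
theorem exists_restr_iso (h𝒴 : FibCat.IsFibGrpd 𝒴.p) {U V W : Over S} (x : FibCat.overCat U ⥤ᵇ 𝒴)
    (x' : FibCat.overCat V ⥤ᵇ 𝒴) (a : W ⟶ U) (b : W ⟶ V) (φ : x.obj (Over.mk a) ≅ x'.obj (Over.mk b))
    (hφ : 𝒴.p.IsHomLift (𝟙 W) φ.hom) :
    Nonempty (BasedFunctor.comp (AlgSt.overMap a) x ≅ BasedFunctor.comp (AlgSt.overMap b) x') := by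
  let i : (Over.map a).obj (Over.mk (𝟙 W)) ≅ Over.mk a := Over.isoMk (Iso.refl _) (by simp)
  let j : (Over.map b).obj (Over.mk (𝟙 W)) ≅ Over.mk b := Over.isoMk (Iso.refl _) (by simp)
  have hi : (FibCat.overCat U).p.IsHomLift (𝟙 W) i.hom := IsHomLift.of_fac' _ _ _ rfl rfl (by simp; rfl)
  have hj : (FibCat.overCat V).p.IsHomLift (𝟙 W) j.inv := IsHomLift.of_fac' _ _ _ rfl rfl (by simp; rfl)
  refine ⟨K735.Fp.yonIso h𝒴 (BasedFunctor.comp (AlgSt.overMap a) x) (BasedFunctor.comp (AlgSt.overMap b) x')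
    ((x.mapIso i) ≪≫ φ ≪≫ (x'.mapIso j.symm)).hom ?_⟩
  have h1 : 𝒴.p.IsHomLift (𝟙 W) ((x.mapIso i) ≪≫ φ ≪≫ (x'.mapIso j.symm)).hom :=
    lift_id_comp (lift_map x hi) (lift_id_comp hφ (lift_map x' hj))
  exact K735.Fib.vert_of_isHomLift h1

/-- Transport of a represented base change along a common refinement: if `y|_T ≅ v|_T` then the two spaces
`F_U = U ×_𝒴 𝒳`, `F_W = W ×_𝒴 𝒳` have a common pullback over `T`. -/
theorem exists_common {f : 𝒳 ⥤ᵇ 𝒴} (h𝒴 : FibCat.IsFibGrpd 𝒴.p) {U W T : Over S} {y : FibCat.overCat U ⥤ᵇ 𝒴}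
    {v : FibCat.overCat W ⥤ᵇ 𝒴} (hf : AlgSt.RepByAlgSp1 f) (a : T ⟶ U) (b : T ⟶ W)
    (φ : y.obj (Over.mk a) ≅ v.obj (Over.mk b)) (hφ : 𝒴.p.IsHomLift (𝟙 T) φ.hom)
    {F F' : AlgSp.Sp S} (e : AlgSt.ofSp F ⥤ᵇ FibCat.fp y f) (he : FibCat.IsEquivOver e)
    (e' : AlgSt.ofSp F' ⥤ᵇ FibCat.fp v f) (he' : FibCat.IsEquivOver e') :
    ∃ (G : AlgSp.Sp S) (π : G ⟶ F) (π' : G ⟶ F') (m : G ⟶ (AlgSp.yon S).obj T), AlgSp.IsAlgSpace G ∧
      IsPullback π m (AlgSt.spMapOfOver (BasedFunctor.comp e (FibCat.fpFst y f))) ((AlgSp.yon S).map a) ∧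
      IsPullback π' m (AlgSt.spMapOfOver (BasedFunctor.comp e' (FibCat.fpFst v f))) ((AlgSp.yon S).map b) := by
  obtain ⟨G, c, hc⟩ := hf T (BasedFunctor.comp (AlgSt.overMap a) y)
  obtain ⟨γ⟩ := exists_restr_iso h𝒴 y v a b φ hφ
  obtain ⟨π, sq, -⟩ := K893.BC.exists_isPullback e he c hc
  let c' : AlgSt.ofSp G.obj ⥤ᵇ FibCat.fp (BasedFunctor.comp (AlgSt.overMap b) v) f :=
    BasedFunctor.comp c (K734.Fib.fpCongrL γ.symm f)
  have hc' : FibCat.IsEquivOver c' := K734.Fib.isEquivOver_comp hc (K734.Fib.isEquivOver_fpCongrL γ.symm f)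
  obtain ⟨π', sq', -⟩ := K893.BC.exists_isPullback e' he' c' hc'
  exact ⟨G.obj, π, π', _, G.property, sq, sq'⟩

/-- `RepByAlgSpWith (LocP P) f` can be tested on one atlas `v`. -/
theorem rep_descend {P D : MorphismProperty Scheme.{u}} (hP : K597.EtLoc P) [P.IsStableUnderBaseChange]
    [P.DescendsAlong (D ⊓ @Surjective)] {f : 𝒳 ⥤ᵇ 𝒴} (h𝒴 : FibCat.IsFibGrpd 𝒴.p) (hf : AlgSt.RepByAlgSp1 f)
    (hdiag : ∀ (U : Over S) (y : FibCat.overCat U ⥤ᵇ 𝒴), AlgSt.RepByAlgSp1 y)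
    {W : Over S} (v : FibCat.overCat W ⥤ᵇ 𝒴) (hv : AlgSt.RepByAlgSpWith (AlgSp.LocP D) v)
    (hvs : AlgSt.RepByAlgSpWith AlgSp.IsSurjectiveMor v)
    (h : K735.Rep.RepOver (AlgSp.LocP P) (FibCat.fpFst v f)) : AlgSt.RepByAlgSpWith (AlgSp.LocP P) f := by
  intro U y
  obtain ⟨F, e, he⟩ := hf U y
  obtain ⟨F', e', he', hP'⟩ := h
  have hy : AlgSt.RepByAlgSpWith (AlgSp.LocP ⊤) y := by
    intro T t
    obtain ⟨G, c, hc⟩ := hdiag U y T t
    exact ⟨G, c, hc, fun _ _ _ _ _ _ _ _ => trivial⟩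
  obtain ⟨T, a, b, φ, hφ, hD, -, hs, -⟩ := chart2 y v hy hv
  obtain ⟨G, π, π', m, hG, sq, sq'⟩ := exists_common h𝒴 hf a b φ hφ e he e' he'
  have h1 : AlgSp.LocP P m := K597.locP_bc hP sq' F'.property.hasAtlas (AlgSp.IsAlgSpace.yon_obj W).hasAtlas
    (AlgSp.IsAlgSpace.yon_obj T).hasAtlas hP'
  exact ⟨F, e, he, locP_descend (D := D ⊓ @Surjective) hP F.property sq ⟨hD, hs hvs⟩ h1⟩

/-- `LocP P` of the map of sheaves of a morphism of schemes. -/
theorem locP_yon_map {P : MorphismProperty Scheme.{u}} (hP : K597.EtLoc P) {V W : Over S} (g : V ⟶ W)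
    (hg : P g.left) : AlgSp.LocP P ((AlgSp.yon S).map g) :=
  K597.locP_of_chart hP _ (𝟙 _) (𝟙 _) g (K893.Chart.repWith_etale_id _)
    ((AlgSp.repWith_isMultiplicative @Surjective).toContainsIdentities.id_mem _) (K893.Chart.repWith_etale_id _)
    (by rw [Category.comp_id, Category.id_comp]) hg

/-- Composition of a morphism of schemes with a chart. -/
theorem rep_overMap_comp {P : MorphismProperty Scheme.{u}} (hP : K597.EtLoc P) [P.IsStableUnderBaseChange]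
    [P.IsStableUnderComposition] (hd : ∀ (U : Over S) (y : FibCat.overCat U ⥤ᵇ 𝒴), AlgSt.RepByAlgSp1 y)
    {V V' : Over S} (v : FibCat.overCat V ⥤ᵇ 𝒴) (hv : AlgSt.RepByAlgSpWith (AlgSp.LocP P) v) (g : V' ⟶ V)
    (hg : P g.left) : AlgSt.RepByAlgSpWith (AlgSp.LocP P) (BasedFunctor.comp (AlgSt.overMap g) v) := by
  intro U y
  obtain ⟨F, e, he, hF⟩ := hv U y
  obtain ⟨F', e', he'⟩ := hd _ (BasedFunctor.comp (AlgSt.overMap g) v) U y
  obtain ⟨π, sq, w⟩ := K893.BC.exists_isPullback_right e he e' he'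
  refine ⟨F', e', he', ?_⟩
  rw [w]
  have h1 : AlgSp.LocP P π := K597.locP_bc hP sq.flip (AlgSp.IsAlgSpace.yon_obj _).hasAtlas
    (AlgSp.IsAlgSpace.yon_obj _).hasAtlas F.property.hasAtlas (locP_yon_map hP g hg)
  exact K597.locP_comp hP F'.property.hasAtlas F.property.hasAtlas (AlgSp.IsAlgSpace.yon_obj _).hasAtlas h1 hF

end Stack

end K893.Desc
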