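import Groth.Agent.S12765
import Groth.Agent.S12774
import Groth.Agent.S12770

/-!
# Restatements of rows on the diagonal, monomorphisms and equivalences (helper893)
-/

set_option autoImplicit false
universe w v u
open CategoryTheory AlgebraicGeometry

namespace K893.RowsA

theorem charts_rep {S : Scheme.{u}} {𝒳 : AlgSt.Cat S} (h : AlgSt.IsAlgStack Scheme.fppfPrecoverage 𝒳)
    (U : Over S) (x : FibCat.overCat U ⥤ᵇ 𝒳) : AlgSt.RepByAlgSp1 x :=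
  (Groth.Agent.S12765.result h.isStack.1).1 h.diag U x

theorem diag_of_charts {S : Scheme.{u}} {𝒳 : AlgSt.Cat S} (h : FibCat.IsFibGrpd 𝒳.p)
    (hd : ∀ (U : Over S) (x : FibCat.overCat U ⥤ᵇ 𝒳), AlgSt.RepByAlgSp1 x) :
    AlgSt.RepByAlgSp1 (FibCat.diag (FibCat.toSelf 𝒳)) :=
  (Groth.Agent.S12765.result h).2 hd

theorem ff_of_isMono {S : Scheme.{u}} {𝒳 𝒴 : AlgSt.Cat S}
    (h𝒳 : FibCat.IsFibGrpd 𝒳.p) (h𝒴 : FibCat.IsFibGrpd 𝒴.p) (j : 𝒳 ⥤ᵇ 𝒴) (hj : AlgSt.IsMono j) :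
    j.toFunctor.Full ∧ j.toFunctor.Faithful := Groth.Agent.S12774.result h𝒳 h𝒴 j hj

theorem isAlgStack_iff {S : Scheme.{u}} {𝒳 𝒴 : AlgSt.Cat S}
    (e : 𝒳 ⥤ᵇ 𝒴) (he : FibCat.IsEquivOver e) :
    AlgSt.IsAlgStack Scheme.fppfPrecoverage 𝒳 ↔ AlgSt.IsAlgStack Scheme.fppfPrecoverage 𝒴 :=
  Groth.Agent.S12770.result e he

end K893.RowsA
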