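import Groth.Agent.Gerb.K893.V4d

/-!
# Smooth points on Weil restrictions along the universal finite locally free covers

* `K893.V4.smPt`: the input `K744.ArtV.SmPt` of the Artin theorem for flat charts.
-/

set_option autoImplicit false
set_option backward.isDefEq.respectTransparency false
set_option backward.isDefEq.respectTransparency.types false
universe u
open CategoryTheory CategoryTheory.Limits AlgebraicGeometry Opposite

namespace K893.V4

open K744 AlgSp

variable {S : Scheme.{u}}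

section

variable {R A P : Type u} [CommRing R] [CommRing A] [Algebra R A] [CommRing P] [Algebra R P] {n : ℕ} {F W : Sp S} {U : Over S}
  {p : F ⟶ (yon S).obj U} {j₀ : Spec (.of R) ⟶ U.left} [IsOpenImmersion j₀]
  {a : (yon S).obj (SA (j₀ ≫ U.hom) A) ⟶ F} (ha : RepWith @Etale a)
  (hap : a ≫ p = (yon S).map (kA (j₀ ≫ U.hom) A ≫ jU j₀))
  {f' : W ⟶ F} {w' : W ⟶ (yon S).obj (U ⨯ Zn S n)}
  (sq : IsPullback f' w' p ((yon S).map (Limits.prod.fst : U ⨯ Zn S n ⟶ U)))
  (ξ : K744.Pt R A n P) (hξ : ∀ (C : Type u) [CommRing C] [Algebra R C] (x : K744.Pt R A n C),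
    ∃! t : P →ₐ[R] C, ξ.map t = x)

include ha hap sq hξ in
theorem exists_etale : ∃ g : (yon S).obj (SA (j₀ ≫ U.hom) P) ⟶ Wr.Res (prod.map (𝟙 U) (cn S n)) w',
    RepWith @Etale g ∧ (yon S).map (kA (j₀ ≫ U.hom) P ≫ jU j₀) = g ≫ Wr.π _ w' ≫ (yon S).map Limits.prod.fst := by
  obtain ⟨g₁, hg₁, hg₁e⟩ := exists_chart_W n ha hap sq
  -- the base change to the open subscheme
  have sqB := isPullback_prod_mid (jU j₀) (cn S n)
  have sqW := IsPullback.of_hasPullback w' ((yon S).map (prod.map (jU j₀) (𝟙 (Zn S n))))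
  have hj : IsOpenImmersion (jU j₀).left := (show IsOpenImmersion j₀ from inferInstance)
  have hoi : IsOpenImmersion (prod.map (jU j₀) (𝟙 (Zn S n))).left := isOpenImmersion_prod_left (jU j₀) (Zn S n)
  have hoi' : IsOpenImmersion (prod.map (jU j₀) (𝟙 (Bn S n))).left := isOpenImmersion_prod_left (jU j₀) (Bn S n)
  have hmono : Mono (prod.map (jU j₀) (𝟙 (Zn S n))) := (Over.forget S).mono_of_mono_map
    (show Mono (prod.map (jU j₀) (𝟙 (Zn S n))).left from inferInstance)
  have hmono' : Mono (pullback.fst w' ((yon S).map (prod.map (jU j₀) (𝟙 (Zn S n))))) := inferInstance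
  -- the chart
  have hw : g₁ ≫ w' = wk (n := n) (kA (j₀ ≫ U.hom) A) ≫ (yon S).map (prod.map (jU j₀) (𝟙 (Zn S n))) := by
    rw [hg₁, ← Functor.map_comp, prod.map_map, Category.comp_id]
  have hf₀ : pullback.lift g₁ (wk (n := n) (kA (j₀ ≫ U.hom) A)) hw ≫ pullback.snd _ _ = wk (n := n) (kA (j₀ ≫ U.hom) A) :=
    pullback.lift_snd _ _ _
  have hf₀e : RepWith @Etale (pullback.lift g₁ (wk (n := n) (kA (j₀ ≫ U.hom) A)) hw) := by
    have sq3 := isPullback_of_mono' (pullback.lift g₁ (wk (n := n) (kA (j₀ ≫ U.hom) A)) hw) (pullback.fst _ _)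
    rw [pullback.lift_fst] at sq3
    exact MorphismProperty.of_isPullback sq3.flip hg₁e
  have hAF : Wr.AF (SA (j₀ ≫ U.hom) A ⨯ Zn S n).left :=
    have : IsAffine (SA (j₀ ≫ U.hom) A).left := (show IsAffine (Spec (.of A)) from inferInstance)
    have := isAffine_prod n (SA (j₀ ≫ U.hom) A)
    Wr.AF_of_isAffine _
  have h1 := Wr.etale_map_chart (c := prod.map (𝟙 (Over.mk (j₀ ≫ U.hom))) (cn S n)) hAF _ hf₀ hf₀e
  have h2 : RepWith @Etale (Wr.baseHom sqB sqW) :=
    MorphismProperty.of_isPullback (Wr.isPullback_base sqB sqW).flip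
      ((repWith_yon_map_iff _ _).2 (show Etale (prod.map (jU j₀) (𝟙 (Bn S n))).left from inferInstance))
  have h3 := isIso_uPt (j₀ ≫ U.hom) ξ hξ
  refine ⟨(uPt (j₀ ≫ U.hom) ξ).hom ≫ Wr.map _ _ hf₀ ≫ Wr.baseHom sqB sqW, ?_, ?_⟩
  · exact (MorphismProperty.cancel_left_of_respectsIso (RepWith @Etale) _ _).2 (K629.Basic.repWith_comp _ h1 h2)
  · rw [Category.assoc, Category.assoc, ← Category.assoc (Wr.baseHom sqB sqW), (Wr.isPullback_base sqB sqW).w]
    rw [← Category.assoc (Wr.map _ _ hf₀), ← Category.assoc (Wr.map _ _ hf₀), Wr.map_π]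
    rw [← Category.assoc, ← Category.assoc, Wr.Pt.hom_π, ← Functor.map_comp, ← Functor.map_comp]
    congr 1
    change _ = (prod.lift (kA (j₀ ≫ U.hom) P) (bMap _ ξ.β) ≫ prod.map (jU j₀) (𝟙 (Bn S n))) ≫ Limits.prod.fst
    rw [Category.assoc, prod.map_fst, ← Category.assoc, prod.lift_fst]

end

open K744.ArtV in
/-- **Smooth points**: the second input of the Artin theorem for flat charts. -/
theorem smPt (U : Over S) : SmPt U (cn S) where
  fin n _ := isFinite_cn S n
  flat n _ := flat_cn S n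
  lfp n _ := lfp_cn S n
  surj n hn := surjective_cn S hn
  base n _ := lfp_Bn S n
  pt := by
    intro F hF p hp1 hp2 hp3 t₀
    obtain ⟨R, A, _, _, _, _, _, j₀, hj₀, a, ha, hap, v, hv⟩ := exists_affine_chart_over hF p hp1 hp2 hp3 t₀
    obtain ⟨n, hn, H⟩ := K628.Artin.exists_smooth_point_pt (R := R) v.asIdeal
    obtain ⟨P, _, _, _, ξ, hξ⟩ := K744.Pt.exists_univ R A n
    obtain ⟨q, hq1, hq2⟩ := H P ξ hξ
    have sq := IsPullback.of_hasPullback p ((yon S).map (Limits.prod.fst : U ⨯ Zn S n ⟶ U))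
    obtain ⟨g, hg1, hg2⟩ := exists_etale ha hap sq ξ hξ
    refine ⟨n, hn, U ⨯ Bn S n, U ⨯ Zn S n, Limits.prod.fst, Limits.prod.snd, ⟨prodIsProd _ _⟩, Limits.prod.fst,
      Limits.prod.snd, ⟨prodIsProd _ _⟩, prod.map (𝟙 U) (cn S n), ?_, ?_, _, _, _, sq, _, g, hg1, _, hg2, q, ?_, ?_⟩
    · rw [prod.map_fst, Category.comp_id]
    · rw [prod.map_snd]
    · rw [← hv]
      exact congrArg j₀ hq1
    · have hlfp : LocallyOfFinitePresentation (Spec.map (CommRingCat.ofHom (algebraMap R P))) := by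
        rw [HasRingHomProperty.Spec_iff (P := @LocallyOfFinitePresentation)]
        exact RingHom.finitePresentation_algebraMap.2 inferInstance
      have h := Scheme.Hom.mem_smoothLocus.1 (@hq2 hlfp)
      exact smAt_comp (Spec.map (CommRingCat.ofHom (algebraMap R P))) j₀ h

end K893.V4
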