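import Groth.Agent.Gerb.K893.Wr1
import Groth.Agent.AlgSp.K595.Sections

/-!
# Weil restriction: base change squares

* `isPullback_base`: for `t : T₁ ⟶ T`, `Z₁ = T₁ ×_T Z`, `W₁ = W ×_{h_Z} h_{Z₁}`, the sheaf `Res c₁ w₁` is
  `h_{T₁} ×_{h_T} Res c w`;
* `isPullback_point`: for `f : W ⟶ W'` over `h_Z` and `ξ : h_{T₁} ⟶ Res c w'` with adjoint `s : h_{Z₁} ⟶ W'`, the base
  change of `Res f` along `ξ` is `Res c₁ (W ×_{W'} h_{Z₁})`;
* `isPullback_map`: the Weil restriction preserves fibre products.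
-/

set_option autoImplicit false
universe u
open CategoryTheory CategoryTheory.Limits AlgebraicGeometry Opposite

namespace K893.Wr

open AlgSp K598.Site

variable {S : Scheme.{u}} {Z T : Over S} {c : Z ⟶ T}

section point

variable {W W' : Sp S} {w : W ⟶ (yon S).obj Z} {w' : W' ⟶ (yon S).obj Z} (f : W ⟶ W') (hf : f ≫ w' = w)
  {T₁ Z₁ : Over S} {c₁ : Z₁ ⟶ T₁} {q : Z₁ ⟶ Z} (ξ : Pt c w' T₁) (sq : IsPullback c₁ q ξ.t c)
  {W₁ : Sp S} {g : W₁ ⟶ W} {w₁ : W₁ ⟶ (yon S).obj Z₁} (s : (yon S).obj Z₁ ⟶ W') (hs : yE s = ξ.F c₁ q sq.w)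
  (sqW : IsPullback g w₁ f s)

include hs sqW in
theorem lift_aux {T₂ : Over S} (x : W₁.obj.obj (op T₂)) (b : T₂ ⟶ Z₁)
    (hb : w₁.hom.app (op T₂) x = (⟨b⟩ : ((yon S).obj Z₁).obj.obj (op T₂))) :
    f.hom.app (op T₂) (g.hom.app (op T₂) x) = ξ.F (b ≫ c₁) (b ≫ q) (by rw [Category.assoc, sq.w, Category.assoc]) := by
  have h1 : f.hom.app (op T₂) (g.hom.app (op T₂) x) = s.hom.app (op T₂) (w₁.hom.app (op T₂) x) :=
    congrArg (fun k => k.hom.app (op T₂) x) sqW.w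
  rw [h1, hb, yE_app, hs, Pt.nat]

/-- The image in `Res c w` of a point of `Res c₁ w₁`. -/
noncomputable def Pt.out {T₂ : Over S} (x : Pt c₁ w₁ T₂) : Pt c w T₂ where
  t := x.t ≫ ξ.t
  F {T₃} a b h := g.hom.app (op T₃) (x.F a (sq.lift (a ≫ x.t) b (by rw [Category.assoc]; exact h))
    (sq.lift_fst _ _ _).symm)
  w_F {T₃} a b h := by
    have h1 := lift_aux f ξ sq s hs sqW (x.F a (sq.lift (a ≫ x.t) b (by rw [Category.assoc]; exact h))
      (sq.lift_fst _ _ _).symm) _ (x.w_F _ _ _)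
    have h2 : w.hom.app (op T₃) (g.hom.app (op T₃) (x.F a (sq.lift (a ≫ x.t) b (by rw [Category.assoc]; exact h))
      (sq.lift_fst _ _ _).symm)) = w'.hom.app (op T₃) (f.hom.app (op T₃) (g.hom.app (op T₃)
        (x.F a (sq.lift (a ≫ x.t) b (by rw [Category.assoc]; exact h)) (sq.lift_fst _ _ _).symm))) :=
      congrArg (fun k => k.hom.app (op T₃) (g.hom.app (op T₃) (x.F a (sq.lift (a ≫ x.t) b (by rw [Category.assoc]; exact h))
      (sq.lift_fst _ _ _).symm))) hf.symm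
    rw [h2, h1, Pt.w_F]
    exact congrArg ULift.up (sq.lift_snd _ _ _)
  nat {T₃ T₄} k a b h := by
    rw [← NatTrans.naturality_apply, x.nat]
    refine congrArg (g.hom.app (op T₄)) (Pt.F_congr rfl _ _ _ _ rfl ?_ _ _)
    apply sq.hom_ext <;> simp

/-- The comparison map `Res c₁ w₁ ⟶ Res c w`. -/
noncomputable def outHom : Res c₁ w₁ ⟶ Res c w :=
  ObjectProperty.homMk { app := fun T₂ => ↾fun (x : Pt c₁ w₁ T₂.unop) => Pt.out f hf ξ sq s hs sqW x
                         naturality := by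
                          intro T₂ T₃ k
                          ext x
                          refine Pt.ext (Category.assoc _ _ _) fun {T₄} a b h1 h2 => ?_
                          refine congrArg (g.hom.app (op T₄)) (Pt.F_congr (x := x) rfl _ _ _ _ rfl ?_ _ _)
                          apply sq.hom_ext
                          · rw [sq.lift_fst, sq.lift_fst]
                            exact (Category.assoc _ _ _).symm
                          · rw [sq.lift_snd, sq.lift_snd] }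

theorem outHom_app {T₂ : Over S} (x : Pt c₁ w₁ T₂) :
    (outHom f hf ξ sq s hs sqW).hom.app (op T₂) x = Pt.out f hf ξ sq s hs sqW x := rfl

/-- The base change of `Res f` along a point of `Res c w'`. -/
theorem isPullback_point : IsPullback (outHom f hf ξ sq s hs sqW) (π c₁ w₁) (map c f hf) ξ.hom := by
  have key : ∀ {T₂ : Over S} (x : Pt c₁ w₁ T₂), (Pt.out f hf ξ sq s hs sqW x).map f hf = ξ.res x.t := by
    intro T₂ x
    refine Pt.ext rfl fun {T₃} a b h1 h2 => ?_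
    have := lift_aux f ξ sq s hs sqW (x.F a (sq.lift (a ≫ x.t) b (by rw [Category.assoc]; exact h1))
      (sq.lift_fst _ _ _).symm) _ (x.w_F _ _ _)
    refine this.trans (Pt.F_congr rfl _ _ _ _ (sq.lift_fst _ _ _) (sq.lift_snd _ _ _) _ _)
  refine (K606.PshBasic.isPullback_sheaf_iff_app _ _ _ _).2 ⟨fun T₂ x => ?_, fun T₂ x y hxy hxy' => ?_, fun T₂ x y hxy => ?_⟩
  · exact (key (x : Pt c₁ w₁ T₂)).trans (Pt.hom_app ξ _).symm
  · obtain ⟨x, rfl⟩ : ∃ x' : Pt c₁ w₁ T₂, x' = x := ⟨x, rfl⟩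
    obtain ⟨y, rfl⟩ : ∃ y' : Pt c₁ w₁ T₂, y' = y := ⟨y, rfl⟩
    have ht : x.t = y.t := congrArg ULift.down hxy'
    refine Pt.ext ht fun {T₃} a b h1 h2 => ?_
    refine K595.Sections.section_ext sqW ?_ ?_
    · have h3 : a ≫ (x.t ≫ ξ.t) = (b ≫ q) ≫ c := by
        rw [← Category.assoc, h1, Category.assoc, sq.w, Category.assoc]
      have h4 : a ≫ (y.t ≫ ξ.t) = (b ≫ q) ≫ c := by
        rw [← Category.assoc, h2, Category.assoc, sq.w, Category.assoc]
      have h5 : (Pt.out f hf ξ sq s hs sqW x).F a (b ≫ q) h3 = (Pt.out f hf ξ sq s hs sqW y).F a (b ≫ q) h4 :=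
        Pt.F_congr hxy _ _ _ _ rfl rfl _ _
      have h6 : sq.lift (a ≫ x.t) (b ≫ q) (by rw [Category.assoc]; exact h3) = b := by
        apply sq.hom_ext
        · rw [sq.lift_fst, h1]
        · rw [sq.lift_snd]
      have h7 : sq.lift (a ≫ y.t) (b ≫ q) (by rw [Category.assoc]; exact h4) = b := by
        apply sq.hom_ext
        · rw [sq.lift_fst, h2]
        · rw [sq.lift_snd]
      refine Eq.trans ?_ (h5.trans ?_)
      · exact congrArg (g.hom.app (op T₃)) (Pt.F_congr rfl _ _ _ _ rfl h6.symm _ _)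
      · exact congrArg (g.hom.app (op T₃)) (Pt.F_congr rfl _ _ _ _ rfl h7 _ _)
    · rw [x.w_F, y.w_F]
  · obtain ⟨x, rfl⟩ : ∃ x' : Pt c w T₂, x' = x := ⟨x, rfl⟩
    obtain ⟨y⟩ := y
    obtain ⟨y, rfl⟩ : ∃ y' : T₂ ⟶ T₁, y' = y := ⟨y, rfl⟩
    have hxy2 : x.map f hf = ξ.res y := hxy.trans (Pt.hom_app ξ y)
    have ht : x.t = y ≫ ξ.t := congrArg Pt.t hxy2
    have hex : ∀ (T₃ : Over S) (a : T₃ ⟶ T₂) (b : T₃ ⟶ Z₁) (h : a ≫ y = b ≫ c₁),
        ∃ z : W₁.obj.obj (op T₃), g.hom.app _ z = x.F a (b ≫ q) (by rw [ht, ← Category.assoc, h, Category.assoc, sq.w, Category.assoc]) ∧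
          w₁.hom.app _ z = (⟨b⟩ : ((yon S).obj Z₁).obj.obj (op T₃)) := by
      intro T₃ a b h
      refine K595.Sections.exists_section sqW _ _ ?_
      rw [yE_app, hs, Pt.nat]
      have h3 : a ≫ (x.map f hf).t = (b ≫ q) ≫ c := by
        change a ≫ x.t = _
        rw [ht, ← Category.assoc, h, Category.assoc, sq.w, Category.assoc]
      have h8 := Pt.F_congr hxy2 a a (b ≫ q) (b ≫ q) rfl rfl h3 (by rw [← hxy2]; exact h3)
      rw [Pt.map_F, Pt.res_F] at h8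
      refine h8.trans (Pt.F_congr rfl _ _ _ _ h rfl _ _)
    choose F hF1 hF2 using hex
    let z : Pt c₁ w₁ T₂ :=
      { t := y
        F := fun {T₃} a b h => F T₃ a b h
        w_F := fun {T₃} a b h => hF2 T₃ a b h
        nat := fun {T₃ T₄} k a b h => by
          refine K595.Sections.section_ext sqW ?_ ?_
          · rw [NatTrans.naturality_apply, hF1, hF1, Pt.nat]
            exact Pt.F_congr rfl _ _ _ _ rfl (Category.assoc _ _ _).symm _ _
          · rw [NatTrans.naturality_apply, hF2, hF2]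
            rfl }
    refine ⟨(z : (Res c₁ w₁).obj.obj (op T₂)), ?_, rfl⟩
    refine Pt.ext ht.symm fun {T₃} a b h1 h2 => ?_
    refine (hF1 T₃ a (sq.lift (a ≫ y) b (by rw [Category.assoc]; exact h1)) (sq.lift_fst _ _ _).symm).trans ?_
    exact Pt.F_congr rfl _ _ _ _ rfl (sq.lift_snd _ _ _) _ _

end point

/-! ### base change on `T` -/

/-- The point of `Res c (𝟙 h_Z)` given by `t : T₁ ⟶ T`. -/
def Pt.unit (c : Z ⟶ T) {T₁ : Over S} (t : T₁ ⟶ T) : Pt c (𝟙 ((yon S).obj Z)) T₁ where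
  t := t
  F {T₂} a b h := (⟨b⟩ : ((yon S).obj Z).obj.obj (op T₂))
  w_F a b h := rfl
  nat g a b h := rfl

theorem Pt.eq_unit {T₁ : Over S} (x : Pt c (𝟙 ((yon S).obj Z)) T₁) : x = Pt.unit c x.t :=
  Pt.ext rfl fun a b h1 h2 => x.w_F a b h1

instance isIso_π_id : IsIso (π c (𝟙 ((yon S).obj Z))) := by
  let i : (yon S).obj T ⟶ Res c (𝟙 ((yon S).obj Z)) := (Pt.unit c (𝟙 T)).hom
  refine ⟨i, ?_, ?_⟩
  · ext T₁ x
    obtain ⟨x, rfl⟩ : ∃ x' : Pt c (𝟙 ((yon S).obj Z)) T₁.unop, x' = x := ⟨x, rfl⟩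
    change i.hom.app (op T₁.unop) (⟨x.t⟩ : ((yon S).obj T).obj.obj (op T₁.unop)) = x
    rw [Pt.hom_app]
    conv_rhs => rw [x.eq_unit]
    exact Pt.ext (Category.comp_id _) fun a b h1 h2 => rfl
  · rw [Pt.hom_π]
    exact (yon S).map_id T

section base

variable {W : Sp S} {w : W ⟶ (yon S).obj Z} {T₁ Z₁ : Over S} {c₁ : Z₁ ⟶ T₁} {q : Z₁ ⟶ Z} {t : T₁ ⟶ T}
  (sq : IsPullback c₁ q t c) {W₁ : Sp S} {g : W₁ ⟶ W} {w₁ : W₁ ⟶ (yon S).obj Z₁}
  (sqW : IsPullback g w₁ w ((yon S).map q))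

theorem yE_yon_map {X Y : Over S} (k : X ⟶ Y) : yE ((yon S).map k) = (⟨k⟩ : ((yon S).obj Y).obj.obj (op X)) :=
  congrArg ULift.up (Category.id_comp k)

/-- The map `Res c₁ w₁ ⟶ Res c w` for a base change `t` of `T`. -/
noncomputable def baseHom : Res c₁ w₁ ⟶ Res c w :=
  outHom w (Category.comp_id _) (Pt.unit c t) sq ((yon S).map q) (yE_yon_map q) sqW

/-- **Base change for Weil restriction**: `Res c₁ w₁ = h_{T₁} ×_{h_T} Res c w`. -/
theorem isPullback_base : IsPullback (baseHom sq sqW) (π c₁ w₁) (π c w) ((yon S).map t) := by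
  have h := isPullback_point w (Category.comp_id _) (Pt.unit c t) sq ((yon S).map q) (yE_yon_map q) sqW
  exact h.of_iso (Iso.refl _) (Iso.refl _) (Iso.refl _) (asIso (π c (𝟙 ((yon S).obj Z))))
    (by simp [baseHom]) (by simp) (by simp [Wr.map_π]) (by simp [Pt.hom_π, Pt.unit])

end base

/-! ### fibre products -/

section fib

variable {W₁ W₂ W₃ W₄ : Sp S} {w₁ : W₁ ⟶ (yon S).obj Z} {w₂ : W₂ ⟶ (yon S).obj Z} {w₃ : W₃ ⟶ (yon S).obj Z}
  {w₄ : W₄ ⟶ (yon S).obj Z} {a : W₁ ⟶ W₂} {b : W₁ ⟶ W₃} {f : W₂ ⟶ W₄} {g : W₃ ⟶ W₄}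

theorem isPullback_map (c : Z ⟶ T) (sq : IsPullback a b f g) (ha : a ≫ w₂ = w₁) (hb : b ≫ w₃ = w₁) (hf : f ≫ w₄ = w₂)
    (hg : g ≫ w₄ = w₃) : IsPullback (Wr.map c a ha) (Wr.map c b hb) (Wr.map c f hf) (Wr.map c g hg) := by
  refine (K606.PshBasic.isPullback_sheaf_iff_app _ _ _ _).2 ⟨fun T₂ x => ?_, fun T₂ x y hxy hxy' => ?_, fun T₂ x y hxy => ?_⟩
  · obtain ⟨x, rfl⟩ : ∃ x' : Pt c w₁ T₂, x' = x := ⟨x, rfl⟩
    refine Pt.ext rfl fun {T₃} k l h1 h2 => ?_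
    exact congrArg (fun m => m.hom.app (op T₃) (x.F k l h1)) sq.w
  · obtain ⟨x, rfl⟩ : ∃ x' : Pt c w₁ T₂, x' = x := ⟨x, rfl⟩
    obtain ⟨y, rfl⟩ : ∃ y' : Pt c w₁ T₂, y' = y := ⟨y, rfl⟩
    have h0 : x.map a ha = y.map a ha := hxy
    have h0' : x.map b hb = y.map b hb := hxy'
    have ht := congrArg Pt.t h0
    exact Pt.ext ht fun {T₃} k l h1 h2 => K595.Sections.section_ext sq (Pt.F_congr h0 k k l l rfl rfl h1 h2)
      (Pt.F_congr h0' k k l l rfl rfl h1 h2)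
  · obtain ⟨x, rfl⟩ : ∃ x' : Pt c w₂ T₂, x' = x := ⟨x, rfl⟩
    obtain ⟨y, rfl⟩ : ∃ y' : Pt c w₃ T₂, y' = y := ⟨y, rfl⟩
    have h0 : x.map f hf = y.map g hg := hxy
    have ht : x.t = y.t := by
      have := congrArg Pt.t h0
      exact this
    have hex : ∀ (T₃ : Over S) (k : T₃ ⟶ T₂) (l : T₃ ⟶ Z) (h : k ≫ x.t = l ≫ c),
        ∃ z : W₁.obj.obj (op T₃), a.hom.app _ z = x.F k l h ∧ b.hom.app _ z = y.F k l (by rw [← ht]; exact h) := by
      intro T₃ k l h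
      exact K595.Sections.exists_section sq _ _ (Pt.F_congr h0 k k l l rfl rfl h (by
        change k ≫ y.t = _
        rw [← ht]; exact h))
    choose F hF1 hF2 using hex
    let z : Pt c w₁ T₂ :=
      { t := x.t
        F := fun {T₃} k l h => F T₃ k l h
        w_F := fun {T₃} k l h => by
          have h3 : w₁.hom.app (op T₃) (F T₃ k l h) = w₂.hom.app (op T₃) (a.hom.app (op T₃) (F T₃ k l h)) :=
            congrArg (fun m => m.hom.app (op T₃) (F T₃ k l h)) ha.symm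
          rw [h3, hF1, x.w_F]
        nat := fun {T₃ T₄} m k l h => by
          refine K595.Sections.section_ext sq ?_ ?_
          · rw [NatTrans.naturality_apply, hF1, hF1, Pt.nat]
          · rw [NatTrans.naturality_apply, hF2, hF2, Pt.nat] }
    exact ⟨(z : (Res c w₁).obj.obj (op T₂)), Pt.ext rfl fun {T₃} k l h1 h2 => hF1 T₃ k l h1,
      Pt.ext ht fun {T₃} k l h1 h2 => hF2 T₃ k l h1⟩

end fib

end K893.Wr
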