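import Groth.Agent.Gerb.K893.Wr7
import Groth.Agent.AlgSp.K634.SmoothLoc
import Groth.Agent.AlgSp.K613.Chart

/-!
# Weil restriction of algebraic spaces: locally of finite presentation, smooth, etale morphisms
-/

set_option autoImplicit false
universe u
open CategoryTheory CategoryTheory.Limits AlgebraicGeometry Opposite

namespace K893.Wr

open AlgSp K598.Site

variable {S : Scheme.{u}} {Z T : Over S} {c : Z ⟶ T}

section main

variable [IsFinite c.left] [Flat c.left] [LocallyOfFinitePresentation c.left]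
  {W W' : Sp S} {w : W ⟶ (yon S).obj Z} {w' : W' ⟶ (yon S).obj Z}

theorem locP_lfp_π (hW : IsAlgSpace W) (hw : LocP @LocallyOfFinitePresentation w) :
    LocP @LocallyOfFinitePresentation (π c w) :=
  (K601.RelLimSp.locP_lfp_iff (isAlgSpace_Res hW) (IsAlgSpace.yon_obj T) _).2
    (isRelLimitPreserving_π c w ((K601.RelLimSp.locP_lfp_iff hW (IsAlgSpace.yon_obj Z) w).1 hw))

theorem locP_smooth_π (hW : IsAlgSpace W) (hw : LocP @Smooth w) : LocP @Smooth (π c w) := by
  refine K635.EtCrit.locP_smooth (locP_lfp_π hW (K597.locP_mono (fun _ _ _ h => by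
    have : Smooth _ := h; infer_instance) hw)) (smooth_π inferInstance ?_)
  rw [K634.SmoothLoc.smooth_iff_locP hW (IsAlgSpace.yon_obj Z)]
  exact K597.locP_mono (fun _ _ g h => ((Groth.Agent.S1488.result g).1 h).2) hw

theorem locP_etale_π (hW : IsAlgSpace W) (hw : LocP @Etale w) : LocP @Etale (π c w) := by
  have h1 : IsEtaleMor w := K597.isEtaleMor_of_locP_etale K597.etLoc_etale (IsAlgSpace.yon_obj Z) hw
  obtain ⟨h2, h3⟩ := (K635.EtCrit.isEtaleMor_iff hW (IsAlgSpace.yon_obj Z) w).1 h1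
  exact K597.locP_etale_of_isEtaleMor ((K635.EtCrit.isEtaleMor_iff (isAlgSpace_Res hW) (IsAlgSpace.yon_obj T) _).2
    ⟨locP_lfp_π hW h2, etale_π inferInstance h3⟩)

/-- From the structure maps to maps between Weil restrictions. -/
theorem locP_map_of_π {P : MorphismProperty Scheme.{u}} (hP : K597.EtLoc P) [P.IsStableUnderBaseChange]
    (hπ : ∀ {Z₁ T₁ : Over S} (c₁ : Z₁ ⟶ T₁) [IsFinite c₁.left] [Flat c₁.left] [LocallyOfFinitePresentation c₁.left]
      {W₁ : Sp S} (w₁ : W₁ ⟶ (yon S).obj Z₁), IsAlgSpace W₁ → LocP P w₁ → LocP P (π c₁ w₁))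
    (hW : IsAlgSpace W) (hW' : IsAlgSpace W') (f : W ⟶ W') (hf : f ≫ w' = w) (h : LocP P f) :
    LocP P (Wr.map c f hf) := by
  have hR : IsAlgSpace (Res c w) := isAlgSpace_Res hW
  have hR' : IsAlgSpace (Res c w') := isAlgSpace_Res hW'
  obtain ⟨V, ξ₀, h1, h2⟩ := hR'.atlas
  obtain ⟨ξ, rfl⟩ := exists_pt ξ₀
  have := finite_bcP (c := c) ξ.t
  have := flat_bcP (c := c) ξ.t
  have := lfp_bcP (c := c) ξ.t
  have sq := bc_sq c ξ.t
  let s : (yon S).obj (bcO c ξ.t) ⟶ W' := yE.symm (ξ.F (bcP c ξ.t) (bcQ c ξ.t) sq.w)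
  have sqW := IsPullback.of_hasPullback f s
  have hW₁ : IsAlgSpace (pullback f s) :=
    K613.Chart.isAlgSpace_of_isPullback hW'.diag hW (IsAlgSpace.yon_obj _) sqW
  have hw₁ : LocP P (pullback.snd f s) :=
    K597.locP_bc hP sqW hW.hasAtlas hW'.hasAtlas (IsAlgSpace.yon_obj _).hasAtlas h
  exact K597.locP_of_target hP (isPullback_point f hf ξ sq s (Equiv.apply_symm_apply _ _) sqW) hR.hasAtlas
    (IsAlgSpace.yon_obj V).hasAtlas h1 h2 (hπ (bcP c ξ.t) (pullback.snd f s) hW₁ hw₁)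

/-- **Weil restriction preserves maps of algebraic spaces that are locally of finite presentation.** -/
theorem locP_lfp_map (hW : IsAlgSpace W) (hW' : IsAlgSpace W') (f : W ⟶ W') (hf : f ≫ w' = w)
    (h : LocP @LocallyOfFinitePresentation f) : LocP @LocallyOfFinitePresentation (Wr.map c f hf) :=
  locP_map_of_π K597.etLoc_lfp (fun c₁ _ _ _ _ w₁ h1 h2 => locP_lfp_π h1 h2) hW hW' f hf h

theorem locP_smooth_map (hW : IsAlgSpace W) (hW' : IsAlgSpace W') (f : W ⟶ W') (hf : f ≫ w' = w)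
    (h : LocP @Smooth f) : LocP @Smooth (Wr.map c f hf) :=
  locP_map_of_π K597.etLoc_smooth (fun c₁ _ _ _ _ w₁ h1 h2 => locP_smooth_π h1 h2) hW hW' f hf h

theorem locP_etale_map (hW : IsAlgSpace W) (hW' : IsAlgSpace W') (f : W ⟶ W') (hf : f ≫ w' = w)
    (h : LocP @Etale f) : LocP @Etale (Wr.map c f hf) :=
  locP_map_of_π K597.etLoc_etale (fun c₁ _ _ _ _ w₁ h1 h2 => locP_etale_π h1 h2) hW hW' f hf h

end main

end K893.Wr
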