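import Groth.Agent.Gerb.K893.Dict
import Groth.Agent.AlgSp.K606.PshBasic
import Groth.Prelude.Def_AlgSt3

/-!
# Base change squares of representing spaces (helper893)

For `y : (Sch/U) ⟶ 𝒴`, `f : 𝒳 ⟶ 𝒴`, `g : V ⟶ U`, `F` representing `U ×_𝒴 𝒳` and `G` representing `V ×_𝒴 𝒳`
there is a pullback square `G = F ×_{h_U} h_V`.
-/

set_option autoImplicit false
set_option backward.isDefEq.respectTransparency false
set_option backward.isDefEq.respectTransparency.types false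

universe v₄ u₄ v₃ u₃ v₂ u₂ v u

open CategoryTheory AlgebraicGeometry Opposite K895.Fib

namespace K893.BC

variable {S : Scheme.{u}} {𝒳 : BasedCategory.{v₂, u₂} (Over S)} {𝒴 : BasedCategory.{v₃, u₃} (Over S)}
  {f : 𝒳 ⥤ᵇ 𝒴} {U V : Over S} {y : FibCat.overCat U ⥤ᵇ 𝒴} {g : V ⟶ U} {F G : AlgSp.Sp S}

theorem exists_isPullback (e : AlgSt.ofSp F ⥤ᵇ FibCat.fp y f) (he : FibCat.IsEquivOver e)
    (e' : AlgSt.ofSp G ⥤ᵇ FibCat.fp (BasedFunctor.comp (AlgSt.overMap g) y) f) (he' : FibCat.IsEquivOver e') :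
    ∃ π : G ⟶ F, IsPullback π (AlgSt.spMapOfOver (BasedFunctor.comp e' (FibCat.fpFst _ f)))
      (AlgSt.spMapOfOver (BasedFunctor.comp e (FibCat.fpFst y f))) ((AlgSp.yon S).map g) ∧
      Nonempty (BasedFunctor.comp (AlgSt.ofSpMap π) e ≅
        BasedFunctor.comp e' (K734.Fib.fpPreL (AlgSt.overMap g) y f)) := by
  let H : FibCat.fp (BasedFunctor.comp (AlgSt.overMap g) y) f ⥤ᵇ FibCat.fp y f :=
    K734.Fib.fpPreL (AlgSt.overMap g) y f
  obtain ⟨k, hk, ⟨α⟩, ⟨β⟩⟩ := K734.Fib.exists_inverse he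
  let Φ : AlgSt.ofSp G ⥤ᵇ AlgSt.ofSp F := BasedFunctor.comp e' (BasedFunctor.comp H k)
  obtain ⟨i⟩ := K735.Rep.exists_iso_spMap Φ
  let π : G ⟶ F := K735.Rep.spMap Φ
  let j : BasedFunctor.comp (AlgSt.ofSpMap π) e ≅ BasedFunctor.comp e' H :=
    K734.Fib.wr i.symm e ≪≫ (K734.Fib.wl (BasedFunctor.comp e' H) β :
      BasedFunctor.comp (BasedFunctor.comp e' H) (BasedFunctor.comp k e) ≅ _)
  -- the key compatibility
  have key : ∀ {T : Over S} {s : G.obj.obj (op T)} {v : T ⟶ V} {ζ : 𝒳.obj}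
      {φ : y.obj (Over.mk (v ≫ g)) ≅ f.obj ζ} {hφ : 𝒴.p.IsHomLift (𝟙 T) φ.hom},
      K893.Dict.Is e' T s v ζ φ hφ → K893.Dict.Is e T (π.hom.app (op T) s) (v ≫ g) ζ φ hφ := by
    intro T s v ζ φ hφ ⟨a, ha⟩
    have h0 : (H.obj (K893.Dict.obj (BasedFunctor.comp (AlgSt.overMap g) y) f v ζ φ hφ)).obj.iso.hom = φ.hom := by
      have h1 := K734.Fib.fpMap_obj_iso (F := y) (G := f) (AlgSt.overMap g) (BasedFunctor.id _) (BasedFunctor.id _)
        (Iso.refl _) (Iso.refl _) (K893.Dict.obj (BasedFunctor.comp (AlgSt.overMap g) y) f v ζ φ hφ)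
      have h2 := congrArg (fun t => t.hom) h1
      refine h2.trans ?_
      simp only [Iso.trans_hom, Iso.symm_hom]
      erw [Category.id_comp, Category.comp_id]
      rfl
    let c : H.obj (K893.Dict.obj (BasedFunctor.comp (AlgSt.overMap g) y) f v ζ φ hφ) ≅
        K893.Dict.obj y f (v ≫ g) ζ φ hφ := K734.Fib.mkIsoFp (Iso.refl _) (Iso.refl _) (by
      erw [y.toFunctor.map_id, f.toFunctor.map_id]
      rw [Category.id_comp, Category.comp_id]
      exact h0.symm)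
    have hc : (FibCat.fp y f).p.IsHomLift (𝟙 T) c.hom := by
      refine IsHomLift.of_fac' _ _ _ rfl rfl ?_
      simp
      rfl
    refine ⟨(K734.Fib.app j ⟨T, s⟩) ≪≫ H.mapIso a ≪≫ c, ?_⟩
    have h1 : (FibCat.fp y f).p.IsHomLift (𝟙 T) (K734.Fib.app j ⟨T, s⟩).hom :=
      (K734.Fib.app_vert j ⟨T, s⟩).lift (BasedFunctor.w_obj (BasedFunctor.comp (AlgSt.ofSpMap π) e) ⟨T, s⟩)
    exact lift_id_comp h1 (lift_id_comp (lift_map H ha) hc)
  refine ⟨π, (K606.PshBasic.isPullback_sheaf_iff_app _ _ _ _).2 ⟨fun T s => ?_, fun T s s' h1 h2 => ?_,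
    fun T s v h => ?_⟩, ⟨j⟩⟩
  · obtain ⟨v, ζ, φ, hφ, hζ, hI⟩ := K893.Dict.exists_obj e' T s
    have h1 := (key hI).app
    have h2 := hI.app
    rw [h1, h2]
    rfl
  · obtain ⟨v, ζ, φ, hφ, hζ, hI⟩ := K893.Dict.exists_obj e' T s
    obtain ⟨v', ζ', φ', hφ', hζ', hI'⟩ := K893.Dict.exists_obj e' T s'
    have h3 : v = v' := by
      rw [hI.app, hI'.app] at h2
      exact congrArg ULift.down h2
    subst h3
    have h4 := key hI
    have h5 := key hI'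
    rw [h1] at h4
    obtain ⟨a, ha, w⟩ := h4.exists_hom h5
    exact (K893.Dict.Is.of_iso hI a w).unique he' hI'
  · obtain ⟨v⟩ := v
    obtain ⟨w, ζ, φ, hφ, hζ, hI⟩ := K893.Dict.exists_obj e T s
    have h1 : w = v ≫ g := by
      have h2 := hI.app
      rw [h] at h2
      exact (congrArg ULift.down h2).symm
    subst h1
    obtain ⟨s', hs'⟩ := K893.Dict.exists_sec he' v ζ φ hφ
    exact ⟨s', (key hs').unique he hI, hs'.app⟩

/-- The same square seen from the other factor: `F` represents `U ×_𝒴 V`, `F'` represents `U ×_𝒴 V'` for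
`g : V' ⟶ V`; then `F' = F ×_{h_V} h_{V'}` compatibly with the projections to `h_U`. -/
theorem exists_isPullback_right {𝒴 : BasedCategory.{v₃, u₃} (Over S)} {U V V' : Over S}
    {y : FibCat.overCat U ⥤ᵇ 𝒴} {v : FibCat.overCat V ⥤ᵇ 𝒴} {g : V' ⟶ V} {F F' : AlgSp.Sp S}
    (e : AlgSt.ofSp F ⥤ᵇ FibCat.fp y v) (he : FibCat.IsEquivOver e)
    (e' : AlgSt.ofSp F' ⥤ᵇ FibCat.fp y (BasedFunctor.comp (AlgSt.overMap g) v)) (he' : FibCat.IsEquivOver e') :
    ∃ π : F' ⟶ F,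
      IsPullback π (AlgSt.spMapOfOver (BasedFunctor.comp e' (FibCat.fpSnd y (BasedFunctor.comp (AlgSt.overMap g) v))))
        (AlgSt.spMapOfOver (BasedFunctor.comp e (FibCat.fpSnd y v))) ((AlgSp.yon S).map g) ∧
      AlgSt.spMapOfOver (BasedFunctor.comp e' (FibCat.fpFst y (BasedFunctor.comp (AlgSt.overMap g) v))) =
        π ≫ AlgSt.spMapOfOver (BasedFunctor.comp e (FibCat.fpFst y v)) := by
  let es : AlgSt.ofSp F ⥤ᵇ FibCat.fp v y := BasedFunctor.comp e (K734.Fib.fpSwap y v)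
  have hes : FibCat.IsEquivOver es := K734.Fib.isEquivOver_comp he (K734.Fib.isEquivOver_fpSwap y v)
  let es' : AlgSt.ofSp F' ⥤ᵇ FibCat.fp (BasedFunctor.comp (AlgSt.overMap g) v) y :=
    BasedFunctor.comp e' (K734.Fib.fpSwap y _)
  have hes' : FibCat.IsEquivOver es' := K734.Fib.isEquivOver_comp he' (K734.Fib.isEquivOver_fpSwap y _)
  obtain ⟨π, sq, ⟨j⟩⟩ := exists_isPullback es hes es' hes'
  refine ⟨π, sq, ?_⟩
  have h1 := K735.Rep.spMapOfOver_comp_ofSpMap π (BasedFunctor.comp es (FibCat.fpSnd v y))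
  have h2 : AlgSt.spMapOfOver (BasedFunctor.comp (BasedFunctor.comp (AlgSt.ofSpMap π) es) (FibCat.fpSnd v y)) =
      AlgSt.spMapOfOver (BasedFunctor.comp (BasedFunctor.comp es' (K734.Fib.fpPreL (AlgSt.overMap g) v y))
        (FibCat.fpSnd v y)) := K735.Rep.spMapOfOver_eq_of_iso (K734.Fib.wr j (FibCat.fpSnd v y))
  exact h2.symm.trans h1

end K893.BC
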