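import Groth.Agent.AlgSt.K743.FppfDesc
import Groth.Agent.AlgSt.K747.AutO
import Groth.Agent.Stk.K751.FG
import Groth.Agent.AlgSt.K747.DiagRep
import Groth.Agent.AlgSp.K619.LocSurj

/-!
# Gerbes banded by a group scheme: the presheaves of isomorphisms are torsors

* `K893.Band.au`: the automorphism of an object over `W` given by a point `W ⟶ A` of the band.
* `K893.Band.tw`: twisting a section of `Isom(x₁, x₂)` by a point of `A`.
* `K893.Band.isPullback_act`: over a scheme `V` with a section of `Isom(x₁, x₂)`, the sheaf `Isom(x₁, x₂)` is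
  `V × A`.
-/

set_option autoImplicit false
set_option backward.isDefEq.respectTransparency false
set_option backward.isDefEq.respectTransparency.types false
universe w u

open CategoryTheory Opposite K734.Fib AlgebraicGeometry Limits K747.Sc K747

namespace K893.Band

variable {X : Scheme.{u}} {A : Over X} [GrpObj A] {𝒳 : BasedCategory.{u, w} (Over X)}
  (β : Gerb.Banding 𝒳 (yonedaGrpObj A))

/-- the automorphism of `x` given by a point of `A` -/
noncomputable def au {x : 𝒳.obj} {W : Over X} (h : 𝒳.p.obj x = W) (a : W ⟶ A) : x ⟶ x :=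
  (β.iso x (show ((yonedaGrpObj A).obj (op (𝒳.p.obj x)) : Type u) from (eqToHom h ≫ a))).hom.1

theorem au_lift {x : 𝒳.obj} {W : Over X} (h : 𝒳.p.obj x = W) (a : W ⟶ A) : 𝒳.p.IsHomLift (𝟙 W) (au β h a) := by
  subst h
  exact (β.iso x _).hom.2

theorem au_vert {x : 𝒳.obj} {W : Over X} (h : 𝒳.p.obj x = W) (a : W ⟶ A) : IsVert 𝒳 (au β h a) :=
  IsVert.of_lift (au_lift β h a)

theorem exists_au (h𝒳 : FibCat.IsFibGrpd 𝒳.p) {x : 𝒳.obj} {W : Over X} (h : 𝒳.p.obj x = W) (ψ : x ⟶ x)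
    (hψ : IsVert 𝒳 ψ) : ∃ a : W ⟶ A, au β h a = ψ := by
  subst h
  have : IsIso ψ := isIso_of_vert h𝒳 hψ
  obtain ⟨a, ha⟩ := (β.iso x).surjective (AutO.ofIso (asIso ψ) hψ)
  refine ⟨a, ?_⟩
  have h1 : (β.iso x a).hom.1 = ψ := by rw [ha]; rfl
  refine Eq.trans ?_ h1
  exact congrArg (fun k => (β.iso x k).hom.1) (Category.id_comp a)

theorem au_injective {x : 𝒳.obj} {W : Over X} (h : 𝒳.p.obj x = W) {a a' : W ⟶ A} (e : au β h a = au β h a') :
    a = a' := by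
  subst h
  have h1 : β.iso x a = β.iso x a' := by
    apply Iso.ext
    apply Functor.Fiber.hom_ext
    have e1 : ∀ b : 𝒳.p.obj x ⟶ A, au β rfl b = (β.iso x b).hom.1 := fun b => by
      exact congrArg (fun k => (β.iso x k).hom.1) (Category.id_comp b)
    rw [e1, e1] at e
    exact e
  exact (β.iso x).injective h1

theorem au_natural {x' x : 𝒳.obj} {W' W : Over X} (h' : 𝒳.p.obj x' = W') (h : 𝒳.p.obj x = W) (g : W' ⟶ W)
    (φ : x' ⟶ x) (hφ : 𝒳.p.IsHomLift g φ) (a : W ⟶ A) : au β h' (g ≫ a) ≫ φ = φ ≫ au β h a := by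
  subst h' h
  have hg : g = 𝒳.p.map φ := (K751.FG.map_eq_of_isHomLift φ hφ).symm
  subst hg
  have e1 : ∀ (y : 𝒳.obj) (b : 𝒳.p.obj y ⟶ A), au β rfl b = (β.iso y b).hom.1 := fun y b => by
    exact congrArg (fun k => (β.iso y k).hom.1) (Category.id_comp b)
  rw [e1, e1]
  exact β.natural φ a

section Tw

variable {T : Over X} {x₁ x₂ : FibCat.overCat T ⥤ᵇ 𝒳}

/-- twisting a section by a point of the band -/
noncomputable def tw {V : Over X} (s : Sec x₁ x₂ V) (a : V ⟶ A) : Sec x₁ x₂ V :=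
  ⟨s.t, s.u, au β (p_obj x₁ s.t) a ≫ s.φ, ((au_vert β _ a).comp s.vert).lift (p_obj x₁ s.t)⟩

theorem tw_isRes {V V' : Over X} {g : V' ⟶ V} {s : Sec x₁ x₂ V} {s' : Sec x₁ x₂ V'} (h : IsRes g s s') (a : V ⟶ A) :
    IsRes g (tw β s a) (tw β s' (g ≫ a)) := by
  refine ⟨h.ht, h.hu, ?_⟩
  change (au β (p_obj x₁ s'.t) (g ≫ a) ≫ s'.φ) ≫ x₂.map (om g s.u s'.u h.hu) =
    x₁.map (om g s.t s'.t h.ht) ≫ au β (p_obj x₁ s.t) a ≫ s.φ
  rw [Category.assoc, h.hφ, ← Category.assoc, au_natural β (p_obj x₁ s'.t) (p_obj x₁ s.t) g _ (om_lift x₁ g s.t s'.t h.ht) a,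
    Category.assoc]

theorem tw_injective (h𝒳 : FibCat.IsFibGrpd 𝒳.p) {V : Over X} (s : Sec x₁ x₂ V) {a a' : V ⟶ A} (h : tw β s a = tw β s a') : a = a' := by
  have h1 : au β (p_obj x₁ s.t) a ≫ s.φ = au β (p_obj x₁ s.t) a' ≫ s.φ := by
    have := h
    dsimp only [tw] at this
    injection this
  have : IsIso s.φ := isIso_of_vert h𝒳 s.vert
  exact au_injective β _ ((cancel_mono s.φ).1 h1)

theorem exists_tw (h𝒳 : FibCat.IsFibGrpd 𝒳.p) {V : Over X} (s r : Sec x₁ x₂ V) (ht : s.t = r.t) (hu : s.u = r.u) :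
    ∃ a : V ⟶ A, tw β s a = r := by
  obtain ⟨t, u, φ, o⟩ := r
  dsimp only at ht hu
  subst ht hu
  have : IsIso s.φ := isIso_of_vert h𝒳 s.vert
  have hφ : IsVert 𝒳 φ := IsVert.of_lift o
  obtain ⟨a, ha⟩ := exists_au β h𝒳 (p_obj x₁ s.t) (φ ≫ inv s.φ) (hφ.comp (IsVert.inv (e := asIso s.φ) s.vert))
  refine ⟨a, ?_⟩
  refine Sec.mk_congr ?_
  rw [ha, Category.assoc, IsIso.inv_hom_id, Category.comp_id]

variable (h𝒳 : FibCat.IsFibGrpd 𝒳.p)

/-- the action map on a section over `V` -/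
noncomputable def act {V : Over X} (s : Sec x₁ x₂ V) (hs : s.t = s.u) :
    (AlgSp.pyon X).obj (V ⨯ A) ⟶ I h𝒳 x₁ x₂ where
  app W := ↾fun g => ⟨⟨tw β (res h𝒳 (g.down ≫ Limits.prod.fst) s) (g.down ≫ Limits.prod.snd)⟩,
    (isRes_res h𝒳 (g.down ≫ Limits.prod.fst) s).diag hs⟩
  naturality W W' g := by
    ext k
    refine Eq.symm ((isoPsh_map_eq_iff.{u+1} h𝒳).2 ?_)
    have h1 := isRes_res h𝒳 (k.down ≫ Limits.prod.fst) s
    have h2 : IsRes ((g.unop ≫ k.down) ≫ Limits.prod.fst) s (res h𝒳 ((g.unop ≫ k.down) ≫ Limits.prod.fst) s) := isRes_res h𝒳 _ s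
    have h3 := h1.comp (isRes_res h𝒳 g.unop (res h𝒳 (k.down ≫ Limits.prod.fst) s))
    rw [← Category.assoc] at h3
    have h4 := h2.unique h𝒳 h3
    change IsRes g.unop (tw β (res h𝒳 (k.down ≫ Limits.prod.fst) s) (k.down ≫ Limits.prod.snd))
      (tw β (res h𝒳 ((g.unop ≫ k.down) ≫ Limits.prod.fst) s) ((g.unop ≫ k.down) ≫ Limits.prod.snd))
    rw [h4, Category.assoc]
    exact tw_isRes β (isRes_res h𝒳 g.unop _) _

theorem isPullback_act {V : Over X} (s : Sec x₁ x₂ V) (hs : s.t = s.u) :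
    IsPullback (act β h𝒳 s hs) ((AlgSp.pyon X).map (Limits.prod.fst : V ⨯ A ⟶ V)) (prI h𝒳 x₁ x₂)
      ((AlgSp.pyon X).map s.t) := by
  refine K739.Diag.isPullback_psh _ _ _ _ ?_ ?_ ?_
  · intro W g
    refine congrArg ULift.up ?_
    exact (isRes_res h𝒳 (g.down ≫ Limits.prod.fst) s).ht.symm
  · rintro W ⟨g⟩ ⟨g'⟩ h1 h2
    refine congrArg ULift.up ?_
    have h2' : g ≫ Limits.prod.fst = g' ≫ Limits.prod.fst := congrArg ULift.down h2
    have h1' : tw β (res h𝒳 (g ≫ Limits.prod.fst) s) (g ≫ Limits.prod.snd) =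
        tw β (res h𝒳 (g' ≫ Limits.prod.fst) s) (g' ≫ Limits.prod.snd) :=
      congrArg (fun k : (I h𝒳 x₁ x₂).obj (op W) => k.1.down) h1
    rw [h2'] at h1'
    exact Limits.prod.hom_ext h2' (tw_injective β h𝒳 _ h1')
  · rintro W r ⟨v⟩ h
    have h' : r.1.down.t = v ≫ s.t := congrArg ULift.down h
    have h1 := isRes_res h𝒳 v s
    obtain ⟨a, ha⟩ := exists_tw β h𝒳 (res h𝒳 v s) r.1.down (h1.ht.symm.trans h'.symm)
      (((h1.diag hs).symm.trans (h1.ht.symm.trans h'.symm)).trans r.2)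
    refine ⟨⟨prod.lift v a⟩, ?_, ?_⟩
    · apply Subtype.ext
      apply ULift.ext
      change tw β (res h𝒳 (prod.lift v a ≫ Limits.prod.fst) s) (prod.lift v a ≫ Limits.prod.snd) = r.1.down
      rw [prod.lift_fst, prod.lift_snd]
      exact ha
    · refine congrArg ULift.up ?_
      change prod.lift v a ≫ Limits.prod.fst = v
      exact prod.lift_fst _ _

end Tw

end K893.Band
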