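import Groth.Agent.Gerb.K893.Band
import Groth.Agent.S10104
import Groth.Agent.AlgSt.K734.RepSp

/-!
# Gerbes banded by a group scheme: the diagonal

* `K893.Band.exists_sec`: two objects of a gerbe over `T` are isomorphic over a flat surjective locally finitely
  presented `V ⟶ T`.
* `K893.Band.isom_rep`: the sheaf `Isom(x₁, x₂)` is an algebraic space with every property of `A ⟶ X` which is
  stable under base change and fppf local on the base.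
* `K893.Band.repByAlgSpWith_diag`.
-/

set_option autoImplicit false
set_option backward.isDefEq.respectTransparency false
set_option backward.isDefEq.respectTransparency.types false
universe w u

open CategoryTheory Opposite K734.Fib AlgebraicGeometry Limits K747.Sc K747

namespace K893.Band

variable {X : Scheme.{u}} {𝒳 : BasedCategory.{u, w} (Over X)}

theorem exists_span (hg : Gerb.LocSurjHom (QuotSh.J Scheme.fppfPrecoverage X) (FibCat.toSelf 𝒳))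
    {a₁ a₂ : 𝒳.obj} {T : Over X} (h1 : 𝒳.p.obj a₁ = T) (h2 : 𝒳.p.obj a₂ = T) :
    ∃ R ∈ AlgSp.J X T, ∀ ⦃V : Over X⦄ (f : V ⟶ T), R f → ∃ (a₀ : 𝒳.obj) (φ : a₀ ⟶ a₁) (ψ : a₀ ⟶ a₂),
      𝒳.p.IsHomLift f φ ∧ 𝒳.p.IsHomLift f ψ := by
  subst h1
  obtain ⟨R, hR, h⟩ := hg a₁ a₂ (eqToHom h2.symm) ((isVert_iff (𝒳 := FibCat.selfOver (Over X)).2 ⟨h2.symm, rfl⟩).lift rfl)
  refine ⟨R, hR, fun V f hf => ?_⟩
  obtain ⟨a₀, φ, ψ, h3, h4, -⟩ := h f hf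
  exact ⟨a₀, φ, ψ, h3, h4⟩

theorem exists_sec_of_span (h𝒳 : FibCat.IsFibGrpd 𝒳.p) {T V : Over X} {f : V ⟶ T} {x₁ x₂ : FibCat.overCat T ⥤ᵇ 𝒳}
    {a₀ : 𝒳.obj} {φ : a₀ ⟶ x₁.obj (Over.mk (𝟙 T))} {ψ : a₀ ⟶ x₂.obj (Over.mk (𝟙 T))}
    (hφ : 𝒳.p.IsHomLift f φ) (hψ : 𝒳.p.IsHomLift f ψ) : ∃ s : Sec x₁ x₂ V, s.t = f ∧ s.u = f := by
  have h1 := om_lift x₁ f (𝟙 T) f (Category.comp_id f)
  have h2 := om_lift x₂ f (𝟙 T) f (Category.comp_id f)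
  obtain ⟨χ, ⟨hχ, -⟩, -⟩ := Fib.existsUnique_fac h𝒳 hφ h1 (𝟙 V) (Category.id_comp f)
  have h3 : 𝒳.p.IsHomLift f (χ ≫ ψ) := Fib.isHomLift_id_comp hχ hψ
  obtain ⟨χ', ⟨hχ', -⟩, -⟩ := Fib.existsUnique_fac h𝒳 h2 h3 (𝟙 V) (Category.id_comp f)
  exact ⟨⟨f, f, χ', hχ'⟩, rfl, rfl⟩

/-- the map from `h_V` to the presheaf of isomorphisms given by a section over `V` -/
noncomputable def isoMap (h𝒳 : FibCat.IsFibGrpd 𝒳.p) {T V : Over X} {x₁ x₂ : FibCat.overCat T ⥤ᵇ 𝒳}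
    (s : Sec x₁ x₂ V) (hs : s.t = s.u) : (AlgSp.pyon X).obj V ⟶ I h𝒳 x₁ x₂ where
  app W := ↾fun g => ⟨⟨res h𝒳 g.down s⟩, (isRes_res h𝒳 g.down s).diag hs⟩
  naturality W W' g := by
    ext k
    refine Eq.symm ((isoPsh_map_eq_iff.{u+1} h𝒳).2 ?_)
    have h1 := isRes_res h𝒳 k.down s
    have h2 : IsRes (g.unop ≫ k.down) s (res h𝒳 (g.unop ≫ k.down) s) := isRes_res h𝒳 _ s
    have h3 := h1.comp (isRes_res h𝒳 g.unop (res h𝒳 k.down s))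
    have h4 := h2.unique h𝒳 h3
    change IsRes g.unop (res h𝒳 k.down s) (res h𝒳 (g.unop ≫ k.down) s)
    rw [h4]
    exact isRes_res h𝒳 g.unop _

theorem isoMap_prI (h𝒳 : FibCat.IsFibGrpd 𝒳.p) {T V : Over X} {x₁ x₂ : FibCat.overCat T ⥤ᵇ 𝒳}
    (s : Sec x₁ x₂ V) (hs : s.t = s.u) : isoMap h𝒳 s hs ≫ prI h𝒳 x₁ x₂ = (AlgSp.pyon X).map s.t := by
  ext W g
  exact congrArg ULift.up (isRes_res h𝒳 g.down s).ht.symm

theorem exists_sec (hs : Stk.IsPrestack (AlgSp.J X) 𝒳)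
    (hg : Gerb.LocSurjHom (QuotSh.J Scheme.fppfPrecoverage X) (FibCat.toSelf 𝒳))
    {T : Over X} (x₁ x₂ : FibCat.overCat T ⥤ᵇ 𝒳) : ∃ (V : Over X) (s : Sec x₁ x₂ V), s.t = s.u ∧ Flat s.t.left ∧
      LocallyOfFinitePresentation s.t.left ∧ Surjective s.t.left := by
  obtain ⟨R, hR, H⟩ := exists_span hg (p_obj x₁ (𝟙 T)) (p_obj x₂ (𝟙 T))
  have hI := isSheaf_I hs.1 Scheme.fppfPrecoverage hs x₁ x₂
  obtain ⟨ι, T', c, hR, hf, hp, hsj⟩ := K619.LocSurj.exists_family hR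
  let π : (⟨I hs.1 x₁ x₂, hI⟩ : AlgSp.Sp X) ⟶ (AlgSp.yon X).obj T := ObjectProperty.homMk (prI hs.1 x₁ x₂)
  have key : ∀ i, ∃ y : (AlgSp.yon X).obj (T' i) ⟶ (⟨I hs.1 x₁ x₂, hI⟩ : AlgSp.Sp X),
      y ≫ π = (AlgSp.yon X).map (c i) := by
    intro i
    obtain ⟨a₀, φ, ψ, hφ, hψ⟩ := H (c i) (hR i)
    obtain ⟨s, h1, h2⟩ := exists_sec_of_span hs.1 hφ hψ
    refine ⟨ObjectProperty.homMk (isoMap hs.1 s (h1.trans h2.symm)), ?_⟩
    apply ObjectProperty.hom_ext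
    refine (isoMap_prI hs.1 s (h1.trans h2.symm)).trans ?_
    rw [h1]
    rfl
  choose y hy using key
  obtain ⟨V, d, j, z, hjd, hjy, hj, hjs, hP⟩ := K619.LocSurj.exists_sigma
    (H := (⟨I hs.1 x₁ x₂, hI⟩ : AlgSp.Sp X)) T' c y
  have hz : z ≫ π = (AlgSp.yon X).map d := by
    have hV : ∀ i, (AlgSp.yon X).map (j i) ≫ (z ≫ π) = (AlgSp.yon X).map (j i) ≫ (AlgSp.yon X).map d := by
      intro i
      rw [← Category.assoc, hjy, ← Functor.map_comp, hjd, hy]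
    obtain ⟨w, -, hw⟩ := K613.Basic.glueFam (F := (AlgSp.yon X).obj T) T' j (fun i => have := hj i; inferInstance)
      (fun i => have := hj i; inferInstance) hjs (fun i => (AlgSp.yon X).map (j i) ≫ (AlgSp.yon X).map d)
      (fun i k R a b' hab => by
        simp only [← Category.assoc, ← Functor.map_comp, hab])
    exact (hw _ fun i => hV i).trans (hw _ fun i => rfl).symm
  let r : (I hs.1 x₁ x₂).obj (op V) := z.hom.app (op V) ⟨𝟙 V⟩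
  have hr : r.1.down.t = d := by
    have h1 := congrArg (fun k : (AlgSp.yon X).obj V ⟶ (AlgSp.yon X).obj T => (k.hom.app (op V) ⟨𝟙 V⟩).down) hz
    exact h1.trans (Category.id_comp d)
  refine ⟨V, r.1.down, r.2, ?_, ?_, ?_⟩
  · rw [hr]; exact hP @Flat hf
  · rw [hr]; exact hP @LocallyOfFinitePresentation hp
  · rw [hr]
    refine ⟨fun t => ?_⟩
    obtain ⟨i, t', ht'⟩ := hsj t
    refine ⟨(j i).left t', ?_⟩
    rw [← ht', ← Scheme.Hom.comp_apply, ← Over.comp_left, hjd]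

section Rep

variable {A : Over X} [GrpObj A] (β : Gerb.Banding 𝒳 (yonedaGrpObj A))
  {P : MorphismProperty (AlgSp.Sp X)}

include β in
theorem isom_rep (hbc : K734.Rep.StableBC P) (hloc : AlgSp.IsLocalOnBase AlgSp.IsFppfCover P) (hs : Stk.IsPrestack (AlgSp.J X) 𝒳)
    (hg : Gerb.LocSurjHom (QuotSh.J Scheme.fppfPrecoverage X) (FibCat.toSelf 𝒳)) {B : Over X} (hB : IsTerminal B)
    (hA : P ((AlgSp.yon X).map (hB.from A))) {T : Over X} (x₁ x₂ : FibCat.overCat T ⥤ᵇ 𝒳) :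
    ∃ hI : Presheaf.IsSheaf (AlgSp.J X) (I hs.1 x₁ x₂), AlgSp.IsAlgSpace (⟨I hs.1 x₁ x₂, hI⟩ : AlgSp.Sp X) ∧
      P (ObjectProperty.homMk (prI hs.1 x₁ x₂) : (⟨I hs.1 x₁ x₂, hI⟩ : AlgSp.Sp X) ⟶ (AlgSp.yon X).obj T) := by
  have hI := isSheaf_I hs.1 Scheme.fppfPrecoverage hs x₁ x₂
  obtain ⟨V, s, hs', hf, hp, hsj⟩ := exists_sec hs hg x₁ x₂
  have sq := isPullback_act β hs.1 s hs'
  have sq' : IsPullback (ObjectProperty.homMk (act β hs.1 s hs') : (AlgSp.yon X).obj (V ⨯ A) ⟶ (⟨I hs.1 x₁ x₂, hI⟩ : AlgSp.Sp X))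
      ((AlgSp.yon X).map (Limits.prod.fst : V ⨯ A ⟶ V))
      (ObjectProperty.homMk (prI hs.1 x₁ x₂) : (⟨I hs.1 x₁ x₂, hI⟩ : AlgSp.Sp X) ⟶ (AlgSp.yon X).obj T)
      ((AlgSp.yon X).map s.t) :=
    IsPullback.of_map_of_faithful (sheafToPresheaf (AlgSp.J X) (Type (u + 1))) sq
  have h104 : K743.FppfDesc.H104 X := fun F U p hp => Groth.Agent.S10104.result X F U p hp
  have hq : P ((AlgSp.yon X).map (Limits.prod.fst : V ⨯ A ⟶ V)) := by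
    have sq2 : IsPullback (Limits.prod.snd : V ⨯ A ⟶ A) (Limits.prod.fst : V ⨯ A ⟶ V) (hB.from A) (hB.from V) :=
      (IsPullback.of_isLimit_binaryFan_of_isTerminal (prodIsProd V A) hB).flip
    exact hbc (AlgSp.IsAlgSpace.yon_obj _) (AlgSp.IsAlgSpace.yon_obj _) (AlgSp.IsAlgSpace.yon_obj _)
      (AlgSp.IsAlgSpace.yon_obj _) _ _ _ _ (sq2.map (AlgSp.yon X)) hA
  exact ⟨hI, K743.FppfDesc.descend h104 hf hp hsj sq' (AlgSp.IsAlgSpace.yon_obj _),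
    K743.FppfDesc.prop_descend hloc h104 hf hp hsj sq' (AlgSp.IsAlgSpace.yon_obj _) hq⟩

include β in
theorem repByAlgSpWith_diag (hbc : K734.Rep.StableBC P) (hloc : AlgSp.IsLocalOnBase AlgSp.IsFppfCover P) (hs : Stk.IsPrestack (AlgSp.J X) 𝒳)
    (hg : Gerb.LocSurjHom (QuotSh.J Scheme.fppfPrecoverage X) (FibCat.toSelf 𝒳)) {B : Over X} (hB : IsTerminal B)
    (hA : P ((AlgSp.yon X).map (hB.from A))) : AlgSt.RepByAlgSpWith P (FibCat.diag (FibCat.toSelf 𝒳)) := by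
  refine (K734.Rep.repByAlgSpWith_algP_iff P).1 ?_
  have hr := hbc.respectsIso
  intro T y
  refine (Rep.with_iff (K734.Rep.algP P) _ (toDiag_isEquivOver.{u + 1} hs.1 y)).2 ?_
  obtain ⟨h1, h2, h3⟩ := isom_rep β hbc hloc hs hg hB hA (y1 y) (y2 y)
  exact ⟨h1, h2, h2, AlgSp.IsAlgSpace.yon_obj _, h3⟩

end Rep

end K893.Band
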