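import Groth.Agent.Gerb.K893.Band2
import Groth.Agent.AlgSt.K734.Props
import Groth.Agent.CurvSt.K742.Coprod
import Groth.Agent.AlgSt.K735.Fp

/-!
# From the presheaves of isomorphisms to charts

* `K893.Band.IsoP`: the property "all presheaves of isomorphisms are algebraic spaces with `P`".
* `K893.Band.repByAlgSpWith_of_isoP`: then `x : (Sch/U) ⟶ 𝒳` has `P` as soon as `U ⟶ X` has.
* `K893.Band.exists_chart`: a gerbe has an object over a flat surjective locally finitely presented scheme.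
-/

set_option autoImplicit false
set_option backward.isDefEq.respectTransparency false
set_option backward.isDefEq.respectTransparency.types false
universe v₂ w u

open CategoryTheory Opposite K734.Fib AlgebraicGeometry Limits K747.Sc K747

namespace K893.Band

variable {X : Scheme.{u}} {𝒳 : BasedCategory.{u, w} (Over X)}

section Cmp

variable (h𝒳 : FibCat.IsFibGrpd 𝒳.p) {T U : Over X} (y : FibCat.overCat T ⥤ᵇ 𝒳) (x : FibCat.overCat U ⥤ᵇ 𝒳)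

/-- `y` on `T × U` -/
noncomputable abbrev p1 : FibCat.overCat (T ⨯ U) ⥤ᵇ 𝒳 := BasedFunctor.comp (AlgSt.overMap (Limits.prod.fst : T ⨯ U ⟶ T)) y
/-- `x` on `T × U` -/
noncomputable abbrev p2 : FibCat.overCat (T ⨯ U) ⥤ᵇ 𝒳 := BasedFunctor.comp (AlgSt.overMap (Limits.prod.snd : T ⨯ U ⟶ U)) x

variable {y x} in
/-- a section of the fibre product from an isomorphism on `T × U` -/
noncomputable def toSec {V : Over X} (s : Sec (p1 y (U := U)) (p2 (T := T) x) V) : Sec y x V :=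
  ⟨s.t ≫ Limits.prod.fst, s.u ≫ Limits.prod.snd, s.φ, s.over⟩

theorem toSec_isRes {V V' : Over X} {g : V' ⟶ V} {s : Sec (p1 y (U := U)) (p2 (T := T) x) V}
    {s' : Sec (p1 y (U := U)) (p2 (T := T) x) V'} (h : IsRes g s s') : IsRes g (toSec s) (toSec s') := by
  obtain ⟨ht, hu, hφ⟩ := h
  refine ⟨?_, ?_, ?_⟩
  · change g ≫ s.t ≫ _ = s'.t ≫ _
    rw [← ht, Category.assoc]
  · change g ≫ s.u ≫ _ = s'.u ≫ _
    rw [← hu, Category.assoc]
  · exact hφ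

/-- the comparison map -/
noncomputable def cmp : I h𝒳 (p1 y (U := U)) (p2 (T := T) x) ⟶ P h𝒳 y x where
  app V := ↾fun s => ⟨toSec s.1.down⟩
  naturality V V' g := by
    ext s
    refine Eq.symm ((psh_map_eq_iff.{u+1} h𝒳).2 ?_)
    exact toSec_isRes y x (isRes_res h𝒳 g.unop s.1.down)

theorem cmp_bij (V : (Over X)ᵒᵖ) : Function.Bijective ((cmp h𝒳 y x).app V) := by
  constructor
  · rintro ⟨⟨⟨t, u, φ, o⟩⟩, h⟩ ⟨⟨⟨t', u', φ', o'⟩⟩, h'⟩ e
    dsimp only at h h'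
    subst h h'
    have e' : toSec (y := y) (x := x) ⟨t, t, φ, o⟩ = toSec ⟨t', t', φ', o'⟩ := congrArg ULift.down e
    have e1 : t = t' := by
      apply Limits.prod.hom_ext
      · exact congrArg Sec.t e'
      · exact congrArg Sec.u e'
    subst e1
    have e2 : φ = φ' := by
      dsimp only [toSec] at e'
      injection e'
    subst e2
    rfl
  · rintro ⟨⟨t, u, φ, o⟩⟩
    have key : ∃ k : V.unop ⟶ T ⨯ U, k ≫ Limits.prod.fst = t ∧ k ≫ Limits.prod.snd = u :=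
      ⟨prod.lift t u, prod.lift_fst _ _, prod.lift_snd _ _⟩
    obtain ⟨k, rfl, rfl⟩ := key
    exact ⟨⟨⟨⟨k, k, φ, o⟩⟩, rfl⟩, rfl⟩

instance isIso_cmp : IsIso (cmp h𝒳 y x) := by
  have : ∀ V, IsIso ((cmp h𝒳 y x).app V) := fun V => (isIso_iff_bijective _).2 (cmp_bij h𝒳 y x V)
  exact NatIso.isIso_of_isIso_app _

theorem cmp_prT : cmp h𝒳 y x ≫ prT h𝒳 y x = prI h𝒳 _ _ ≫ (AlgSp.pyon X).map Limits.prod.fst := rfl

end Cmp

/-- all presheaves of isomorphisms are algebraic spaces with `P` -/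
def IsoP (h𝒳 : FibCat.IsFibGrpd 𝒳.p) (P : MorphismProperty (AlgSp.Sp X)) : Prop :=
  ∀ {T : Over X} (x₁ x₂ : FibCat.overCat T ⥤ᵇ 𝒳),
    ∃ hI : Presheaf.IsSheaf (AlgSp.J X) (I h𝒳 x₁ x₂), AlgSp.IsAlgSpace (⟨I h𝒳 x₁ x₂, hI⟩ : AlgSp.Sp X) ∧
      P (ObjectProperty.homMk (prI h𝒳 x₁ x₂) : (⟨I h𝒳 x₁ x₂, hI⟩ : AlgSp.Sp X) ⟶ (AlgSp.yon X).obj T)

theorem repByAlgSpWith_of_isoP {h𝒳 : FibCat.IsFibGrpd 𝒳.p} {Q : MorphismProperty (AlgSp.Sp X)} (hQ : IsoP h𝒳 Q)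
    (hbc : K734.Rep.StableBC Q) (hcomp : K734.Rep.StableComp Q) {B : Over X} (hB : IsTerminal B)
    {U : Over X} (hU : Q ((AlgSp.yon X).map (hB.from U))) (x : FibCat.overCat U ⥤ᵇ 𝒳) :
    AlgSt.RepByAlgSpWith Q x := by
  refine (K734.Rep.repByAlgSpWith_algP_iff Q).1 ?_
  have hr := hbc.respectsIso
  intro T y
  refine (Rep.with_iff (K734.Rep.algP Q) _ (toFp_isEquivOver.{u + 1} h𝒳 y x)).2 ?_
  obtain ⟨h1, h2, h3⟩ := hQ (p1 y (U := U)) (p2 (T := T) x)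
  let i : I h𝒳 (p1 y (U := U)) (p2 (T := T) x) ≅ P h𝒳 y x := asIso (cmp h𝒳 y x)
  have hS : Presheaf.IsSheaf (AlgSp.J X) (P h𝒳 y x) := (Presheaf.isSheaf_of_iso_iff i).1 h1
  let j : (⟨I h𝒳 (p1 y (U := U)) (p2 (T := T) x), h1⟩ : AlgSp.Sp X) ≅ ⟨P h𝒳 y x, hS⟩ := ObjectProperty.isoMk _ i
  have hA : AlgSp.IsAlgSpace (⟨P h𝒳 y x, hS⟩ : AlgSp.Sp X) := h2.of_iso j
  have hfst : Q ((AlgSp.yon X).map (Limits.prod.fst : T ⨯ U ⟶ T)) := by
    have sq2 : IsPullback (Limits.prod.snd : T ⨯ U ⟶ U) (Limits.prod.fst : T ⨯ U ⟶ T) (hB.from U) (hB.from T) :=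
      (IsPullback.of_isLimit_binaryFan_of_isTerminal (prodIsProd T U) hB).flip
    exact hbc (AlgSp.IsAlgSpace.yon_obj _) (AlgSp.IsAlgSpace.yon_obj _) (AlgSp.IsAlgSpace.yon_obj _)
      (AlgSp.IsAlgSpace.yon_obj _) _ _ _ _ (sq2.map (AlgSp.yon X)) hU
  have h4 := hcomp h2 (AlgSp.IsAlgSpace.yon_obj _) (AlgSp.IsAlgSpace.yon_obj _) _ _ h3 hfst
  refine ⟨hS, hA, ?_⟩
  have h5 : K734.Rep.algP Q (j.hom ≫ (ObjectProperty.homMk (prT h𝒳 y x) : (⟨P h𝒳 y x, hS⟩ : AlgSp.Sp X) ⟶ (AlgSp.yon X).obj T)) :=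
    ⟨h2, AlgSp.IsAlgSpace.yon_obj _, h4⟩
  have h6 := (MorphismProperty.cancel_left_of_respectsIso (K734.Rep.algP Q) j.hom _).1 h5
  rw [← pMap_toFp_fst] at h6
  exact h6

/-- A stack with local objects has an object over a flat surjective locally finitely presented scheme. -/
theorem exists_chart {𝒴 : BasedCategory.{v₂, w} (Over X)} (hs : Stk.IsStack (QuotSh.J Scheme.fppfPrecoverage X) 𝒴)
    (hg : Gerb.LocSurjObj (QuotSh.J Scheme.fppfPrecoverage X) (FibCat.toSelf 𝒴)) :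
    ∃ (U : Over X) (_ : FibCat.overCat U ⥤ᵇ 𝒴), Flat U.hom ∧ LocallyOfFinitePresentation U.hom ∧ Surjective U.hom := by
  obtain ⟨R, hR, H⟩ := hg (Over.mk (𝟙 X))
  obtain ⟨ι, T', c, hR, hf, hp, hsj⟩ := K619.LocSurj.exists_family (T := (Over.mk (𝟙 X) : Over X)) hR
  have key : ∀ i, ∃ y : 𝒴.obj, 𝒴.p.obj y = T' i := by
    intro i
    obtain ⟨y, g, hg⟩ := H (c i) (hR i)
    exact ⟨y, IsHomLift.domain_eq (FibCat.selfOver (Over X)).p (c i) g⟩
  choose y hy using key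
  obtain ⟨z, -⟩ := K742.Cop.exists_functor (K742.Cop.zar_fppf X) (fun i => K735.Fp.yonF hs.1 (y i) (hy i)) hs
  have hh : ∀ i, (c i).left = (T' i).hom := fun i => by
    have h1 : (c i).left ≫ 𝟙 X = (T' i).hom := Over.w (c i)
    rw [← h1]
    exact (Category.comp_id _).symm
  refine ⟨K594.Cover.sig T', z, ?_, ?_, ?_⟩
  · exact IsZariskiLocalAtSource.sigmaDesc (P := @Flat) (fun i => hh i ▸ hf i)
  · exact IsZariskiLocalAtSource.sigmaDesc (P := @LocallyOfFinitePresentation) (fun i => hh i ▸ hp i)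
  · refine ⟨fun t => ?_⟩
    obtain ⟨i, t', ht'⟩ := hsj t
    refine ⟨(K594.Cover.sigι T' i).left t', ?_⟩
    rw [← Scheme.Hom.comp_apply, Over.w, ← hh]
    exact ht'

end K893.Band
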