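import Groth.Agent.Gerb.K893.Band3
import Groth.Agent.AlgSt.K742.EvQ2
import Groth.Agent.AlgSt.K742.EvQ3
import Groth.Agent.AlgSt.K743.FlatCover
import Groth.Agent.AlgSt.K743.BC
import Groth.Agent.AlgSt.K745.AtlasComp
import Groth.Agent.AlgSt.K738.RepSep
import Groth.Agent.AlgSp.K595.DiagRel
import Groth.Agent.AlgSp.K596.QC
import Groth.Agent.AlgSp.K627.FpqcQC
import Groth.Agent.AlgSp.K628.Props2
import Groth.Agent.AlgSt.K747.PreOfIso
import Groth.Agent.AlgSt.K744.AlgOver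
import Groth.Agent.AlgSp.K642.Charts
import Groth.Agent.AlgSp.K627.FpqcFin
import Groth.Agent.AlgSt.K738.YonProps

/-!
# Banded gerbes are algebraic stacks, relative to the Artin theorem for flat charts
-/

set_option autoImplicit false
set_option backward.isDefEq.respectTransparency false
set_option backward.isDefEq.respectTransparency.types false
universe v₂ w u

open CategoryTheory Opposite K734.Fib AlgebraicGeometry Limits K747.Sc K747

namespace K893.Band

variable {X : Scheme.{u}}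

/-- the structure functor of the slice over a terminal object is an equivalence -/
theorem isEquivOver_toSelf {B : Over X} (hB : IsTerminal B) : FibCat.IsEquivOver (FibCat.toSelf (FibCat.overCat B)) := by
  refine K734.Fib.isEquivOver_of ⟨fun {a b} f => ?_⟩ ⟨fun {a b} f g h => ?_⟩ fun a => ?_
  · exact ⟨Over.homMk f (hB.hom_ext _ _), rfl⟩
  · exact Over.OverMorphism.ext h
  · exact ⟨Over.mk (hB.from a), Iso.refl _, IsVert.id _⟩

theorem comp_toSelf {𝒜 ℬ : AlgSt.Cat X} (F : 𝒜 ⥤ᵇ ℬ) :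
    BasedFunctor.comp F (FibCat.toSelf ℬ) = FibCat.toSelf 𝒜 :=
  basedFunctor_ext F.w

theorem surj_of_isEquivOver {𝒜 ℬ : AlgSt.Cat X} {f : 𝒜 ⥤ᵇ ℬ} (hf : FibCat.IsEquivOver f) :
    AlgSt.RepByAlgSpWith AlgSp.IsSurjectiveMor f :=
  K740.SpIso.repByAlgSpWith_of_isEquivOver (fun _ p => ⟨p, AlgSp.Points.map_id p⟩) hf

theorem hasAtlas_selfOver : AlgSt.HasAtlas (AlgSp.LocP @Smooth) (FibCat.selfOver (Over X)) :=
  ⟨Over.mk (𝟙 X), FibCat.toSelf _, K742.Chain.smooth_of_isEquivOver (isEquivOver_toSelf Over.mkIdTerminal),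
    surj_of_isEquivOver (isEquivOver_toSelf Over.mkIdTerminal)⟩

/-- The Artin theorem for flat charts, as a statement -/
def Artin (X : Scheme.{u}) : Prop :=
  ∀ (𝒳 : AlgSt.Cat X), Stk.IsStack (QuotSh.J Scheme.fppfPrecoverage X) 𝒳 →
    ∀ (U : Over X) (x : FibCat.overCat U ⥤ᵇ 𝒳),
      AlgSt.RepByAlgSpWith (AlgSp.LocP (@Flat ⊓ @LocallyOfFinitePresentation)) x →
      AlgSt.RepByAlgSpWith AlgSp.IsSurjectiveMor x → AlgSt.IsAlgStack Scheme.fppfPrecoverage 𝒳

/-- a stack with a flat chart which is locally of finite presentation over `X` is so -/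
theorem locQ_lfp_toSelf {𝒳 : AlgSt.Cat X} (h𝒳 : FibCat.IsFibGrpd 𝒳.p) (ha : AlgSt.HasAtlas (AlgSp.LocP @Smooth) 𝒳)
    {U : Over X} (x : FibCat.overCat U ⥤ᵇ 𝒳)
    (h1 : AlgSt.RepByAlgSpWith (AlgSp.LocP @Flat) x)
    (h2 : AlgSt.RepByAlgSpWith (AlgSp.LocP @LocallyOfFinitePresentation) x)
    (h3 : AlgSt.RepByAlgSpWith AlgSp.IsSurjectiveMor x) (hU : LocallyOfFinitePresentation U.hom) :
    AlgSt.LocQ (AlgSp.LocP @LocallyOfFinitePresentation) (FibCat.toSelf 𝒳) := by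
  have hU' : AlgSt.HasAtlas (AlgSp.LocP @Smooth) (FibCat.overCat U) := K744.AlgOver.isAlgStack_overCat U |>.atlas
  have hfU := K735.Fp.isFibGrpd_overCat (C := Over X) U
  have hfS := K735.Fp.isFibGrpd_selfOver (C := Over X)
  refine K742.EvQ.locQ_of_comp_surjective₂ (P := @Flat) (P' := @LocallyOfFinitePresentation)
    (Q := @LocallyOfFinitePresentation) (R := @LocallyOfFinitePresentation) K742.nice_flat K742.nice_lfp
    K742.nice_lfp K742.nice_lfp ?_ hfU h𝒳 hfS hU' ha hasAtlas_selfOver x (FibCat.toSelf 𝒳)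
    (K742.EvQ.locQ_of_rep K742.nice_flat hfU h𝒳 hU' ha x h1)
    (K742.EvQ.locQ_of_rep K742.nice_lfp hfU h𝒳 hU' ha x h2) ?_ ?_
  · exact fun A B C a b h1 h2 h3 h4 => K629.SchDesc.lfp a b h1 h2 h3 h4
  · exact K735.Top.surjective_of_repByAlgSpWith h𝒳 hfU h3
  · rw [comp_toSelf]
    have hB : IsTerminal (Over.mk (𝟙 X)) := Over.mkIdTerminal
    refine ⟨U, Over.mk (𝟙 X), BasedFunctor.id _, FibCat.toSelf _, hB.from U, ?_, ?_, ?_, ?_, ?_⟩
    · exact eqToIso ((comp_toSelf (BasedFunctor.id _)).trans (comp_toSelf (AlgSt.overMap (hB.from U))).symm)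
    · exact K742.Chain.smooth_of_isEquivOver (K734.Fib.isEquivOver_refl _)
    · exact surj_of_isEquivOver (K734.Fib.isEquivOver_refl _)
    · exact K742.Chain.smooth_of_isEquivOver (isEquivOver_toSelf hB)
    · refine (K742.nice_lfp.yon_iff _).2 ?_
      have h1 : (hB.from U).left = U.hom := by
        have h2 : (hB.from U).left ≫ 𝟙 X = U.hom := Over.w (hB.from U)
        rw [← h2]
        exact (Category.comp_id _).symm
      rw [h1]
      exact hU

section Main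

variable {A : Over X} [GrpObj A] {𝒳 : AlgSt.Cat X} (β : Gerb.Banding 𝒳 (yonedaGrpObj A))

theorem left_from {B : Over X} (hB : IsTerminal (Over.mk (𝟙 X))) : (hB.from B).left = B.hom := by
  have h2 : (hB.from B).left ≫ 𝟙 X = B.hom := Over.w (hB.from B)
  rw [← h2]
  exact (Category.comp_id _).symm

include β in
theorem main [Flat A.hom] [Surjective A.hom] [LocallyOfFinitePresentation A.hom] [QuasiCompact A.hom]
    [IsSeparated A.hom] (hA : Artin X) (h𝒳 : Gerb.IsGerbe (QuotSh.J Scheme.fppfPrecoverage X) 𝒳) :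
    AlgSt.IsAlgStack Scheme.fppfPrecoverage 𝒳 ∧
      AlgSt.RepByAlgSpWith (AlgSp.IsQuasiCompactMor ⊓ AlgSp.IsSeparatedMor) (FibCat.diag (FibCat.toSelf 𝒳)) ∧
      AlgSt.LocQ (AlgSp.LocP @LocallyOfFinitePresentation) (FibCat.toSelf 𝒳) := by
  obtain ⟨hs, hg1, hg2⟩ := h𝒳
  have hp := K747.Sc.isPrestack_of_isStack hs
  have hB : IsTerminal (Over.mk (𝟙 X)) := Over.mkIdTerminal
  obtain ⟨U, x, hUf, hUp, hUs⟩ := exists_chart hs hg1
  have hx : ∀ {P : MorphismProperty (AlgSp.Sp X)}, K734.Rep.Nice P → P ((AlgSp.yon X).map (hB.from A)) →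
      P ((AlgSp.yon X).map (hB.from U)) → AlgSt.RepByAlgSpWith P x := fun {P} hP h1 h2 =>
    repByAlgSpWith_of_isoP (h𝒳 := hp.1) (Q := P) (isom_rep β hP.bc hP.loc hp hg2 hB h1) hP.bc hP.comp hB h2 x
  have hx1 : AlgSt.RepByAlgSpWith (AlgSp.LocP @Flat) x := hx K734.Rep.nice_flat
    ((K742.nice_flat.yon_iff _).2 (by rw [left_from]; infer_instance)) ((K742.nice_flat.yon_iff _).2 (by rw [left_from]; exact hUf))
  have hx2 : AlgSt.RepByAlgSpWith (AlgSp.LocP @LocallyOfFinitePresentation) x := hx K734.Rep.nice_lfp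
    ((K742.nice_lfp.yon_iff _).2 (by rw [left_from]; infer_instance)) ((K742.nice_lfp.yon_iff _).2 (by rw [left_from]; exact hUp))
  have hx3 : AlgSt.RepByAlgSpWith AlgSp.IsSurjectiveMor x := by
    refine hx K734.Rep.nice_surj ?_ ?_
    · exact K744.TorsProp.surj_yon _ (by rw [left_from]; infer_instance)
    · exact K744.TorsProp.surj_yon _ (by rw [left_from]; exact hUs)
  have hst : AlgSt.IsAlgStack Scheme.fppfPrecoverage 𝒳 :=
    hA 𝒳 hs U x (K743.FlatCover.repByAlgSpWith_locP_inf hx1 hx2) hx3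
  refine ⟨hst, ?_, locQ_lfp_toSelf hp.1 hst.atlas x hx1 hx2 hx3 hUp⟩
  refine repByAlgSpWith_diag β ?_ ?_ hp hg2 hB ?_
  · intro X₁ Y₁ X₂ Y₂ h₁ h₂ h₃ h₄ a b a' b' sq h
    exact ⟨K596.QC.isQuasiCompactMor_of_isPullback sq h.1, K642.Charts.isSeparatedMor_of_isPullback sq h.2⟩
  · refine K745.AtlasComp.isLocalOnBase_fppf_of_fpqc ?_
    exact K627.FpqcFin.isLocalOnBase_inf (K627.FpqcQC.isLocalOnBase_fpqc_isQuasiCompactMor X) K628.Props.isLocalOnBase_isSeparatedMor
  · refine ⟨?_, ?_⟩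
    · rw [K738.isQuasiCompactMor_yon_iff, left_from]
      infer_instance
    · rw [AlgSp.isSeparatedMor_yon_map_iff, left_from]
      infer_instance

end Main

end K893.Band
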