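import Groth.Agent.Gerb.K893.Dict
import Groth.Agent.Gerb.K895.Glue
import Groth.Agent.Gerb.K895.Equiv
import Groth.Prelude.Def_StGerb

/-!
# Functors which are bijective on isomorphisms between two charts (helper893)

`Bij y v f`: for `y : 𝒜 ⟶ 𝒳`, `v : ℬ ⟶ 𝒳`, `f : 𝒳 ⟶ 𝒴`: every vertical isomorphism `f (y t) ≅ f (v s)` comes from a
unique isomorphism `y t ≅ v s`, i.e. `fp y v ⟶ fp (y ⋙ f) (v ⋙ f)` is an equivalence.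
-/

set_option autoImplicit false
set_option backward.isDefEq.respectTransparency false
set_option backward.isDefEq.respectTransparency.types false

set_option linter.dupNamespace false

universe v₆ u₆ v₅ u₅ v₄ u₄ v₃ u₃ v₂ u₂ v u

open CategoryTheory Opposite K895.Fib

namespace K893.Bij

variable {C : Type u} [Category.{v} C]
  {𝒳 : BasedCategory.{v₂, u₂} C} {𝒴 : BasedCategory.{v₃, u₃} C} {𝒜 : BasedCategory.{v₄, u₄} C}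
  {ℬ : BasedCategory.{v₅, u₅} C} {𝒲 : BasedCategory.{v₆, u₆} C}

/-- every vertical isomorphism `f (y t) ≅ f (v s)` comes from a unique isomorphism `y t ≅ v s` -/
def Bij (y : 𝒜 ⥤ᵇ 𝒳) (v : ℬ ⥤ᵇ 𝒳) (f : 𝒳 ⥤ᵇ 𝒴) : Prop :=
  ∀ (t : 𝒜.obj) (s : ℬ.obj) (ψ : f.obj (y.obj t) ≅ f.obj (v.obj s)), 𝒴.p.IsHomLift (𝟙 (𝒜.p.obj t)) ψ.hom →
    ∃! φ : y.obj t ≅ v.obj s, f.map φ.hom = ψ.hom

theorem Bij.comp_left {y : 𝒜 ⥤ᵇ 𝒳} {v : ℬ ⥤ᵇ 𝒳} {f : 𝒳 ⥤ᵇ 𝒴} (h : Bij y v f) (c : 𝒲 ⥤ᵇ 𝒜) :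
    Bij (BasedFunctor.comp c y) v f := by
  intro t s ψ hψ
  refine h (c.obj t) s ψ ?_
  have : 𝒜.p.obj (c.obj t) = 𝒲.p.obj t := c.w_obj t
  rw [this]
  exact hψ

theorem Bij.swap {y : 𝒜 ⥤ᵇ 𝒳} {v : ℬ ⥤ᵇ 𝒳} {f : 𝒳 ⥤ᵇ 𝒴} (h : Bij y v f) : Bij v y f := by
  intro t s ψ hψ
  have hs : 𝒜.p.obj s = ℬ.p.obj t := by
    rw [← y.w_obj s, ← f.w_obj]
    exact obj_eq_of_lift_right hψ
  have h1 : 𝒴.p.IsHomLift (𝟙 (𝒜.p.obj s)) ψ.inv := by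
    rw [hs]
    have := lift_inv (χ := ψ.hom) hψ
    rwa [IsIso.Iso.inv_hom] at this
  obtain ⟨φ, hφ, hu⟩ := h s t ψ.symm h1
  refine ⟨φ.symm, ?_, fun φ' hφ' => ?_⟩
  · change f.map φ.inv = ψ.hom
    have : f.mapIso φ = ψ.symm := Iso.ext hφ
    exact congrArg Iso.inv this
  · have : φ'.symm = φ := hu _ (by
      change f.map φ'.inv = ψ.inv
      have : f.mapIso φ' = ψ := Iso.ext hφ'
      exact congrArg Iso.inv this)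
    rw [← this]
    rfl

theorem Bij.comp_right {y : 𝒜 ⥤ᵇ 𝒳} {v : ℬ ⥤ᵇ 𝒳} {f : 𝒳 ⥤ᵇ 𝒴} (h : Bij y v f) (c : 𝒲 ⥤ᵇ ℬ) :
    Bij y (BasedFunctor.comp c v) f := (h.swap.comp_left c).swap

theorem Bij.of_iso_left {y y' : 𝒜 ⥤ᵇ 𝒳} {v : ℬ ⥤ᵇ 𝒳} {f : 𝒳 ⥤ᵇ 𝒴} (h : Bij y v f) (e : y ≅ y') :
    Bij y' v f := by
  intro t s ψ hψ
  let j := K734.Fib.app e t
  have hj : 𝒳.p.IsHomLift (𝟙 (𝒜.p.obj t)) j.hom := (e.hom.isHomLift' t)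
  obtain ⟨φ, hφ, hu⟩ := h t s (f.mapIso j ≪≫ ψ) (lift_id_comp (lift_map f hj) hψ)
  refine ⟨j.symm ≪≫ φ, ?_, fun φ' hφ' => ?_⟩
  · change f.map (j.inv ≫ φ.hom) = ψ.hom
    have h1 : f.map j.inv ≫ f.map j.hom = 𝟙 _ := by
      rw [← f.map_comp, j.inv_hom_id, f.map_id]
    rw [f.map_comp, hφ]
    change f.map j.inv ≫ f.map j.hom ≫ ψ.hom = ψ.hom
    rw [← Category.assoc, h1, Category.id_comp]
  · have : j ≪≫ φ' = φ := hu _ (by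
      change f.map (j.hom ≫ φ'.hom) = f.map j.hom ≫ ψ.hom
      rw [f.map_comp, hφ'])
    rw [← this, Iso.symm_self_id_assoc]

theorem Bij.of_iso_right {y : 𝒜 ⥤ᵇ 𝒳} {v v' : ℬ ⥤ᵇ 𝒳} {f : 𝒳 ⥤ᵇ 𝒴} (h : Bij y v f) (e : v ≅ v') :
    Bij y v' f := (h.swap.of_iso_left e).swap

/-- `Bij` from the equivalence of the 2-fibre products. -/
theorem of_isEquivOver {y : 𝒜 ⥤ᵇ 𝒳} {v : ℬ ⥤ᵇ 𝒳} {f : 𝒳 ⥤ᵇ 𝒴}
    (e : BasedFunctor.comp (FibCat.fpFst y v) (BasedFunctor.comp y f) ≅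
      BasedFunctor.comp (FibCat.fpSnd y v) (BasedFunctor.comp v f))
    (he : ∀ c, e.hom.toNatTrans.app c = f.map c.obj.iso.hom)
    (h : FibCat.IsEquivOver (FibCat.fpLift (FibCat.fpFst y v) (FibCat.fpSnd y v) e)) : Bij y v f := by
  intro t s ψ hψ
  have hfull := K734.Fib.full_of h
  have hess := K734.Fib.essSurjOver_of h
  let Φ := FibCat.fpLift (FibCat.fpFst y v) (FibCat.fpSnd y v) e
  have hΦ : ∀ c : (FibCat.fp y v).obj, (Φ.obj c).obj.iso.hom = f.map c.obj.iso.hom := fun c => he c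
  let w : (FibCat.fp (BasedFunctor.comp y f) (BasedFunctor.comp v f)).obj := ⟨⟨t, s, ψ⟩, hψ⟩
  have hex : ∃ φ : y.obj t ≅ v.obj s, f.map φ.hom = ψ.hom := by
    obtain ⟨c, i, -⟩ := hess w
    let i₁ : c.obj.fst ≅ t := (FibCat.fpFst _ _).mapIso i
    let i₂ : c.obj.snd ≅ s := (FibCat.fpSnd _ _).mapIso i
    refine ⟨(y.mapIso i₁).symm ≪≫ c.obj.iso ≪≫ v.mapIso i₂, ?_⟩
    have hw : f.map (y.map i₁.hom) ≫ ψ.hom = f.map c.obj.iso.hom ≫ f.map (v.map i₂.hom) := by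
      have := i.hom.hom.w
      rw [hΦ c] at this
      exact this
    change f.map ((y.mapIso i₁).inv ≫ c.obj.iso.hom ≫ v.map i₂.hom) = ψ.hom
    rw [f.map_comp, f.map_comp, ← hw, ← Category.assoc, ← f.map_comp]
    have h1 : (y.mapIso i₁).inv ≫ y.map i₁.hom = 𝟙 _ := (y.mapIso i₁).inv_hom_id
    rw [h1, f.map_id]
    exact Category.id_comp _
  obtain ⟨φ, hφ⟩ := hex
  refine ⟨φ, hφ, fun φ' hφ' => ?_⟩
  have hlift : ∀ χ : y.obj t ≅ v.obj s, f.map χ.hom = ψ.hom → 𝒳.p.IsHomLift (𝟙 (𝒜.p.obj t)) χ.hom := by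
    intro χ hχ
    apply lift_of_map f
    rw [hχ]
    exact hψ
  let c₁ : (FibCat.fp y v).obj := ⟨⟨t, s, φ'⟩, hlift φ' hφ'⟩
  let c₂ : (FibCat.fp y v).obj := ⟨⟨t, s, φ⟩, hlift φ hφ⟩
  let m : Φ.obj c₁ ⟶ Φ.obj c₂ := ObjectProperty.homMk
    { fst := 𝟙 t
      snd := 𝟙 s
      w := by
        change f.map (y.map (𝟙 t)) ≫ (Φ.obj c₂).obj.iso.hom = (Φ.obj c₁).obj.iso.hom ≫ f.map (v.map (𝟙 s))
        rw [hΦ c₁, hΦ c₂]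
        change f.map (y.map (𝟙 t)) ≫ f.map φ.hom = f.map φ'.hom ≫ f.map (v.map (𝟙 s))
        rw [hφ, hφ', y.map_id, v.map_id, f.map_id, f.map_id]
        exact (Category.id_comp _).trans (Category.comp_id _).symm }
  obtain ⟨n, hn⟩ := hfull.map_surjective m
  have h1 : n.hom.fst = 𝟙 t := congrArg (fun k => k.hom.fst) hn
  have h2 : n.hom.snd = 𝟙 s := congrArg (fun k => k.hom.snd) hn
  have h3 : y.map n.hom.fst ≫ φ.hom = φ'.hom ≫ v.map n.hom.snd := n.hom.w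
  rw [h1, h2, y.map_id, v.map_id] at h3
  apply Iso.ext
  exact ((Category.id_comp _).symm.trans (h3.trans (Category.comp_id _))).symm

/-- `Bij` for functors into a full subcategory. -/
theorem of_fullyFaithful {𝒵 : BasedCategory.{v₆, u₆} C} {y : 𝒜 ⥤ᵇ 𝒵} {v : ℬ ⥤ᵇ 𝒵} {i : 𝒵 ⥤ᵇ 𝒳} {f : 𝒳 ⥤ᵇ 𝒴}
    (h1 : i.toFunctor.Full) (h2 : i.toFunctor.Faithful)
    (h : Bij (BasedFunctor.comp y i) (BasedFunctor.comp v i) f) : Bij y v (BasedFunctor.comp i f) := by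
  intro t s ψ hψ
  obtain ⟨φ, hφ, hu⟩ := h t s ψ hψ
  have hi : (i.toFunctor.FullyFaithful) := Functor.FullyFaithful.ofFullyFaithful i.toFunctor
  refine ⟨hi.preimageIso φ, ?_, fun φ' hφ' => ?_⟩
  · change f.map (i.map (hi.preimageIso φ).hom) = ψ.hom
    have : i.map (hi.preimageIso φ).hom = φ.hom := hi.map_preimage φ.hom
    rw [this, hφ]
  · have h3 : i.mapIso φ' = φ := hu _ hφ'
    apply Iso.ext
    apply i.toFunctor.map_injective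
    have h4 : i.map (hi.preimageIso φ).hom = φ.hom := hi.map_preimage φ.hom
    have h5 : i.map φ'.hom = φ.hom := congrArg Iso.hom h3
    exact h5.trans h4.symm

theorem locSurj_over {J : GrothendieckTopology C} {z : 𝒜 ⥤ᵇ 𝒳} (hz : Gerb.LocSurjObj J z) {ξ : 𝒳.obj} {U : C}
    (hξ : 𝒳.p.obj ξ = U) : ∃ R ∈ J U, ∀ ⦃V : C⦄ (g : V ⟶ U), R g →
      ∃ (t : 𝒜.obj) (φ : z.obj t ⟶ ξ), 𝒳.p.IsHomLift g φ := by
  subst hξ
  exact hz ξ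

/-- A vertical arrow between values of charts -/
theorem exists_iso_of_fac (h𝒳 : FibCat.IsFibGrpd 𝒳.p) {V U : C} {g : V ⟶ U} {y w x : 𝒳.obj} (φ : y ⟶ x) (ψ : w ⟶ x)
    (hφ : 𝒳.p.IsHomLift g φ) (hψ : 𝒳.p.IsHomLift g ψ) :
    ∃ i : y ≅ w, 𝒳.p.IsHomLift (𝟙 V) i.hom ∧ i.hom ≫ ψ = φ := by
  obtain ⟨i, h1, -, h2, -⟩ := exists_iso h𝒳 g ψ φ hψ hφ
  exact ⟨i, h1, h2⟩

/-- faithfulness on vertical arrows -/
theorem vert_faithful {J : GrothendieckTopology C} {z : 𝒜 ⥤ᵇ 𝒳} {f : 𝒳 ⥤ᵇ 𝒴} (h𝒳 : Stk.IsPrestack J 𝒳)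
    (h𝒴 : FibCat.IsFibGrpd 𝒴.p) (hz : Gerb.LocSurjObj J z) (h : Bij z z f) {U : C} {ξ η : 𝒳.obj} (α α' : ξ ⟶ η)
    (hα : 𝒳.p.IsHomLift (𝟙 U) α) (hα' : 𝒳.p.IsHomLift (𝟙 U) α') (e : f.map α = f.map α') : α = α' := by
  obtain ⟨R₁, hR₁, h₁⟩ := locSurj_over hz (obj_eq_of_lift_left hα)
  obtain ⟨R₂, hR₂, h₂⟩ := locSurj_over hz (obj_eq_of_lift_right hα)
  refine K895.Glue.glue_unique h𝒳.1 (h𝒳.2 _ (J.intersection_covering hR₁ hR₂)) α α' hα hα' fun V g hg => ?_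
  obtain ⟨t, φ, hφ⟩ := h₁ g hg.1
  obtain ⟨s, w, hw⟩ := h₂ g hg.2
  obtain ⟨a, ha, ha2⟩ := exists_iso_of_fac h𝒳.1 (φ ≫ α) w (lift_comp_id hφ hα) hw
  obtain ⟨a', ha', ha2'⟩ := exists_iso_of_fac h𝒳.1 (φ ≫ α') w (lift_comp_id hφ hα') hw
  have hV : 𝒜.p.obj t = V := (z.w_obj t).symm.trans (obj_eq_of_lift_left hφ)
  have h5 : f.map a.hom = f.map a'.hom := by
    refine hom_unique h𝒴 (𝟙 V) g (f.map w) (lift_map f hw) _ _ (lift_map f ha) (lift_map f ha') ?_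
    rw [← f.map_comp, ← f.map_comp, ha2, ha2', f.map_comp, f.map_comp, e]
  obtain ⟨b, -, hu⟩ := h t s (f.mapIso a) (by rw [hV]; exact lift_map f ha)
  have h6 : a = a' := (hu a rfl).trans (hu a' h5.symm).symm
  refine ⟨z.obj t, φ, hφ, ?_⟩
  rw [← ha2, ← ha2', h6]

/-- fullness on vertical arrows -/
theorem vert_full {J : GrothendieckTopology C} {z : 𝒜 ⥤ᵇ 𝒳} {f : 𝒳 ⥤ᵇ 𝒴} (h𝒳 : Stk.IsPrestack J 𝒳)
    (h𝒴 : Stk.IsPrestack J 𝒴) (hz : Gerb.LocSurjObj J z) (h : Bij z z f) {U : C} {ξ η : 𝒳.obj}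
    (hξ : 𝒳.p.obj ξ = U) (hη : 𝒳.p.obj η = U) (β : f.obj ξ ⟶ f.obj η) (hβ : 𝒴.p.IsHomLift (𝟙 U) β) :
    ∃ α : ξ ⟶ η, 𝒳.p.IsHomLift (𝟙 U) α ∧ f.map α = β := by
  obtain ⟨R₁, hR₁, h₁⟩ := locSurj_over hz hξ
  obtain ⟨R₂, hR₂, h₂⟩ := locSurj_over hz hη
  have hun : ∀ ⦃V : C⦄ (g : V ⟶ U) ⦃y : 𝒳.obj⦄ (ψ ψ' : y ⟶ η), 𝒳.p.IsHomLift g ψ → 𝒳.p.IsHomLift g ψ' →
      f.map ψ = f.map ψ' → ψ = ψ' := by
    intro V g y ψ ψ' hψ hψ' e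
    obtain ⟨c, hc, hc2⟩ := exists_fac h𝒳.1 (𝟙 V) g ψ' ψ hψ' (by rwa [Category.id_comp])
    have : c = 𝟙 y := by
      have hy := obj_eq_of_lift_left hψ
      refine vert_faithful h𝒳 h𝒴.1 hz h (U := V) c (𝟙 y) hc (IsHomLift.id hy) ?_
      refine hom_unique h𝒴.1 (𝟙 V) g (f.map ψ') (lift_map f hψ') _ _ (lift_map f hc) ?_ ?_
      · exact lift_map f (IsHomLift.id hy)
      · rw [← f.map_comp, ← f.map_comp, hc2, Category.id_comp, e]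
    rw [← hc2, this, Category.id_comp]
  obtain ⟨α, hα, hP⟩ := K895.Glue.glue_hom h𝒳.1 hξ hη (h𝒳.2 _ (J.intersection_covering hR₁ hR₂))
    (fun y φ ψ => f.map φ ≫ β = f.map ψ) (fun V g hg => by
      obtain ⟨t, φ, hφ⟩ := h₁ g hg.1
      obtain ⟨s, w, hw⟩ := h₂ g hg.2
      have hV : 𝒜.p.obj t = V := (z.w_obj t).symm.trans (obj_eq_of_lift_left hφ)
      obtain ⟨b, hb, hb2⟩ := exists_iso_of_fac h𝒴.1 (f.map φ ≫ β) (f.map w) (lift_comp_id (lift_map f hφ) hβ)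
        (lift_map f hw)
      obtain ⟨a, ha, -⟩ := h t s b (by rw [hV]; exact hb)
      have ha' : 𝒳.p.IsHomLift (𝟙 V) a.hom := lift_of_map f (by rw [ha]; exact hb)
      exact ⟨z.obj t, φ, a.hom ≫ w, hφ, lift_id_comp ha' hw, by rw [f.map_comp, ha, hb2]⟩)
    (fun z y χ φ ψ e => by
      change f.map (χ ≫ φ) ≫ β = f.map (χ ≫ ψ)
      rw [f.map_comp, f.map_comp, Category.assoc, e])
    (fun V g hg y φ ψ ψ' _ h3 h4 h5 h6 => hun g ψ ψ' h3 h4 (h5.symm.trans h6))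
  refine ⟨α, hα, ?_⟩
  have hfξ : 𝒴.p.obj (f.obj ξ) = U := (f.w_obj ξ).trans hξ
  refine K895.Glue.glue_unique h𝒴.1 (h𝒴.2 _ (J.intersection_covering hR₁ hR₂)) (f.map α) β (lift_map f hα) hβ
    fun V g hg => ?_
  obtain ⟨t, φ, hφ⟩ := h₁ g hg.1
  refine ⟨f.obj (z.obj t), f.map φ, lift_map f hφ, ?_⟩
  rw [← f.map_comp]
  exact (hP g hg φ hφ).symm

/-- `f` is fully faithful if it is so on the values of a locally essentially surjective functor. -/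
theorem full_faithful {J : GrothendieckTopology C} {z : 𝒜 ⥤ᵇ 𝒳} {f : 𝒳 ⥤ᵇ 𝒴} (h𝒳 : Stk.IsPrestack J 𝒳)
    (h𝒴 : Stk.IsPrestack J 𝒴) (hz : Gerb.LocSurjObj J z) (h : Bij z z f) :
    f.toFunctor.Full ∧ f.toFunctor.Faithful := by
  constructor
  · refine ⟨fun {ξ η} β => ?_⟩
    have hβ' : 𝒴.p.IsHomLift (𝒴.p.map β) β := IsHomLift.map 𝒴.p β
    have h1 : 𝒳.p.obj η = 𝒴.p.obj (f.obj η) := (f.w_obj η).symm
    have h0 : 𝒳.p.obj ξ = 𝒴.p.obj (f.obj ξ) := (f.w_obj ξ).symm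
    obtain ⟨η', c, hc⟩ := exists_lift h𝒳.1 (𝒴.p.map β) η h1
    obtain ⟨b, hb, hb2⟩ := exists_fac h𝒴.1 (𝟙 _) (𝒴.p.map β) (f.map c) β (lift_map f hc)
      (by rwa [Category.id_comp])
    obtain ⟨α, hα, hα2⟩ := vert_full h𝒳 h𝒴 hz h h0 (obj_eq_of_lift_left hc) b hb
    refine ⟨α ≫ c, ?_⟩
    change f.map (α ≫ c) = β
    rw [f.map_comp, hα2, hb2]
  · refine ⟨fun {ξ η} α α' e => ?_⟩
    have h2 : 𝒴.p.IsHomLift (𝒳.p.map α) (f.map α') := by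
      have : 𝒴.p.IsHomLift (𝒳.p.map α) (f.map α) := inferInstance
      rwa [show f.map α = f.map α' from e] at this
    have h3 : 𝒳.p.IsHomLift (𝒳.p.map α) α' := lift_of_map f h2
    obtain ⟨c, hc, hc2⟩ := exists_fac h𝒳.1 (𝟙 _) (𝒳.p.map α) α' α h3 (by
      rw [Category.id_comp]; exact IsHomLift.map 𝒳.p α)
    have : c = 𝟙 ξ := by
      refine vert_faithful h𝒳 h𝒴.1 hz h (U := 𝒳.p.obj ξ) c (𝟙 ξ) hc (IsHomLift.id rfl) ?_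
      refine hom_unique h𝒴.1 (𝟙 _) (𝒳.p.map α) (f.map α') (lift_map f h3) _ _ (lift_map f hc) ?_ ?_
      · exact lift_map f (IsHomLift.id rfl)
      · rw [← f.map_comp, ← f.map_comp, hc2, Category.id_comp]
        exact e
    rw [← hc2, this, Category.id_comp]

end K893.Bij
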