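import Groth.Agent.S10532
import Groth.Agent.AlgSp.K613.Chart
import Groth.Agent.AlgSp.K613.Basic
import Groth.Agent.AlgSp.K609.Points
import Groth.Agent.AlgSp.K597.EtLoc
import Groth.Agent.Gerb.K893.Desc

/-!
# fpqc descent of isomorphisms, in terms of sections (helper893)
-/

set_option autoImplicit false
set_option backward.isDefEq.respectTransparency false
set_option backward.isDefEq.respectTransparency.types false

universe v₄ u₄ v₃ u₃ v₂ u₂ v u

open CategoryTheory CategoryTheory.Limits AlgebraicGeometry Opposite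

namespace K893.IsoDesc

variable {S : Scheme.{u}}

theorem isIso_of_sections {F G : AlgSp.Sp S} (f : F ⟶ G)
    (h : ∀ T : Over S, Function.Bijective (f.hom.app (op T))) : IsIso f := by
  have : IsIso ((sheafToPresheaf (AlgSp.J S) _).map f) := by
    rw [NatTrans.isIso_iff_isIso_app]
    intro T
    exact (isIso_iff_bijective _).2 (h T.unop)
  exact isIso_of_reflects_iso f (sheafToPresheaf (AlgSp.J S) _)

theorem bijective_of_isIso {F G : AlgSp.Sp S} (f : F ⟶ G) [IsIso f] (T : Over S) :
    Function.Bijective (f.hom.app (op T)) := by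
  have : IsIso ((sheafToPresheaf (AlgSp.J S) _).map f) := inferInstance
  have h2 : IsIso f.hom := this
  exact (isIso_iff_bijective _).1 inferInstance

theorem isFpqcCover_of_affine {F' G' : AlgSp.Sp S} {U U' : Over S} (hF' : AlgSp.IsAlgSpace F')
    (p' : F' ⟶ (AlgSp.yon S).obj U) (b : U' ⟶ U)
    (haff : IsAffineHom b.left) (hflat : Flat b.left) (hsurj : Surjective b.left)
    {fst : G' ⟶ F'} {snd : G' ⟶ (AlgSp.yon S).obj U'} (sq : IsPullback fst snd p' ((AlgSp.yon S).map b)) :
    AlgSp.IsFpqcCover (fun _ : PUnit.{u + 1} => G') (fun _ => fst) := by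
  refine ⟨fun _ => ?_, fun Z hZ h => ?_⟩
  · exact K597.locP_bc K597.etLoc_flat sq.flip (AlgSp.IsAlgSpace.yon_obj _).hasAtlas
      (AlgSp.IsAlgSpace.yon_obj _).hasAtlas hF'.hasAtlas (K893.Desc.locP_yon_map K597.etLoc_flat b hflat)
  · obtain ⟨c, hc⟩ := (AlgSp.yon S).map_surjective (h ≫ p')
    let W : Over S := pullback c b
    have sqW : IsPullback (pullback.fst c b).left (pullback.snd c b).left c.left b.left :=
      (IsPullback.of_hasPullback c b).map (Over.forget S)
    have h1 : IsAffineHom (pullback.fst c b).left := MorphismProperty.of_isPullback sqW.flip haff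
    have h2 : Flat (pullback.fst c b).left := MorphismProperty.of_isPullback sqW.flip hflat
    have h3 : Surjective (pullback.fst c b).left := MorphismProperty.of_isPullback sqW.flip hsurj
    refine ⟨1, fun _ => W, fun _ => pullback.fst c b, fun _ => ?_, fun _ => h2, fun z => ⟨0, h3.surj z⟩, fun _ => ?_⟩
    · exact isAffine_of_isAffineHom (pullback.fst c b).left
    · refine ⟨PUnit.unit, sq.lift ((AlgSp.yon S).map (pullback.fst c b) ≫ h) ((AlgSp.yon S).map (pullback.snd c b)) ?_,
        sq.lift_fst _ _ _⟩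
      rw [Category.assoc, ← hc, ← Functor.map_comp, ← Functor.map_comp, pullback.condition]

/-- A morphism of algebraic spaces over `h_U` which is bijective on the sections over `T ⟶ U' ⟶ U` is an isomorphism, if
`U' ⟶ U` is affine, flat and surjective. -/
theorem isIso_of_cover {F F' : AlgSp.Sp S} (hF : AlgSp.IsAlgSpace F) (hF' : AlgSp.IsAlgSpace F') {U U' : Over S}
    (p' : F' ⟶ (AlgSp.yon S).obj U) (φ : F ⟶ F') (b : U' ⟶ U)
    (haff : IsAffineHom b.left) (hflat : Flat b.left) (hsurj : Surjective b.left)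
    (h : ∀ (T : Over S) (g' : T ⟶ U') (s' : F'.obj.obj (op T)), p'.hom.app (op T) s' = ⟨g' ≫ b⟩ →
      ∃! s : F.obj.obj (op T), φ.hom.app (op T) s = s') : IsIso φ := by
  have sq := IsPullback.of_hasPullback p' ((AlgSp.yon S).map b)
  have hG' := K613.Chart.isAlgSpace_pullback hF' (AlgSp.IsAlgSpace.yon_obj U') (AlgSp.IsAlgSpace.yon_obj U)
    p' ((AlgSp.yon S).map b)
  have sq2 := IsPullback.of_hasPullback φ (pullback.fst p' ((AlgSp.yon S).map b))
  have hG := K613.Chart.isAlgSpace_pullback hF hG' hF' φ (pullback.fst p' ((AlgSp.yon S).map b))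
  refine (Groth.Agent.S10532.result S (fun _ : PUnit.{u + 1} => pullback p' ((AlgSp.yon S).map b))
    (fun _ => pullback.fst p' ((AlgSp.yon S).map b)) hF' (fun _ => hG')
    (isFpqcCover_of_affine hF' p' b haff hflat hsurj sq) φ hF (fun _ => _) (fun _ => _) (fun _ => _)
    (fun _ => hG) (fun _ => sq2)).2 fun _ => ?_
  change IsIso (pullback.snd φ (pullback.fst p' ((AlgSp.yon S).map b)))
  apply isIso_of_sections
  intro T
  have hp : ∀ x' : (pullback p' ((AlgSp.yon S).map b)).obj.obj (op T),
      p'.hom.app (op T) ((pullback.fst p' ((AlgSp.yon S).map b)).hom.app (op T) x') =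
        ⟨((pullback.snd p' ((AlgSp.yon S).map b)).hom.app (op T) x').down ≫ b⟩ := fun x' =>
    congrArg (fun m : pullback p' ((AlgSp.yon S).map b) ⟶ (AlgSp.yon S).obj U => m.hom.app (op T) x') sq.w
  constructor
  · intro x y hxy
    refine K609.Points.section_ext_of_isPullback sq2 T x y ?_ hxy
    have hx := congrArg (fun m : pullback φ (pullback.fst p' ((AlgSp.yon S).map b)) ⟶ F' => m.hom.app (op T) x) sq2.w
    have hy := congrArg (fun m : pullback φ (pullback.fst p' ((AlgSp.yon S).map b)) ⟶ F' => m.hom.app (op T) y) sq2.w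
    obtain ⟨s, -, hu⟩ := h T _ _ (hp ((pullback.snd φ (pullback.fst p' ((AlgSp.yon S).map b))).hom.app (op T) x))
    have e1 := hu _ hx
    have e2 := hu _ (hy.trans (congrArg
      (fun q => (pullback.fst p' ((AlgSp.yon S).map b)).hom.app (op T) q) hxy.symm))
    exact e1.trans e2.symm
  · intro x'
    obtain ⟨s, hs, -⟩ := h T _ _ (hp x')
    obtain ⟨x, -, hx⟩ := K609.Points.exists_section_of_isPullback sq2 T s x' hs
    exact ⟨x, hx⟩

end K893.IsoDesc
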