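import Groth.Agent.Gerb.K893.Bij
import Groth.Agent.Gerb.K893.IsoDesc
import Groth.Agent.Gerb.K893.BC

/-!
# Descent of bijectivity on isomorphisms along affine flat surjective base change (helper893)
-/

set_option autoImplicit false
set_option backward.isDefEq.respectTransparency false
set_option backward.isDefEq.respectTransparency.types false

universe v₄ u₄ v₃ u₃ v₂ u₂ v u

open CategoryTheory CategoryTheory.Limits AlgebraicGeometry Opposite K895.Fib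

namespace K893.BijSp

open K893.Bij K893.Dict

variable {S : Scheme.{u}} {𝒳 : BasedCategory.{v₂, u₂} (Over S)} {𝒴 : BasedCategory.{v₃, u₃} (Over S)}
  {𝒱 : BasedCategory.{v₄, u₄} (Over S)}
  {U : Over S} {y : FibCat.overCat U ⥤ᵇ 𝒳} {v : 𝒱 ⥤ᵇ 𝒳} {f : 𝒳 ⥤ᵇ 𝒴} {F F' : AlgSp.Sp S}

/-- The map of spaces induced by `f` on the isomorphisms. -/
theorem exists_map (e : AlgSt.ofSp F ⥤ᵇ FibCat.fp y v)
    (e' : AlgSt.ofSp F' ⥤ᵇ FibCat.fp (BasedFunctor.comp y f) (BasedFunctor.comp v f))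
    (he' : FibCat.IsEquivOver e') :
    ∃ μ : F ⟶ F', ∀ {T : Over S} {s : F.obj.obj (op T)} {g : T ⟶ U} {ζ : 𝒱.obj}
      {φ : y.obj (Over.mk g) ≅ v.obj ζ} {hφ : 𝒳.p.IsHomLift (𝟙 T) φ.hom},
      Is e T s g ζ φ hφ → Is e' T (μ.hom.app (op T) s) g ζ (f.mapIso φ) (lift_map f hφ) := by
  let H : FibCat.fp y v ⥤ᵇ FibCat.fp (BasedFunctor.comp y f) (BasedFunctor.comp v f) :=
    K734.Fib.fpPost y v f
  obtain ⟨k, hk, ⟨α⟩, ⟨β⟩⟩ := K734.Fib.exists_inverse he'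
  let Φ : AlgSt.ofSp F ⥤ᵇ AlgSt.ofSp F' := BasedFunctor.comp e (BasedFunctor.comp H k)
  obtain ⟨i⟩ := K735.Rep.exists_iso_spMap Φ
  let μ : F ⟶ F' := K735.Rep.spMap Φ
  let j : BasedFunctor.comp (AlgSt.ofSpMap μ) e' ≅ BasedFunctor.comp e H :=
    K734.Fib.wr i.symm e' ≪≫ (K734.Fib.wl (BasedFunctor.comp e H) β :
      BasedFunctor.comp (BasedFunctor.comp e H) (BasedFunctor.comp k e') ≅ _)
  refine ⟨μ, ?_⟩
  intro T s g ζ φ hφ ⟨a, ha⟩
  have h0 : (H.obj (K893.Dict.obj y v g ζ φ hφ)).obj.iso.hom = f.map φ.hom := by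
    have h1 := K734.Fib.fpMap_obj_iso (F := BasedFunctor.comp y f) (G := BasedFunctor.comp v f)
      (BasedFunctor.id _) (BasedFunctor.id _) f
      (Iso.refl _) (Iso.refl _) (K893.Dict.obj y v g ζ φ hφ)
    have h2 := congrArg (fun t => t.hom) h1
    refine h2.trans ?_
    simp only [Iso.trans_hom, Iso.symm_hom]
    erw [Category.id_comp, Category.comp_id]
    rfl
  let c : H.obj (K893.Dict.obj y v g ζ φ hφ) ≅
      K893.Dict.obj (BasedFunctor.comp y f) (BasedFunctor.comp v f) g ζ (f.mapIso φ) (lift_map f hφ) :=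
    K734.Fib.mkIsoFp (Iso.refl _) (Iso.refl _) (by
      erw [(BasedFunctor.comp y f).toFunctor.map_id, (BasedFunctor.comp v f).toFunctor.map_id]
      rw [Category.id_comp, Category.comp_id]
      exact h0.symm)
  have hc : (FibCat.fp (BasedFunctor.comp y f) (BasedFunctor.comp v f)).p.IsHomLift (𝟙 T) c.hom := by
    refine IsHomLift.of_fac' _ _ _ rfl rfl ?_
    simp
    rfl
  refine ⟨(K734.Fib.app j ⟨T, s⟩) ≪≫ H.mapIso a ≪≫ c, ?_⟩
  have h1 : (FibCat.fp (BasedFunctor.comp y f) (BasedFunctor.comp v f)).p.IsHomLift (𝟙 T) (K734.Fib.app j ⟨T, s⟩).hom :=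
    (K734.Fib.app_vert j ⟨T, s⟩).lift (BasedFunctor.w_obj (BasedFunctor.comp (AlgSt.ofSpMap μ) e') ⟨T, s⟩)
  exact lift_id_comp h1 (lift_id_comp (lift_map H ha) hc)

variable {V : Over S} {w : FibCat.overCat V ⥤ᵇ 𝒳}

theorem vert_eq_id {ζ : (FibCat.overCat V).obj} {T : Over S} (a : ζ ≅ ζ)
    (ha : (FibCat.overCat V).p.IsHomLift (𝟙 T) a.hom) : a.hom = 𝟙 ζ := by
  have hT : (FibCat.overCat V).p.obj ζ = T := obj_eq_of_lift_left ha
  subst hT
  apply Over.OverMorphism.ext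
  have h1 := IsHomLift.fac' (FibCat.overCat V).p (𝟙 ((FibCat.overCat V).p.obj ζ)) a.hom
  have h2 : (FibCat.overCat V).p.map a.hom = a.hom.left := rfl
  rw [← h2, h1]
  simp
  rfl

/-- If the map of spaces is an isomorphism, `f` is bijective on isomorphisms. -/
theorem bij_of_isIso (e : AlgSt.ofSp F ⥤ᵇ FibCat.fp y w) (he : FibCat.IsEquivOver e)
    (e' : AlgSt.ofSp F' ⥤ᵇ FibCat.fp (BasedFunctor.comp y f) (BasedFunctor.comp w f))
    (he' : FibCat.IsEquivOver e') (μ : F ⟶ F') (hμ : ∀ {T : Over S} {s : F.obj.obj (op T)} {g : T ⟶ U}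
      {ζ : (FibCat.overCat V).obj} {φ : y.obj (Over.mk g) ≅ w.obj ζ} {hφ : 𝒳.p.IsHomLift (𝟙 T) φ.hom},
      Is e T s g ζ φ hφ → Is e' T (μ.hom.app (op T) s) g ζ (f.mapIso φ) (lift_map f hφ)) [IsIso μ] :
    Bij y w f := by
  intro t ζ ψ hψ
  have hb := K893.IsoDesc.bijective_of_isIso μ t.left
  have hlift : ∀ χ : y.obj t ≅ w.obj ζ, f.map χ.hom = ψ.hom → 𝒳.p.IsHomLift (𝟙 t.left) χ.hom := by
    intro χ hχ
    apply lift_of_map f
    rw [hχ]
    exact hψ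
  obtain ⟨s', hs'⟩ := exists_sec he' (y := BasedFunctor.comp y f) (f := BasedFunctor.comp w f) t.hom ζ ψ hψ
  have huniq : ∀ φ φ' : y.obj t ≅ w.obj ζ, f.map φ.hom = ψ.hom → f.map φ'.hom = ψ.hom → φ = φ' := by
    intro φ φ' h1 h2
    obtain ⟨s₁, hs₁⟩ := exists_sec he (y := y) (f := w) t.hom ζ φ (hlift φ h1)
    obtain ⟨s₂, hs₂⟩ := exists_sec he (y := y) (f := w) t.hom ζ φ' (hlift φ' h2)
    have e1 : f.mapIso φ = f.mapIso φ' := Iso.ext (h1.trans h2.symm)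
    have h3 := hμ hs₁
    have h4 := hμ hs₂
    have h5 : s₁ = s₂ := by
      apply hb.1
      refine Is.unique he' h3 ?_
      obtain ⟨i, hi⟩ := h4
      refine Is.of_iso ⟨i, hi⟩ (Iso.refl _) ?_
      change f.map φ.hom = f.map φ'.hom ≫ (BasedFunctor.comp w f).map (𝟙 ζ)
      rw [(BasedFunctor.comp w f).map_id, h1, h2]
      exact (Category.comp_id _).symm
    subst h5
    obtain ⟨a, ha, h6⟩ := hs₁.exists_hom hs₂
    rw [vert_eq_id a ha, w.map_id] at h6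
    exact Iso.ext (h6.trans (Category.comp_id _)).symm
  obtain ⟨s, hs⟩ := hb.2 s'
  obtain ⟨g₁, ζ₁, φ₁, hφ₁, hζ₁, hI⟩ := exists_obj e t.left s
  have h1 := hμ hI
  rw [hs] at h1
  have hg : g₁ = t.hom := by
    have h2 := h1.app
    rw [hs'.app] at h2
    exact (congrArg ULift.down h2).symm
  subst hg
  obtain ⟨a, ha, h2⟩ := h1.exists_hom hs'
  have h3 : f.map (φ₁ ≪≫ w.mapIso a).hom = ψ.hom := by
    change f.map (φ₁.hom ≫ w.map a.hom) = ψ.hom
    rw [f.map_comp, h2]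
    rfl
  exact ⟨φ₁ ≪≫ w.mapIso a, h3, fun φ' hφ' => huniq φ' _ hφ' h3⟩

/-- Descent of bijectivity along an affine flat surjective `U' ⟶ U`. -/
theorem bij_of_left (hr : AlgSt.RepByAlgSp (FibCat.fp y w))
    (hr' : AlgSt.RepByAlgSp (FibCat.fp (BasedFunctor.comp y f) (BasedFunctor.comp w f))) {U' : Over S} (b : U' ⟶ U)
    (haff : IsAffineHom b.left) (hflat : Flat b.left) (hsurj : Surjective b.left)
    (h : Bij (BasedFunctor.comp (AlgSt.overMap b) y) w f) : Bij y w f := by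
  obtain ⟨F, e, he⟩ := hr
  obtain ⟨F', e', he'⟩ := hr'
  obtain ⟨μ, hμ⟩ := exists_map e e' he'
  have : IsIso μ := by
    refine K893.IsoDesc.isIso_of_cover F.property F'.property
      (AlgSt.spMapOfOver (BasedFunctor.comp e' (FibCat.fpFst _ _))) μ b haff hflat hsurj fun T g' s' hs' => ?_
    obtain ⟨g, ζ, ψ, hψ, hζ, hI⟩ := exists_obj e' T s'
    have hg : g = g' ≫ b := by
      rw [hI.app] at hs'
      exact congrArg ULift.down hs'
    subst hg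
    obtain ⟨φ, hφ, hu⟩ := h (Over.mk g') ζ ψ hψ
    have hφ' : 𝒳.p.IsHomLift (𝟙 T) φ.hom := by
      apply lift_of_map f
      rw [hφ]
      exact hψ
    obtain ⟨s, hs⟩ := exists_sec he (y := y) (f := w) (g' ≫ b) ζ φ hφ'
    have key : ∀ (φ₂ : y.obj (Over.mk (g' ≫ b)) ≅ w.obj ζ) (hφ₂ : 𝒳.p.IsHomLift (𝟙 T) φ₂.hom)
        (s₂ : F.obj.obj.obj (op T)), Is e T s₂ (g' ≫ b) ζ φ₂ hφ₂ → f.map φ₂.hom = ψ.hom →
        μ.hom.app (op T) s₂ = s' := by
      intro φ₂ hφ₂ s₂ hI₂ hf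
      refine Is.unique he' ?_ hI
      obtain ⟨i, hi⟩ := hμ hI₂
      refine Is.of_iso ⟨i, hi⟩ (Iso.refl _) ?_
      change ψ.hom = f.map φ₂.hom ≫ (BasedFunctor.comp w f).map (𝟙 ζ)
      rw [(BasedFunctor.comp w f).map_id, hf]
      exact (Category.comp_id _).symm
    refine ⟨s, key φ hφ' s hs hφ, fun s₂ hs₂ => ?_⟩
    obtain ⟨g₂, ζ₂, φ₂, hφ₂, hζ₂, hI₂⟩ := exists_obj e T s₂
    have h1 := hμ hI₂
    have h1' : Is e' T s' g₂ ζ₂ (f.mapIso φ₂) (lift_map f hφ₂) := by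
      have := h1
      rwa [show μ.hom.app (op T) s₂ = s' from hs₂] at this
    have hg₂ : g₂ = g' ≫ b := by
      have h2 := h1'.app
      rw [hI.app] at h2
      exact (congrArg ULift.down h2).symm
    subst hg₂
    obtain ⟨a, ha, h2⟩ := h1'.exists_hom hI
    have h3 : φ₂ ≪≫ w.mapIso a = φ := hu _ (by
      change f.map (φ₂.hom ≫ w.map a.hom) = ψ.hom
      rw [f.map_comp, h2]
      rfl)
    have h4 : Is e T s₂ (g' ≫ b) ζ φ hφ' := Is.of_iso (g := g' ≫ b) (φ' := φ) (hφ' := hφ') hI₂ a (by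
      rw [← h3]
      rfl)
    exact Is.unique he h4 hs
  exact bij_of_isIso e he e' he' μ hμ

/-- Descent of bijectivity on both sides. -/
theorem bij_of_both {U' : Over S} {x : FibCat.overCat U ⥤ᵇ 𝒳}
    (hr : ∀ (W : Over S) (z : FibCat.overCat W ⥤ᵇ 𝒳), AlgSt.RepByAlgSp1 z)
    (hr' : ∀ (W : Over S) (z : FibCat.overCat W ⥤ᵇ 𝒴), AlgSt.RepByAlgSp1 z) (b : U' ⟶ U)
    (haff : IsAffineHom b.left) (hflat : Flat b.left) (hsurj : Surjective b.left)
    (h : Bij (BasedFunctor.comp (AlgSt.overMap b) x) (BasedFunctor.comp (AlgSt.overMap b) x) f) : Bij x x f :=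
  bij_of_left (hr _ _ _ _) (hr' _ _ _ _) b haff hflat hsurj
    (Bij.swap (bij_of_left (hr _ _ _ _) (hr' _ _ _ _) b haff hflat hsurj h))

end K893.BijSp
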