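import Groth.Agent.Gerb.K893.PtBase
import Groth.Agent.Gerb.K894.Span

/-!
# Two field-valued points in the same class agree over a common extension (helper893)
-/

set_option autoImplicit false
set_option backward.isDefEq.respectTransparency false
set_option backward.isDefEq.respectTransparency.types false

universe v₄ u₄ v₃ u₃ v₂ u₂ v u

open CategoryTheory AlgebraicGeometry Opposite K895.Fib

namespace K893.Common

variable {S : Scheme.{u}} {𝒵 : AlgSt.Cat S}

theorem exists_common (h𝒵 : FibCat.IsFibGrpd 𝒵.p) {k₁ k₂ : Type u} [Field k₁] [Field k₂]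
    {a₁ : Spec (CommRingCat.of k₁) ⟶ S} {a₂ : Spec (CommRingCat.of k₂) ⟶ S}
    (z₁ : FibCat.overCat (Over.mk a₁) ⥤ᵇ 𝒵) (z₂ : FibCat.overCat (Over.mk a₂) ⥤ᵇ 𝒵)
    (h : AlgSt.Points.mk (K893.Pt.topPt z₁) = AlgSt.Points.mk (K893.Pt.topPt z₂)) :
    ∃ (K : Type u) (_ : Field K) (c : Spec (CommRingCat.of K) ⟶ S) (b₁ : Over.mk c ⟶ Over.mk a₁)
      (b₂ : Over.mk c ⟶ Over.mk a₂),
      Nonempty (BasedFunctor.comp (AlgSt.overMap b₁) z₁ ≅ BasedFunctor.comp (AlgSt.overMap b₂) z₂) := by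
  obtain ⟨t, α, β, -⟩ := (K735.Pts.mk_eq_mk_iff h𝒵).1 h
  refine ⟨t.K, inferInstance, t.str, K735.Pts.baseHom α, K735.Pts.baseHom β, ?_⟩
  exact K894.Span.iso_of_span h𝒵 z₂ z₁ (Over.mk (𝟙 _)) (Over.mk (𝟙 _)) t.obj t.lies β α
    (K735.Pts.baseHom β) (K735.Pts.baseHom α)
    (by
      rw [K735.Pts.baseHom]
      change _ = _ ≫ _ ≫ eqToHom _ ≫ 𝟙 _
      rw [Category.comp_id])
    (by
      rw [K735.Pts.baseHom]
      change _ = _ ≫ _ ≫ eqToHom _ ≫ 𝟙 _
      rw [Category.comp_id])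

/-- A morphism of spectra of fields is surjective. -/
theorem surjective_of_field {K k : Type u} [Field K] [Field k]
    (f : Spec (CommRingCat.of K) ⟶ Spec (CommRingCat.of k)) : Surjective f := by
  have : Subsingleton (Spec (CommRingCat.of k)) := inferInstanceAs (Subsingleton (PrimeSpectrum k))
  exact ⟨fun y => ⟨IsLocalRing.closedPoint K, Subsingleton.elim _ _⟩⟩

theorem isAffineHom_spec {A B : CommRingCat.{u}} (f : Spec A ⟶ Spec B) : IsAffineHom f := inferInstance

end K893.Common
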