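import Groth.Agent.AlgSt.K735.Pts
import Groth.Agent.AlgSt.K734.FibFp
import Groth.Agent.Gerb.K895.Fib
import Groth.Agent.AlgSt.K735.Fp

/-!
# Sections of a space representing `U ×_𝒴 𝒳` versus objects (helper893)

`e : ofSp F ⥤ᵇ fp y f` an equivalence, `y : (Sch/U) ⟶ 𝒴`.
* `K893.Dict.Is e T s g ζ φ`: the section `s ∈ F(T)` corresponds to the triple `(g : T ⟶ U, ζ, φ : y(g) ≅ f ζ)`.
* `exists_obj`, `exists_sec`, `Is.app`, `Is.unique`, `Is.map`.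
-/

set_option autoImplicit false
set_option backward.isDefEq.respectTransparency false
set_option backward.isDefEq.respectTransparency.types false

universe v₄ u₄ v₃ u₃ v₂ u₂ v u

open CategoryTheory AlgebraicGeometry Opposite K895.Fib

namespace K893.Dict

variable {S : Scheme.{u}} {𝒳 : BasedCategory.{v₂, u₂} (Over S)} {𝒴 : BasedCategory.{v₃, u₃} (Over S)}
  {f : 𝒳 ⥤ᵇ 𝒴} {U : Over S} {y : FibCat.overCat U ⥤ᵇ 𝒴} {F : AlgSp.Sp S}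
  (e : AlgSt.ofSp F ⥤ᵇ FibCat.fp y f)

/-- the object of the 2-fibre product given by `g`, `ζ`, `φ` -/
def obj (y : FibCat.overCat U ⥤ᵇ 𝒴) (f : 𝒳 ⥤ᵇ 𝒴) {T : Over S} (g : T ⟶ U) (ζ : 𝒳.obj)
    (φ : y.obj (Over.mk g) ≅ f.obj ζ) (hφ : 𝒴.p.IsHomLift (𝟙 T) φ.hom) : (FibCat.fp y f).obj :=
  ⟨⟨Over.mk g, ζ, φ⟩, hφ⟩

/-- the section `s` of `F` over `T` corresponds to the triple `(g, ζ, φ)` -/
def Is (T : Over S) (s : F.obj.obj (op T)) (g : T ⟶ U) (ζ : 𝒳.obj)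
    (φ : y.obj (Over.mk g) ≅ f.obj ζ) (hφ : 𝒴.p.IsHomLift (𝟙 T) φ.hom) : Prop :=
  ∃ i : e.obj ⟨T, s⟩ ≅ obj y f g ζ φ hφ, (FibCat.fp y f).p.IsHomLift (𝟙 T) i.hom

variable {e}

theorem Is.app {T : Over S} {s : F.obj.obj (op T)} {g : T ⟶ U} {ζ : 𝒳.obj}
    {φ : y.obj (Over.mk g) ≅ f.obj ζ} {hφ : 𝒴.p.IsHomLift (𝟙 T) φ.hom} (h : Is e T s g ζ φ hφ) :
    (AlgSt.spMapOfOver (BasedFunctor.comp e (FibCat.fpFst y f))).hom.app (op T) s = ⟨g⟩ := by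
  obtain ⟨i, hi⟩ := h
  rw [AlgSt.spMapOfOver_app]
  apply ULift.ext
  have h1 : (FibCat.overCat U).p.IsHomLift (𝟙 T) i.hom.hom.fst := lift_map (FibCat.fpFst y f) hi
  have h2 := IsHomLift.fac' (FibCat.overCat U).p (𝟙 T) i.hom.hom.fst
  have h3 : i.hom.hom.fst.left ≫ g = (e.obj ⟨T, s⟩).obj.fst.hom := Over.w i.hom.hom.fst
  have h4 : i.hom.hom.fst.left = eqToHom ((BasedFunctor.comp e (FibCat.fpFst y f)).w_obj ⟨T, s⟩) := by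
    have : (FibCat.overCat U).p.map i.hom.hom.fst = i.hom.hom.fst.left := rfl
    rw [← this, h2]
    simp
  change eqToHom _ ≫ (e.obj ⟨T, s⟩).obj.fst.hom = g
  rw [← h3, h4, eqToHom_trans_assoc, eqToHom_refl, Category.id_comp]

variable (e) in
theorem exists_obj (T : Over S) (s : F.obj.obj (op T)) :
    ∃ (g : T ⟶ U) (ζ : 𝒳.obj) (φ : y.obj (Over.mk g) ≅ f.obj ζ) (hφ : 𝒴.p.IsHomLift (𝟙 T) φ.hom),
      𝒳.p.obj ζ = T ∧ Is e T s g ζ φ hφ := by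
  have h0 : (e.obj ⟨T, s⟩).obj.fst.left = T := e.w_obj ⟨T, s⟩
  generalize hw : e.obj ⟨T, s⟩ = w at h0
  obtain ⟨⟨a, ζ, φ⟩, hw'⟩ := w
  have h1 : (FibCat.overCat U).p.obj a = T := h0
  change a.left = T at h0
  subst h0
  have hφ : 𝒴.p.IsHomLift (𝟙 a.left) φ.hom := hw'
  have hζ : 𝒳.p.obj ζ = a.left := by
    have := obj_eq_of_lift_right hφ
    rwa [f.w_obj] at this
  refine ⟨a.hom, ζ, φ, hφ, hζ, ?_⟩
  refine ⟨eqToIso hw, ?_⟩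
  rw [eqToIso.hom]
  exact IsHomLift.eqToHom_domain_lift_id hw (e.w_obj _)

theorem exists_sec (he : FibCat.IsEquivOver e) {T : Over S} (g : T ⟶ U) (ζ : 𝒳.obj)
    (φ : y.obj (Over.mk g) ≅ f.obj ζ) (hφ : 𝒴.p.IsHomLift (𝟙 T) φ.hom) :
    ∃ s : F.obj.obj (op T), Is e T s g ζ φ hφ := by
  obtain ⟨-, -, h⟩ := IsEquivOver.elim he
  obtain ⟨⟨T', s⟩, i, hi, hT⟩ := h (obj y f g ζ φ hφ)
  change T' = T at hT
  subst hT
  exact ⟨s, i, hi⟩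

theorem Is.unique (he : FibCat.IsEquivOver e) {T : Over S} {s s' : F.obj.obj (op T)} {g : T ⟶ U} {ζ : 𝒳.obj}
    {φ : y.obj (Over.mk g) ≅ f.obj ζ} {hφ : 𝒴.p.IsHomLift (𝟙 T) φ.hom} (h : Is e T s g ζ φ hφ)
    (h' : Is e T s' g ζ φ hφ) : s = s' := by
  obtain ⟨i, hi⟩ := h
  obtain ⟨i', hi'⟩ := h'
  obtain ⟨_, _, -⟩ := IsEquivOver.elim he
  obtain ⟨j, hj⟩ := e.toFunctor.map_surjective (i.hom ≫ i'.inv)
  have h1 : (FibCat.fp y f).p.IsHomLift (𝟙 T) (i.hom ≫ i'.inv) := by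
    have : (FibCat.fp y f).p.IsHomLift (𝟙 T) i'.inv := by
      have := lift_inv (χ := i'.hom) hi'
      rwa [IsIso.Iso.inv_hom] at this
    exact lift_id_comp hi this
  rw [← hj] at h1
  have h2 := lift_of_map e h1
  have h3 := IsHomLift.fac' (AlgSt.ofSp F).p (𝟙 T) j
  have h4 : j.hom = 𝟙 T := by
    have : (AlgSt.ofSp F).p.map j = j.hom := rfl
    rw [← this, h3]; simp
  have h5 := j.map_sec
  rw [h4, op_id, F.obj.map_id] at h5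
  exact h5.symm

/-- two triples of the same section are isomorphic -/
theorem Is.exists_hom {T : Over S} {s : F.obj.obj (op T)} {g : T ⟶ U} {ζ ζ' : 𝒳.obj}
    {φ : y.obj (Over.mk g) ≅ f.obj ζ} {hφ : 𝒴.p.IsHomLift (𝟙 T) φ.hom}
    {φ' : y.obj (Over.mk g) ≅ f.obj ζ'} {hφ' : 𝒴.p.IsHomLift (𝟙 T) φ'.hom} (h : Is e T s g ζ φ hφ)
    (h' : Is e T s g ζ' φ' hφ') : ∃ a : ζ ≅ ζ', 𝒳.p.IsHomLift (𝟙 T) a.hom ∧ φ'.hom = φ.hom ≫ f.map a.hom := by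
  obtain ⟨i, hi⟩ := h
  obtain ⟨i', hi'⟩ := h'
  let b : obj y f g ζ φ hφ ≅ obj y f g ζ' φ' hφ' := i.symm ≪≫ i'
  have hi2 : (FibCat.fp y f).p.IsHomLift (𝟙 T) i.inv := by
    have := lift_inv (χ := i.hom) hi
    rwa [IsIso.Iso.inv_hom] at this
  have hb : (FibCat.fp y f).p.IsHomLift (𝟙 T) b.hom := lift_id_comp hi2 hi'
  let a : ζ ≅ ζ' := (FibCat.fpSnd y f).mapIso b
  have h1 : 𝒳.p.IsHomLift (𝟙 T) a.hom := lift_map (FibCat.fpSnd y f) hb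
  refine ⟨a, h1, ?_⟩
  have h2 : (FibCat.overCat U).p.IsHomLift (𝟙 T) b.hom.hom.fst := lift_map (FibCat.fpFst y f) hb
  have h3 : b.hom.hom.fst = 𝟙 (Over.mk g) := by
    apply Over.OverMorphism.ext
    have h4 := IsHomLift.fac' (FibCat.overCat U).p (𝟙 T) b.hom.hom.fst
    have h5 : (FibCat.overCat U).p.map b.hom.hom.fst = b.hom.hom.fst.left := rfl
    rw [← h5, h4]
    simp
    rfl
  have h6 := b.hom.hom.w
  have h7 : y.map b.hom.hom.fst ≫ φ'.hom = φ.hom ≫ f.map b.hom.hom.snd := h6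
  rw [h3] at h7
  have h8 : y.map (𝟙 (Over.mk g)) = 𝟙 _ := y.toFunctor.map_id _
  rw [h8] at h7
  exact (Category.id_comp φ'.hom).symm.trans h7

/-- an isomorphism of triples gives the same section -/
theorem Is.of_iso {T : Over S} {s : F.obj.obj (op T)} {g : T ⟶ U} {ζ ζ' : 𝒳.obj}
    {φ : y.obj (Over.mk g) ≅ f.obj ζ} {hφ : 𝒴.p.IsHomLift (𝟙 T) φ.hom}
    {φ' : y.obj (Over.mk g) ≅ f.obj ζ'} {hφ' : 𝒴.p.IsHomLift (𝟙 T) φ'.hom} (h : Is e T s g ζ φ hφ)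
    (a : ζ ≅ ζ') (w : φ'.hom = φ.hom ≫ f.map a.hom) : Is e T s g ζ' φ' hφ' := by
  obtain ⟨i, hi⟩ := h
  let b : obj y f g ζ φ hφ ≅ obj y f g ζ' φ' hφ' := K734.Fib.mkIsoFp (Iso.refl _) a (by
    have h8 : y.map (𝟙 (Over.mk g)) = 𝟙 _ := y.toFunctor.map_id _
    change y.map (𝟙 (Over.mk g)) ≫ φ'.hom = φ.hom ≫ f.map a.hom
    rw [h8, Category.id_comp, w])
  have hb : (FibCat.fp y f).p.IsHomLift (𝟙 T) b.hom := by
    refine IsHomLift.of_fac' _ _ _ rfl rfl ?_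
    simp
    rfl
  exact ⟨i ≪≫ b, lift_id_comp hi hb⟩

/-- compatibility with restriction -/
theorem Is.map {T T' : Over S} {s : F.obj.obj (op T)} {g : T ⟶ U} {ζ : 𝒳.obj}
    {φ : y.obj (Over.mk g) ≅ f.obj ζ} {hφ : 𝒴.p.IsHomLift (𝟙 T) φ.hom} (h : Is e T s g ζ φ hφ)
    (h𝒳 : FibCat.IsFibGrpd 𝒳.p) (h𝒴 : FibCat.IsFibGrpd 𝒴.p)
    (t : T' ⟶ T) {ζ' : 𝒳.obj} (χ : ζ' ⟶ ζ)
    {φ' : y.obj (Over.mk (t ≫ g)) ≅ f.obj ζ'} {hφ' : 𝒴.p.IsHomLift (𝟙 T') φ'.hom}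
    (w : φ'.hom ≫ f.map χ = y.map (Over.homMk t rfl : Over.mk (t ≫ g) ⟶ Over.mk g) ≫ φ.hom) :
    Is e T' (F.obj.map t.op s) (t ≫ g) ζ' φ' hφ' := by
  obtain ⟨i, hi⟩ := h
  have hO : FibCat.IsFibGrpd (FibCat.overCat U).p := K735.Fp.isFibGrpd_overCat _
  have hfp : FibCat.IsFibGrpd (FibCat.fp y f).p := K735.Fp.isFibGrpd_fp hO h𝒳 h𝒴 y f
  let r : (⟨T', F.obj.map t.op s⟩ : (AlgSt.ofSp F).obj) ⟶ ⟨T, s⟩ := ⟨t, rfl⟩
  have hr : (AlgSt.ofSp F).p.IsHomLift t r := IsHomLift.map (AlgSt.ofSp F).p r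
  let c : obj y f (t ≫ g) ζ' φ' hφ' ⟶ obj y f g ζ φ hφ :=
    K734.Fib.mkHomFp (Over.homMk t rfl : Over.mk (t ≫ g) ⟶ Over.mk g) χ w.symm
  have hc : (FibCat.fp y f).p.IsHomLift t c := by
    refine IsHomLift.of_fac' _ _ _ rfl rfl ?_
    simp
    rfl
  have h1 : (FibCat.fp y f).p.IsHomLift t (e.map r ≫ i.hom) := lift_comp_id (lift_map e hr) hi
  obtain ⟨j, hj, -, -, -⟩ := exists_iso hfp t c (e.map r ≫ i.hom) hc h1
  exact ⟨j, hj⟩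

end K893.Dict
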