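import Groth.Agent.Gerb.K893.Sub
import Groth.Agent.AlgSt.K735.Pts
import Groth.Agent.Gerb.K895.Equiv
import Groth.Agent.AlgSt.K735.Fp

/-!
# Essential images of fully faithful functors, invariance under equivalences (helper893)
-/

set_option autoImplicit false
set_option backward.isDefEq.respectTransparency false
set_option backward.isDefEq.respectTransparency.types false

universe v₄ u₄ v₃ u₃ v₂ u₂ v u

open CategoryTheory AlgebraicGeometry K895.Fib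

namespace K893.Ess

variable {S : Scheme.{u}} {𝒳 : BasedCategory.{v₂, u₂} (Over S)} {𝒵 : BasedCategory.{v₃, u₃} (Over S)}

/-- essential image -/
def Q (f : 𝒵 ⥤ᵇ 𝒳) (ξ : 𝒳.obj) : Prop := ∃ z : 𝒵.obj, Nonempty (f.obj z ≅ ξ)

theorem closed (f : 𝒵 ⥤ᵇ 𝒳) : ObjectProperty.IsClosedUnderIsomorphisms (Q f) where
  of_iso := fun e ⟨z, ⟨i⟩⟩ => ⟨z, ⟨i ≪≫ e⟩⟩

/-- the corestriction to the essential image -/
def lift (f : 𝒵 ⥤ᵇ 𝒳) : 𝒵 ⥤ᵇ AlgSt.fullSub 𝒳 (Q f) :=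
  K901.SubStack.liftFun f (fun z => ⟨z, ⟨Iso.refl _⟩⟩)

theorem lift_comp (f : 𝒵 ⥤ᵇ 𝒳) : BasedFunctor.comp (lift f) (AlgSt.subIncl 𝒳 (Q f)) = f := rfl

theorem isEquivOver_lift (h𝒵 : FibCat.IsFibGrpd 𝒵.p) (h𝒳 : FibCat.IsFibGrpd 𝒳.p) (f : 𝒵 ⥤ᵇ 𝒳)
    (h1 : f.toFunctor.Full) (h2 : f.toFunctor.Faithful) : FibCat.IsEquivOver (lift f) := by
  refine K734.Fib.isEquivOver_of ⟨fun {a b} g => ?_⟩ ⟨fun {a b} g g' hg => ?_⟩ fun ξ => ?_
  · obtain ⟨k, hk⟩ := f.toFunctor.map_surjective g.hom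
    exact ⟨k, ObjectProperty.hom_ext _ hk⟩
  · exact f.toFunctor.map_injective (congrArg (fun t => t.hom) hg)
  · obtain ⟨ξ, z, ⟨i⟩⟩ := ξ
    -- correct `i` to a vertical isomorphism
    have hz : 𝒳.p.obj (f.obj z) = 𝒵.p.obj z := f.w_obj z
    obtain ⟨z', χ, hχ⟩ := K895.Fib.exists_lift h𝒵 (𝒳.p.map i.inv ≫ eqToHom hz) z rfl
    have h3 : 𝒳.p.IsHomLift (𝒳.p.map i.inv ≫ eqToHom hz) (f.map χ) := lift_map f hχ
    have h4 : 𝒳.p.IsHomLift ((𝒳.p.map i.inv ≫ eqToHom hz) ≫ eqToHom hz.symm ≫ 𝒳.p.map i.hom) (f.map χ ≫ i.hom) := by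
      refine K895.Fib.lift_comp h3 ?_
      exact IsHomLift.of_fac _ _ _ hz rfl (by simp)
    have h5 : (𝒳.p.map i.inv ≫ eqToHom hz) ≫ eqToHom hz.symm ≫ 𝒳.p.map i.hom = 𝟙 _ := by
      rw [Category.assoc, eqToHom_trans_assoc, eqToHom_refl, Category.id_comp, ← Functor.map_comp, i.inv_hom_id,
        CategoryTheory.Functor.map_id]
    rw [h5] at h4
    have h6 : IsIso (f.map χ ≫ i.hom) := K895.Fib.isIso h𝒳 (𝟙 _) _ h4
    refine ⟨z', ObjectProperty.isoMk _ (asIso (f.map χ ≫ i.hom)), ?_⟩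
    refine K734.Fib.IsVert.of_map (AlgSt.subIncl 𝒳 (Q f)) ?_
    exact K734.Fib.IsVert.of_lift h4

/-- invariance of `SmoothLocally` -/
theorem smoothLocally_of_isEquivOver {P : Scheme.{u} → Prop} {e : 𝒵 ⥤ᵇ 𝒳} (he : FibCat.IsEquivOver e)
    (h : AlgSt.SmoothLocally P 𝒵) : AlgSt.SmoothLocally P 𝒳 := by
  intro U x hx
  obtain ⟨G, hG, -, ⟨β⟩⟩ := K734.Fib.exists_inverse he
  refine h U (BasedFunctor.comp x G) ?_
  refine K735.Rep.repByAlgSpWith_of_sq _ x (BasedFunctor.comp x G) (BasedFunctor.id _) e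
    (K734.Fib.isEquivOver_refl _) he ?_ hx
  exact (K734.Fib.wl x β : BasedFunctor.comp x (BasedFunctor.comp G e) ≅ _)

end K893.Ess
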