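import Groth.Agent.Gerb.K893.Sub
import Groth.Agent.Gerb.K893.Dict

/-!
# Field-valued points of stacks (helper893)
-/

set_option autoImplicit false
set_option backward.isDefEq.respectTransparency false
set_option backward.isDefEq.respectTransparency.types false

universe v₄ u₄ v₃ u₃ v₂ u₂ v u

open CategoryTheory AlgebraicGeometry Opposite K895.Fib

namespace K893.Pt

section

variable {S : Scheme.{u}} {𝒳 : BasedCategory.{v₂, u₂} (Over S)} {𝒴 : BasedCategory.{v₃, u₃} (Over S)}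

/-- `RepByAlgSpWith` surjective implies surjective on points. -/
theorem surjective_of_rep (h𝒴 : FibCat.IsFibGrpd 𝒴.p) {f : 𝒳 ⥤ᵇ 𝒴}
    (hf : AlgSt.RepByAlgSpWith AlgSp.IsSurjectiveMor f) : Function.Surjective (AlgSt.Points.map f) := by
  intro q
  obtain ⟨q, rfl⟩ := AlgSt.Points.mk_surjective q
  obtain ⟨F, e, he, hs⟩ := hf (Over.mk q.str) (K895.Glue.yo h𝒴 q.obj q.lies)
  obtain ⟨x, -⟩ := hs (AlgSp.Points.mk ⟨q.K, q.str, ⟨𝟙 _⟩⟩)
  induction x using AlgSp.Points.ind with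
  | h x =>
    obtain ⟨M, m, s⟩ := x
    obtain ⟨g, ζ, φ, hφ, hζ, -⟩ := K893.Dict.exists_obj e (Over.mk m) s
    refine ⟨AlgSt.Points.mk ⟨M, m, ζ, hζ⟩, ?_⟩
    exact K735.Pts.mk_eq_of_hom (p := (⟨M, m, ζ, hζ⟩ : AlgSt.FPt 𝒳).map f) (q := q)
      (φ.inv ≫ K895.Glue.yoHom h𝒴 q.obj q.lies (Over.mk g))

/-- `baseHom` is a lift. -/
theorem baseHom_lift {p q : AlgSt.FPt 𝒳} (a : p.obj ⟶ q.obj) :
    𝒳.p.IsHomLift (K735.Pts.baseHom a) a :=
  IsHomLift.of_fac _ _ _ p.lies q.lies rfl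

/-- the functor of a field-valued point -/
noncomputable abbrev yoPt (h𝒳 : FibCat.IsFibGrpd 𝒳.p) (q : AlgSt.FPt 𝒳) : FibCat.overCat (Over.mk q.str) ⥤ᵇ 𝒳 :=
  K895.Glue.yo h𝒳 q.obj q.lies

end

section

variable {S : Scheme.{u}} {𝒳 : AlgSt.Cat S}

/-- the value of a chart on `𝟙` as a field-valued point, and its class -/
noncomputable def topPt {K : Type u} [Field K] {a : Spec (CommRingCat.of K) ⟶ S}
    (p : FibCat.overCat (Over.mk a) ⥤ᵇ 𝒳) : AlgSt.FPt 𝒳 :=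
  { K := K, str := a, obj := p.obj (Over.mk (𝟙 (Over.mk a))), lies := p.w_obj _ }

theorem ofChart_eq_topPt {K : Type u} [Field K] {a : Spec (CommRingCat.of K) ⟶ S}
    (p : FibCat.overCat (Over.mk a) ⥤ᵇ 𝒳) (t : ↥(Over.mk a).left) :
    AlgSt.Points.ofChart p t = AlgSt.Points.mk (topPt p) :=
  K735.Pts.mk_eq_of_hom (q := topPt p) (p.map (Over.homMk (Over.homMk
    ((Over.mk a).left.fromSpecResidueField t) rfl) (by simp)))

end

end K893.Pt
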