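import Groth.Agent.Gerb.K893.Desc
import Groth.Agent.Gerb.K893.PtBase

/-!
# Stacks with a flat surjective field-valued point (helper893)
-/

set_option autoImplicit false
set_option backward.isDefEq.respectTransparency false
set_option backward.isDefEq.respectTransparency.types false

universe v₄ u₄ v₃ u₃ v₂ u₂ v u

open CategoryTheory CategoryTheory.Limits AlgebraicGeometry Opposite K895.Fib

namespace K893.FieldPt

variable {S : Scheme.{u}} {𝒳 : BasedCategory.{v₂, u₂} (Over S)} {𝒴 : BasedCategory.{v₃, u₃} (Over S)}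

/-- Surjective on points and representable implies `RepByAlgSpWith` surjective. -/
theorem rep_surj (h𝒳 : FibCat.IsFibGrpd 𝒳.p) (h𝒴 : FibCat.IsFibGrpd 𝒴.p) {f : 𝒳 ⥤ᵇ 𝒴}
    (hf : AlgSt.RepByAlgSp1 f) (h : Function.Surjective (AlgSt.Points.map f)) :
    AlgSt.RepByAlgSpWith AlgSp.IsSurjectiveMor f := by
  intro U y
  obtain ⟨F, e, he⟩ := hf U y
  refine ⟨F, e, he, fun x => ?_⟩
  have hO : FibCat.IsFibGrpd (FibCat.overCat U).p := K735.Fp.isFibGrpd_overCat _
  induction x using AlgSp.Points.ind with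
  | h x =>
    obtain ⟨K, str, ⟨g⟩⟩ := x
    let q : AlgSt.FPt (FibCat.overCat U) := ⟨K, str, Over.mk g, rfl⟩
    obtain ⟨r, hr⟩ := h (AlgSt.Points.mk (q.map y))
    obtain ⟨r, rfl⟩ := AlgSt.Points.mk_surjective r
    obtain ⟨w, a, -, -⟩ := K735.Pts.exists_fp_of_rel h𝒳 hO h𝒴 y f q r ((K735.Pts.mk_eq_mk_iff h𝒴).1 hr.symm)
    obtain ⟨M, m, ⟨⟨T, ζ, φ⟩, hw⟩, hl⟩ := w
    have h1 : T.left = Over.mk m := hl
    obtain ⟨g', hg'⟩ : ∃ g' : Over.mk m ⟶ U, g' = eqToHom h1.symm ≫ T.hom := ⟨_, rfl⟩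
    let i : Over.mk g' ≅ T := Over.isoMk (eqToIso h1.symm) (by rw [hg']; simp)
    have h2 : (FibCat.overCat U).p.IsHomLift (𝟙 (Over.mk m)) i.hom :=
      IsHomLift.of_fac' _ _ _ rfl h1 (by
        have : (FibCat.overCat U).p.map i.hom = eqToHom h1.symm := rfl
        rw [this]
        simp)
    have h3 : 𝒴.p.IsHomLift (𝟙 (Over.mk m)) φ.hom := by
      have h4 : 𝒴.p.IsHomLift (𝟙 T.left) φ.hom := hw
      rwa [h1] at h4
    obtain ⟨s, hs⟩ := K893.Dict.exists_sec he g' ζ (y.mapIso i ≪≫ φ) (lift_id_comp (lift_map y h2) h3)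
    refine ⟨AlgSp.Points.mk ⟨M, m, s⟩, ?_⟩
    have h5 := hs.app
    let b : T ⟶ Over.mk g := a
    let c : Over.mk m ⟶ Over.mk str := eqToHom h1.symm ≫ b.left
    have h6 : c ≫ g = g' := by
      rw [hg', Category.assoc]
      congr 1
      exact Over.w b
    refine AlgSp.Points.mk_eq_mk_iff.2 ⟨M, inferInstance, m, 𝟙 _, c, ?_⟩
    change ((AlgSp.yon S).obj U).obj.map (𝟙 _) ((AlgSt.spMapOfOver (BasedFunctor.comp e (FibCat.fpFst y f))).hom.app
      (op (Over.mk m)) s) = ⟨c ≫ g⟩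
    rw [h5, h6]
    simp

theorem flat_to_field {k : Type u} [Field k] {X : Scheme.{u}} (f : X ⟶ Spec (CommRingCat.of k)) : Flat f := by
  have : Subsingleton (Spec (CommRingCat.of k)) := inferInstanceAs (Subsingleton (PrimeSpectrum k))
  infer_instance

theorem locP_flat_to_field {k : Type u} [Field k] {a : Spec (CommRingCat.of k) ⟶ S} {F : AlgSp.Sp S}
    (m : F ⟶ (AlgSp.yon S).obj (Over.mk a)) : AlgSp.LocP @Flat m := by
  intro U V c d h hc hd w
  obtain ⟨d', rfl⟩ := (AlgSp.yon S).map_surjective d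
  have h1 : Etale d'.left := by
    have := K609.Points.repWith_mono (P := @Etale) (Q := @Etale) (fun _ h => h) hd
    exact hd.2 (𝟙 _) (𝟙 _) d' (IsPullback.of_horiz_isIso ⟨by simp⟩)
  have h2 : Flat (h.left ≫ d'.left) := flat_to_field _
  exact K597.etLoc_flat.cancel h.left d'.left h1 h2

theorem flat_descends : MorphismProperty.DescendsAlong @Flat (@Flat ⊓ @Surjective : MorphismProperty Scheme.{u}) where
  of_isPullback := by
    intro A X Y Z fst snd f g sq hf hfst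
    have h1 : Flat snd := MorphismProperty.of_isPullback sq hf.1
    have h2 : Surjective snd := MorphismProperty.of_isPullback sq hf.2
    have h3 : Flat f := hf.1
    have h4 : Flat fst := hfst
    refine K629.SchDesc.flat snd g h1 h2 ?_
    rw [← sq.w]
    infer_instance

/-- `|𝒵|` is a singleton when `𝒵` receives a surjective map from the spectrum of a field. -/
theorem subsingleton_points (h𝒴 : FibCat.IsFibGrpd 𝒴.p) {k : Type u} [Field k] {a : Spec (CommRingCat.of k) ⟶ S}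
    (z : FibCat.overCat (Over.mk a) ⥤ᵇ 𝒴) (hz : AlgSt.RepByAlgSpWith AlgSp.IsSurjectiveMor z)
    (p : AlgSt.Points 𝒴) : p = AlgSt.Points.mk (⟨k, a, z.obj (Over.mk (𝟙 (Over.mk a))), z.w_obj _⟩ : AlgSt.FPt 𝒴) := by
  obtain ⟨q, rfl⟩ := K893.Pt.surjective_of_rep h𝒴 hz p
  obtain ⟨q, rfl⟩ := AlgSt.Points.mk_surjective q
  exact K735.Pts.mk_eq_of_hom (p := q.map z) (q := (⟨k, a, z.obj (Over.mk (𝟙 (Over.mk a))), z.w_obj _⟩ : AlgSt.FPt 𝒴))
    (z.map (Over.homMk q.obj.hom (by simp) : q.obj ⟶ Over.mk (𝟙 (Over.mk a))))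

/-- any functor from a category with a point to such a stack is surjective on points -/
theorem surjective_of_field (h𝒴 : FibCat.IsFibGrpd 𝒴.p) {k : Type u} [Field k] {a : Spec (CommRingCat.of k) ⟶ S}
    (z : FibCat.overCat (Over.mk a) ⥤ᵇ 𝒴) (hz : AlgSt.RepByAlgSpWith AlgSp.IsSurjectiveMor z)
    (f : 𝒳 ⥤ᵇ 𝒴) (hne : Nonempty (AlgSt.Points 𝒳)) : Function.Surjective (AlgSt.Points.map f) := by
  intro p
  obtain ⟨q⟩ := hne
  exact ⟨q, (subsingleton_points h𝒴 z hz _).trans (subsingleton_points h𝒴 z hz _).symm⟩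

theorem nonempty_points_spec {k : Type u} [Field k] (a : Spec (CommRingCat.of k) ⟶ S) :
    Nonempty (AlgSt.Points (FibCat.overCat (Over.mk a))) :=
  ⟨AlgSt.Points.mk ⟨k, a, Over.mk (𝟙 (Over.mk a)), rfl⟩⟩

/-- Any field-valued point of a stack with a flat surjective field-valued point is flat and surjective. -/
theorem flat_surj (h𝒴 : FibCat.IsFibGrpd 𝒴.p)
    (hd : ∀ (U : Over S) (y : FibCat.overCat U ⥤ᵇ 𝒴), AlgSt.RepByAlgSp1 y)
    {k : Type u} [Field k] {a : Spec (CommRingCat.of k) ⟶ S}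
    (z : FibCat.overCat (Over.mk a) ⥤ᵇ 𝒴) (hz : AlgSt.RepByAlgSpWith AlgSp.IsSurjectiveMor z)
    (hzf : AlgSt.RepByAlgSpWith (AlgSp.LocP @Flat) z) {k' : Type u} [Field k'] {a' : Spec (CommRingCat.of k') ⟶ S}
    (z' : FibCat.overCat (Over.mk a') ⥤ᵇ 𝒴) :
    AlgSt.RepByAlgSpWith AlgSp.IsSurjectiveMor z' ∧ AlgSt.RepByAlgSpWith (AlgSp.LocP @Flat) z' := by
  have := flat_descends.{u}
  refine ⟨rep_surj (K735.Fp.isFibGrpd_overCat _) h𝒴 (hd _ z') (surjective_of_field h𝒴 z hz z' (nonempty_points_spec a')),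
    K893.Desc.rep_descend (D := @Flat) K597.etLoc_flat h𝒴 (hd _ z') hd z hzf hz ?_⟩
  obtain ⟨F, e, he⟩ := hd _ z' (Over.mk a) z
  exact ⟨F, e, he, locP_flat_to_field _⟩

end K893.FieldPt
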