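import Groth.Agent.S10104
import Groth.Agent.S12869

/-! The rows S10104 (bootstrap for algebraic spaces) and S12869 (monomorphisms of algebraic stacks
compose) under short names. -/

set_option autoImplicit false
universe u
open CategoryTheory AlgebraicGeometry

namespace K893.RowE

theorem isAlgSpace_of_cover {S : Scheme.{u}} (F : AlgSp.Sp S) (U : AlgSp.Space S)
    (p : U.obj ⟶ F) (hp : AlgSp.RepBySpWith (AlgSp.IsSurjectiveMor ⊓ AlgSp.LocP @Flat ⊓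
      AlgSp.LocP @LocallyOfFinitePresentation) p.hom) :
    AlgSp.IsAlgSpace F := Groth.Agent.S10104.result S F U p hp

theorem mono_comp {S : Scheme.{u}} {𝒳 𝒴 𝒵 : AlgSt.Cat S}
    (h𝒳 : AlgSt.IsAlgStack Scheme.fppfPrecoverage 𝒳) (h𝒴 : AlgSt.IsAlgStack Scheme.fppfPrecoverage 𝒴) (h𝒵 : AlgSt.IsAlgStack Scheme.fppfPrecoverage 𝒵)
    (f : 𝒳 ⥤ᵇ 𝒴) (g : 𝒴 ⥤ᵇ 𝒵) (hf : AlgSt.IsMono f) (hg : AlgSt.IsMono g) :
    AlgSt.IsMono (BasedFunctor.comp f g) := Groth.Agent.S12869.result h𝒳 h𝒴 h𝒵 f g hf hg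

end K893.RowE
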