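import Groth.Agent.Gerb.K893.SubSp
import Groth.Agent.Gerb.K893.Desc
import Groth.Agent.Gerb.K893.RowE
import Groth.Agent.Gerb.K893.RowsA
import Groth.Agent.Gerb.K894.Loc
import Groth.Agent.Gerb.K894.Span

/-!
# The image substack of a chart with flat, locally finitely presented self-fibre-product (helper893)

`u : 𝒜 ⟶ 𝒳`; `Q u ξ` : the object `ξ` comes fppf-locally from `u`.
-/

set_option autoImplicit false
set_option backward.isDefEq.respectTransparency false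
set_option backward.isDefEq.respectTransparency.types false

universe v₄ u₄ v₃ u₃ v₂ u₂ v u

open CategoryTheory CategoryTheory.Limits AlgebraicGeometry Opposite K895.Fib

namespace K893.ImSub

variable {S : Scheme.{u}} {𝒳 : BasedCategory.{v₂, u₂} (Over S)} {𝒜 : BasedCategory.{v₃, u₃} (Over S)}

/-- `ξ` comes fppf-locally from `u`. -/
def Q (u : 𝒜 ⥤ᵇ 𝒳) (ξ : 𝒳.obj) : Prop :=
  ∃ R ∈ (QuotSh.J Scheme.fppfPrecoverage S) (𝒳.p.obj ξ), ∀ ⦃V : Over S⦄ (f : V ⟶ 𝒳.p.obj ξ), R f →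
    ∃ (t : 𝒜.obj) (φ : u.obj t ⟶ ξ), 𝒳.p.IsHomLift f φ

variable {u : 𝒜 ⥤ᵇ 𝒳}

theorem Q_hom (h𝒳 : FibCat.IsFibGrpd 𝒳.p) ⦃A B : 𝒳.obj⦄ (α : A ⟶ B) (hB : Q u B) : Q u A := by
  obtain ⟨R, hR, h⟩ := hB
  refine ⟨R.pullback (𝒳.p.map α), GrothendieckTopology.pullback_stable _ _ hR, fun V f hf => ?_⟩
  obtain ⟨t, φ, hφ⟩ := h _ hf
  obtain ⟨χ, hχ, -⟩ := exists_fac h𝒳 f (𝒳.p.map α) α φ (IsHomLift.map 𝒳.p α) hφ
  exact ⟨t, χ, hχ⟩

theorem Q_iso (h𝒳 : FibCat.IsFibGrpd 𝒳.p) : ObjectProperty.IsClosedUnderIsomorphisms (Q u) :=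
  ⟨fun e h => Q_hom h𝒳 e.inv h⟩

theorem Q_local (h𝒜 : FibCat.IsFibGrpd 𝒜.p) : K893.SubSp.IsLocal (Q u) := by
  rintro ξ ⟨R, hR, h⟩
  let T : Sieve (𝒳.p.obj ξ) :=
    { arrows := fun V f => ∃ (t : 𝒜.obj) (ψ : u.obj t ⟶ ξ), 𝒳.p.IsHomLift f ψ
      downward_closed := fun {V W f} hf k => by
        obtain ⟨t, ψ, hψ⟩ := hf
        obtain ⟨t', χ, hχ⟩ := exists_lift h𝒜 k t ((u.w_obj t).symm.trans (obj_eq_of_lift_left hψ))
        exact ⟨t', u.map χ ≫ ψ, lift_comp (lift_map u hχ) hψ⟩ }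
  refine ⟨T, (QuotSh.J Scheme.fppfPrecoverage S).transitive hR T fun V f hf => ?_, fun V f hf => hf⟩
  obtain ⟨η, φ, hφ, R', hR', h'⟩ := h f hf
  have hV : 𝒳.p.obj η = V := obj_eq_of_lift_left hφ
  subst hV
  refine (QuotSh.J Scheme.fppfPrecoverage S).superset_covering (fun W g hg => ?_) hR'
  obtain ⟨t, ψ, hψ⟩ := h' g hg
  exact ⟨t, ψ ≫ φ, lift_comp hψ hφ⟩

theorem Q_obj (h𝒜 : FibCat.IsFibGrpd 𝒜.p) (t : 𝒜.obj) : Q u (u.obj t) := by
  refine ⟨⊤, GrothendieckTopology.top_mem _ _, fun V f _ => ?_⟩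
  obtain ⟨t', χ, hχ⟩ := exists_lift h𝒜 (f ≫ eqToHom (u.w_obj t)) t rfl
  refine ⟨t', u.map χ, ?_⟩
  have h1 : 𝒳.p.IsHomLift (f ≫ eqToHom (u.w_obj t)) (u.map χ) := lift_map u hχ
  refine IsHomLift.of_fac' 𝒳.p f _ (obj_eq_of_lift_left h1) rfl ?_
  rw [IsHomLift.fac' 𝒳.p (f ≫ eqToHom (u.w_obj t)) (u.map χ)]
  simp

section Chart

variable {U : Over S} {x : FibCat.overCat U ⥤ᵇ 𝒳}

open K894.GoodP K894.Loc K735.Rep

/-- If `y(𝟙)` comes fppf-locally from `x`, then the base change of `x` along `y` has the fppf-local property of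
`fp x x ⟶ (Sch/U)`. -/
theorem repOver_of_mem {P : MorphismProperty (AlgSp.Sp S)} (hP : AlgSp.IsLocalOnBase AlgSp.IsFppfCover P)
    (hBC : BC P) (h𝒳 : FibCat.IsFibGrpd 𝒳.p) (hR : RepOver P (FibCat.fpFst x x)) {T : Over S}
    (y : FibCat.overCat T ⥤ᵇ 𝒳) (hyx : AlgSt.RepByAlgSp (FibCat.fp y x)) (hy : Q x (y.obj (Over.mk (𝟙 T)))) :
    RepOver P (FibCat.fpFst y x) := by
  obtain ⟨R, hR', h⟩ := hy
  have hT : T = 𝒳.p.obj (y.obj (Over.mk (𝟙 T))) := (y.w_obj (Over.mk (𝟙 T))).symm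
  refine repOver_fp_of_sieve hP hBC x y hyx
    (GrothendieckTopology.pullback_stable _ (eqToHom hT) hR') fun V s hs => ?_
  obtain ⟨t, φ, hφ⟩ := h _ hs
  have ht : t.left = V := (x.w_obj t).symm.trans (obj_eq_of_lift_left hφ)
  subst ht
  obtain ⟨j⟩ := K894.Span.iso_of_span h𝒳 y x (Over.mk (𝟙 T)) t (x.obj t) (x.w_obj t) φ (𝟙 _) s t.hom
    (by
      rw [IsHomLift.fac' 𝒳.p (s ≫ eqToHom hT) φ]
      change s = eqToHom _ ≫ (eqToHom _ ≫ (s ≫ eqToHom hT) ≫ eqToHom _) ≫ eqToHom _ ≫ 𝟙 T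
      simp)
    (by
      rw [CategoryTheory.Functor.map_id]
      change t.hom = eqToHom _ ≫ 𝟙 _ ≫ eqToHom _ ≫ t.hom
      simp)
  exact repOver_congr j x (repOver_bc hBC t.hom x x hR)

/-- A map to `h_V` with enough local sections is surjective. -/
theorem surjective_of_sections {F : AlgSp.Sp S} {V : Over S} (f : F ⟶ (AlgSp.yon S).obj V)
    (h : ∀ v : V.left, ∃ (Y : Over S) (g : Y ⟶ V) (s : F.obj.obj (op Y)),
      f.hom.app (op Y) s = ⟨g⟩ ∧ v ∈ Set.range g.left) : AlgSp.IsSurjectiveMor f := by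
  intro p
  obtain ⟨v, rfl⟩ := K609.Points.ofScheme_surjective V p
  obtain ⟨Y, g, s, hs, y, hy⟩ := h v
  refine ⟨AlgSp.Points.ofPt (K609.Points.ofSection s) y, ?_⟩
  have h1 := K893.Chart.comp_eq_yon_map (K609.Points.ofSection s) f g (by
    rw [K609.Points.ofSection_app_id, hs])
  rw [AlgSp.Points.map_ofPt, h1, K609.Points.ofPt_yon_map, hy]

/-- If `y(𝟙)` comes fppf-locally from `x`, then the base change of `x` along `y` is surjective. -/
theorem surjective_of_mem (h𝒳 : FibCat.IsFibGrpd 𝒳.p) {T : Over S}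
    (y : FibCat.overCat T ⥤ᵇ 𝒳) (hy : Q x (y.obj (Over.mk (𝟙 T)))) {F : AlgSp.Sp S}
    (e : AlgSt.ofSp F ⥤ᵇ FibCat.fp y x) (he : FibCat.IsEquivOver e) :
    AlgSp.IsSurjectiveMor (AlgSt.spMapOfOver (BasedFunctor.comp e (FibCat.fpFst y x))) := by
  obtain ⟨R, hR', h⟩ := hy
  have hT : T = 𝒳.p.obj (y.obj (Over.mk (𝟙 T))) := (y.w_obj (Over.mk (𝟙 T))).symm
  refine surjective_of_sections _ fun v => ?_
  obtain ⟨Y, g, hg, -, -, hv⟩ := K610.Site.mem_J_iff.1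
    (GrothendieckTopology.pullback_stable _ (eqToHom hT) hR' :
      R.pullback (eqToHom hT) ∈ (QuotSh.J Scheme.fppfPrecoverage S) T) v
  obtain ⟨t, φ, hφ⟩ := h _ hg
  let m : (Over.mk g : Over T) ⟶ Over.mk (𝟙 T) := Over.homMk g (by simp)
  have hm : 𝒳.p.IsHomLift (g ≫ eqToHom hT) (y.map m) := by
    refine IsHomLift.of_fac' 𝒳.p _ _ (y.w_obj _) rfl ?_
    rw [K735.Fib.map_map]
    change eqToHom _ ≫ g ≫ eqToHom _ = _
    simp
  obtain ⟨i, hi, -, -, -⟩ := exists_iso h𝒳 (g ≫ eqToHom hT) φ (y.map m) hφ hm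
  obtain ⟨s, hs⟩ := K893.Dict.exists_sec he g t i hi
  exact ⟨Y, g, s, hs.app, hv⟩

end Chart

section Loc

/-- a pullback square stays one after postcomposition with a monomorphism -/
theorem isPullback_comp_mono_iff {C : Type u₄} [Category.{v₄} C] {P X Y Z W : C} {fst : P ⟶ X} {snd : P ⟶ Y}
    {f : X ⟶ Z} {g : Y ⟶ Z} (i : Z ⟶ W) [Mono i] :
    IsPullback fst snd (f ≫ i) (g ≫ i) ↔ IsPullback fst snd f g := by
  constructor
  · intro sq
    refine ⟨⟨?_⟩, ⟨PullbackCone.IsLimit.mk _ (fun s => sq.lift s.fst s.snd ?_) (fun s => ?_) (fun s => ?_)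
      (fun s m h1 h2 => ?_)⟩⟩
    · rw [← cancel_mono i, Category.assoc, Category.assoc]
      exact sq.w
    · rw [← Category.assoc, s.condition, Category.assoc]
    · exact sq.lift_fst _ _ _
    · exact sq.lift_snd _ _ _
    · apply sq.hom_ext
      · rw [h1]; exact (sq.lift_fst _ _ _).symm
      · rw [h2]; exact (sq.lift_snd _ _ _).symm
  · intro sq
    refine ⟨⟨?_⟩, ⟨PullbackCone.IsLimit.mk _ (fun s => sq.lift s.fst s.snd ?_) (fun s => ?_) (fun s => ?_)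
      (fun s m h1 h2 => ?_)⟩⟩
    · rw [← Category.assoc, sq.w, Category.assoc]
    · rw [← cancel_mono i, Category.assoc, Category.assoc]
      exact s.condition
    · exact sq.lift_fst _ _ _
    · exact sq.lift_snd _ _ _
    · apply sq.hom_ext
      · rw [h1]; exact (sq.lift_fst _ _ _).symm
      · rw [h2]; exact (sq.lift_snd _ _ _).symm

variable {U : Over S} {x : FibCat.overCat U ⥤ᵇ 𝒳}

/-- maps into a subsheaf cut out by `Q` -/
theorem exists_lift_isLoc {P : 𝒳.obj → Prop} {T : Over S} {y : FibCat.overCat T ⥤ᵇ 𝒳} {G : AlgSp.Sp S}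
    {ι : G ⟶ (AlgSp.yon S).obj T} [Mono ι] (hι : K893.SubSp.IsLoc P y ι) {F : AlgSp.Sp S}
    (f : F ⟶ (AlgSp.yon S).obj T) (h : ∀ (V : Over S) (s : F.obj.obj (op V)),
      P (y.obj (Over.mk (f.hom.app (op V) s).down))) : ∃ f' : F ⟶ G, f' ≫ ι = f := by
  have key : ∀ (V : (Over S)ᵒᵖ) (s : F.obj.obj V), ∃ t : G.obj.obj V, ι.hom.app V t = f.hom.app V s :=
    fun V s => (hι _).1 (h V.unop s)
  choose c hc using key
  refine ⟨⟨{ app := fun V => ↾fun s => c V s, naturality := fun V V' i => ?_ }⟩, ?_⟩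
  · ext s
    apply K893.SubSp.app_injective ι V'.unop
    change ι.hom.app V' (c V' (F.obj.map i s)) = ι.hom.app V' (G.obj.map i (c V s))
    rw [hc, NatTrans.naturality_apply ι.hom i, hc]
    exact NatTrans.naturality_apply f.hom i s
  · apply ObjectProperty.hom_ext
    ext V s
    exact hc V s

open K894.GoodP K894.Loc K735.Rep

/-- The locus of `Q x` in any family is an algebraic space. -/
theorem isAlgSpace_loc (h𝒳 : FibCat.IsFibGrpd 𝒳.p) (hx : AlgSt.RepByAlgSp1 x)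
    (hf : RepOver (AlgSp.LocP @Flat) (FibCat.fpFst x x))
    (hl : RepOver (AlgSp.LocP @LocallyOfFinitePresentation) (FibCat.fpFst x x))
    {T : Over S} (y : FibCat.overCat T ⥤ᵇ 𝒳) {G : AlgSp.Sp S}
    (ι : G ⟶ (AlgSp.yon S).obj T) [Mono ι] (hι : K893.SubSp.IsLoc (Q x) y ι) : AlgSp.IsAlgSpace G := by
  obtain ⟨F, e, he⟩ := hx T y
  have hmem : ∀ (V : Over S) (s : F.obj.obj.obj (op V)), Q x (y.obj (Over.mk
      ((AlgSt.spMapOfOver (BasedFunctor.comp e (FibCat.fpFst y x))).hom.app (op V) s).down)) := by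
    intro V s
    obtain ⟨g, ζ, φ, hφ, hζ, hI⟩ := K893.Dict.exists_obj e V s
    rw [hI.app]
    exact (Q_iso h𝒳).of_iso φ.symm (Q_obj (K735.Fp.isFibGrpd_overCat _) ζ)
  obtain ⟨p, hp⟩ := exists_lift_isLoc hι _ hmem
  refine K893.RowE.isAlgSpace_of_cover G F p ((AlgSp.repBySpWith_hom_iff _ p).2 ?_)
  intro V ξ F' fst snd sq
  set t : V ⟶ T := K893.SubSp.str (ξ ≫ ι) with ht
  have sq' : IsPullback fst snd (AlgSt.spMapOfOver (BasedFunctor.comp e (FibCat.fpFst y x))) ((AlgSp.yon S).map t) := by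
    rw [ht, K893.SubSp.map_str, ← hp]
    exact (isPullback_comp_mono_iff ι).2 sq
  have hQ : Q x ((BasedFunctor.comp (AlgSt.overMap t) y).obj (Over.mk (𝟙 V))) := by
    have h1 : Q x (y.obj (Over.mk t)) := by
      refine (hι (Over.mk t)).2 ⟨ξ.hom.app (op V) ⟨𝟙 V⟩, ?_⟩
      exact ULift.ext _ _ rfl
    have h2 : (AlgSt.overMap t).obj (Over.mk (𝟙 V)) = (Over.mk t : Over T) := by
      change Over.mk (𝟙 V ≫ t) = Over.mk t
      rw [Category.id_comp]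
    change Q x (y.obj ((AlgSt.overMap t).obj (Over.mk (𝟙 V))))
    rw [h2]
    exact h1
  have hrep := hx V (BasedFunctor.comp (AlgSt.overMap t) y)
  obtain ⟨F₂, e₂, he₂⟩ := hrep
  obtain ⟨π, sq₂, -⟩ := K893.BC.exists_isPullback e he e₂ he₂
  have h1 := (of_rep (good_flat S).bc (repOver_of_mem (good_flat S).loc (good_flat S).bc h𝒳 hf
    (BasedFunctor.comp (AlgSt.overMap t) y) ⟨F₂, e₂, he₂⟩ hQ) e₂ he₂).2
  have h2 := (of_rep (good_lfp S).bc (repOver_of_mem (good_lfp S).loc (good_lfp S).bc h𝒳 hl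
    (BasedFunctor.comp (AlgSt.overMap t) y) ⟨F₂, e₂, he₂⟩ hQ) e₂ he₂).2
  have h3 := surjective_of_mem h𝒳 (BasedFunctor.comp (AlgSt.overMap t) y) hQ e₂ he₂
  let i := sq'.isoIsPullback _ _ sq₂
  have hi : i.hom ≫ AlgSt.spMapOfOver (BasedFunctor.comp e₂ (FibCat.fpFst _ x)) = snd :=
    sq'.isoIsPullback_hom_snd _ _ sq₂
  refine ⟨F₂.property.of_iso i.symm, ?_⟩
  have r1 := K893.Chart.respectsIso_locP (S := S) @Flat
  have r2 := K893.Chart.respectsIso_locP (S := S) @LocallyOfFinitePresentation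
  have r3 := K893.Chart.respectsIso_surj (S := S)
  rw [← hi]
  exact ⟨⟨(MorphismProperty.cancel_left_of_respectsIso _ _ _).2 h3,
    (MorphismProperty.cancel_left_of_respectsIso _ _ _).2 h1⟩,
    (MorphismProperty.cancel_left_of_respectsIso _ _ _).2 h2⟩

end Loc

section Ff

variable {𝒲 : BasedCategory.{v₄, u₄} (Over S)} {P : MorphismProperty (AlgSp.Sp S)} {Q' : 𝒳.obj → Prop}

open K735.Rep

/-- the representability of a functor to a full subcategory is tested in the big one -/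
theorem repOver_fullSub_iff {w : 𝒲 ⥤ᵇ AlgSt.fullSub 𝒳 Q'} {T : Over S} {y : FibCat.overCat T ⥤ᵇ AlgSt.fullSub 𝒳 Q'} :
    RepOver P (FibCat.fpFst y w) ↔
      RepOver P (FibCat.fpFst (BasedFunctor.comp y (AlgSt.subIncl 𝒳 Q')) (BasedFunctor.comp w (AlgSt.subIncl 𝒳 Q'))) :=
  RepOver.iff_of_equiv (K734.Fib.fpPost y w (AlgSt.subIncl 𝒳 Q'))
    (K734.Fib.isEquivOver_fpPost y w _ inferInstance inferInstance) (Iso.refl _)

theorem repByAlgSp_fullSub_iff {w : 𝒲 ⥤ᵇ AlgSt.fullSub 𝒳 Q'} {T : Over S}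
    {y : FibCat.overCat T ⥤ᵇ AlgSt.fullSub 𝒳 Q'} :
    AlgSt.RepByAlgSp (FibCat.fp y w) ↔
      AlgSt.RepByAlgSp (FibCat.fp (BasedFunctor.comp y (AlgSt.subIncl 𝒳 Q')) (BasedFunctor.comp w (AlgSt.subIncl 𝒳 Q'))) :=
  repByAlgSp_iff_of_equiv (K734.Fib.fpPost y w (AlgSt.subIncl 𝒳 Q'))
    (K734.Fib.isEquivOver_fpPost y w _ inferInstance inferInstance)

end Ff

section Main

variable {𝒳 : AlgSt.Cat S} {U : Over S} {x : FibCat.overCat U ⥤ᵇ 𝒳}

open K894.GoodP K894.Loc K735.Rep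

/-- the inclusion of the image substack is a monomorphism -/
theorem isMono_subIncl (h𝒳 : AlgSt.IsAlgStack Scheme.fppfPrecoverage 𝒳)
    (hf : RepOver (AlgSp.LocP @Flat) (FibCat.fpFst x x))
    (hl : RepOver (AlgSp.LocP @LocallyOfFinitePresentation) (FibCat.fpFst x x)) :
    AlgSt.IsMono (AlgSt.subIncl 𝒳 (Q x)) := by
  intro T y
  have hF := h𝒳.isStack.1
  obtain ⟨G, ι, hι, hloc, -⟩ := K893.SubSp.exists_isLoc (Q_hom hF) (Q_local (K735.Fp.isFibGrpd_overCat _)) y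
  refine ⟨⟨G, isAlgSpace_loc hF (K893.RowsA.charts_rep h𝒳 U x) hf hl y ι hloc⟩, K893.SubSp.cmp y ι hloc,
    K893.SubSp.cmp_isEquivOver (Q_iso hF) y ι hloc, ?_⟩
  rw [K893.SubSp.spMapOfOver_cmp]
  exact hι

/-- the lift of `x` to its image substack -/
noncomputable def lift (x : FibCat.overCat U ⥤ᵇ 𝒳) : FibCat.overCat U ⥤ᵇ AlgSt.fullSub 𝒳 (Q x) :=
  K901.SubStack.liftFun x (Q_obj (K735.Fp.isFibGrpd_overCat _))

theorem lift_comp_incl (x : FibCat.overCat U ⥤ᵇ 𝒳) : BasedFunctor.comp (lift x) (AlgSt.subIncl 𝒳 (Q x)) = x := rfl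

/-- The lift inherits the fppf-local properties of `fp x x ⟶ (Sch/U)`. -/
theorem repByAlgSpWith_lift {P : MorphismProperty (AlgSp.Sp S)} (hP : AlgSp.IsLocalOnBase AlgSp.IsFppfCover P)
    (hBC : BC P) (h𝒳 : AlgSt.IsAlgStack Scheme.fppfPrecoverage 𝒳) (hR : RepOver P (FibCat.fpFst x x)) :
    AlgSt.RepByAlgSpWith P (lift x) := by
  intro T y
  refine repOver_fullSub_iff.2 ?_
  exact repOver_of_mem hP hBC h𝒳.isStack.1 hR _ (K893.RowsA.charts_rep h𝒳 U x T _)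
    (y.obj (Over.mk (𝟙 T))).property

theorem surjective_lift (h𝒳 : AlgSt.IsAlgStack Scheme.fppfPrecoverage 𝒳) :
    AlgSt.RepByAlgSpWith AlgSp.IsSurjectiveMor (lift x) := by
  intro T y
  refine repOver_fullSub_iff.2 ?_
  obtain ⟨F, e, he⟩ := K893.RowsA.charts_rep h𝒳 U x T (BasedFunctor.comp y (AlgSt.subIncl 𝒳 (Q x)))
  exact ⟨F, e, he, surjective_of_mem h𝒳.isStack.1 _ (y.obj (Over.mk (𝟙 T))).property e he⟩

/-- a smooth atlas of the image substack -/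
theorem hasAtlas (h𝒳 : AlgSt.IsAlgStack Scheme.fppfPrecoverage 𝒳)
    (hf : RepOver (AlgSp.LocP @Flat) (FibCat.fpFst x x))
    (hl : RepOver (AlgSp.LocP @LocallyOfFinitePresentation) (FibCat.fpFst x x)) :
    AlgSt.HasAtlas (AlgSp.LocP @Smooth) (AlgSt.fullSub 𝒳 (Q x)) := by
  have hF := h𝒳.isStack.1
  obtain ⟨V, v, hv1, hv2⟩ := h𝒳.atlas
  obtain ⟨G, ι, hι, hloc, -⟩ := K893.SubSp.exists_isLoc (Q_hom hF) (Q_local (K735.Fp.isFibGrpd_overCat _)) v
  have hG := isAlgSpace_loc hF (K893.RowsA.charts_rep h𝒳 U x) hf hl v ι hloc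
  obtain ⟨A, p, hp, hps⟩ := hG.atlas
  obtain ⟨a, ha⟩ := (AlgSp.yon S).map_surjective (p ≫ ι)
  have hmem : ∀ g : (FibCat.overCat A).obj, Q x ((BasedFunctor.comp (AlgSt.overMap a) v).obj g) := by
    intro g
    refine (hloc ((AlgSt.overMap a).obj g)).2 ⟨p.hom.app (op g.left) ⟨g.hom⟩, ?_⟩
    have h1 := congrArg (fun m : (AlgSp.yon S).obj A ⟶ (AlgSp.yon S).obj V => m.hom.app (op g.left) ⟨g.hom⟩) ha
    exact h1.symm
  let w : FibCat.overCat A ⥤ᵇ AlgSt.fullSub 𝒳 (Q x) := K901.SubStack.liftFun (BasedFunctor.comp (AlgSt.overMap a) v) hmem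
  have key : AlgSt.RepByAlgSpWith (AlgSp.LocP @Smooth ⊓ AlgSp.IsSurjectiveMor) w := by
    intro T y
    refine repOver_fullSub_iff.2 ?_
    have := K893.Chart.respectsIso_surj (S := S)
    set y' := BasedFunctor.comp y (AlgSt.subIncl 𝒳 (Q x)) with hy'
    obtain ⟨F, e, he, hs, hsurj⟩ := K893.Chart.with_inf hv1 hv2 T y'
    obtain ⟨F', e', he'⟩ := K893.RowsA.charts_rep h𝒳 A (BasedFunctor.comp (AlgSt.overMap a) v) T y'
    obtain ⟨π, sq, hπ⟩ := K893.BC.exists_isPullback_right e he e' he'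
    obtain ⟨q, hq⟩ := exists_lift_isLoc hloc (AlgSt.spMapOfOver (BasedFunctor.comp e (FibCat.fpSnd y' v))) (by
      intro V' s
      have h1 : Q x (v.obj (e.obj ⟨V', s⟩).obj.snd) :=
        (Q_iso hF).of_iso (e.obj ⟨V', s⟩).obj.iso (y.obj (e.obj ⟨V', s⟩).obj.fst).property
      have hw : ((e.obj ⟨V', s⟩).obj.snd : Over V).left = V' :=
        (BasedFunctor.comp e (FibCat.fpSnd y' v)).w_obj ⟨V', s⟩
      let j : (e.obj ⟨V', s⟩).obj.snd ≅
          (Over.mk ((AlgSt.spMapOfOver (BasedFunctor.comp e (FibCat.fpSnd y' v))).hom.app (op V') s).down : Over V) :=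
        Over.isoMk (eqToIso hw) (by
          change eqToHom hw ≫ eqToHom hw.symm ≫ ((e.obj ⟨V', s⟩).obj.snd : Over V).hom =
            ((e.obj ⟨V', s⟩).obj.snd : Over V).hom
          rw [eqToHom_trans_assoc, eqToHom_refl, Category.id_comp])
      exact (Q_iso hF).of_iso (v.mapIso j) h1)
    rw [← hq, ha] at sq
    have sq' := (isPullback_comp_mono_iff ι).1 sq
    refine ⟨F', e', he', ?_⟩
    change (AlgSp.LocP @Smooth ⊓ AlgSp.IsSurjectiveMor) (AlgSt.spMapOfOver (BasedFunctor.comp e' (FibCat.fpFst y'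
      (BasedFunctor.comp (AlgSt.overMap a) v))))
    rw [hπ]
    refine ⟨K597.locP_precomp ?_ hs, ?_⟩
    · exact MorphismProperty.of_isPullback sq'.flip hp
    · change Function.Surjective (AlgSp.Points.map _)
      rw [K893.Chart.points_map_comp]
      exact Function.Surjective.comp hsurj (K609.Points.surjective_map_of_isPullback sq'
        (K609.Points.surjective_map_of_repWith_surjective hps))
  exact ⟨A, w, K893.Chart.with_mono inf_le_left key, K893.Chart.with_mono inf_le_right key⟩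

/-- the image substack is an algebraic stack -/
theorem isAlgStack (h𝒳 : AlgSt.IsAlgStack Scheme.fppfPrecoverage 𝒳)
    (hf : RepOver (AlgSp.LocP @Flat) (FibCat.fpFst x x))
    (hl : RepOver (AlgSp.LocP @LocallyOfFinitePresentation) (FibCat.fpFst x x)) :
    AlgSt.IsAlgStack Scheme.fppfPrecoverage (AlgSt.fullSub 𝒳 (Q x)) := by
  have hF := h𝒳.isStack.1
  have hst := K893.SubSp.isStack_fullSub h𝒳.isStack (Q_hom hF (u := x)) (Q_local (K735.Fp.isFibGrpd_overCat _))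
  refine ⟨hst, K893.RowsA.diag_of_charts hst.1 fun W w T y => ?_, hasAtlas h𝒳 hf hl⟩
  exact repByAlgSp_fullSub_iff.2 (K893.RowsA.charts_rep h𝒳 W _ T _)

end Main

end K893.ImSub
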