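import Groth.Agent.AlgSt.K736.Mono

/-!
# Fully faithful morphisms of algebraic stacks are monomorphisms, with explicit hypotheses
-/

set_option autoImplicit false
universe w v u
open CategoryTheory AlgebraicGeometry

namespace K893.MonoFF

theorem isMono_of_ff {S : Scheme.{u}} {𝒳 𝒴 : AlgSt.Cat S}
    (h𝒳 : AlgSt.IsAlgStack Scheme.fppfPrecoverage 𝒳) (h𝒴 : AlgSt.IsAlgStack Scheme.fppfPrecoverage 𝒴)
    (f : 𝒳 ⥤ᵇ 𝒴) (h1 : f.toFunctor.Full) (h2 : f.toFunctor.Faithful) : AlgSt.IsMono f :=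
  K736.Mono.s12840 h𝒳 h𝒴 f

end K893.MonoFF
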