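import Groth.Agent.Gerb.K893.PtBase
import Groth.Agent.S9929

/-!
# Field-valued points and monomorphisms (helper893)
-/

set_option autoImplicit false
set_option backward.isDefEq.respectTransparency false
set_option backward.isDefEq.respectTransparency.types false

universe v₄ u₄ v₃ u₃ v₂ u₂ v u

open CategoryTheory AlgebraicGeometry Opposite K895.Fib

namespace K893.Pt

section

variable {S : Scheme.{u}} {𝒳 : BasedCategory.{v₂, u₂} (Over S)} {𝒴 : BasedCategory.{v₃, u₃} (Over S)}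

/-- A point of the base change of a monomorphism to `Spec K` gives a section over `Spec K`. -/
theorem exists_of_mono {f : 𝒳 ⥤ᵇ 𝒴} (hf : AlgSt.IsMono f) {K : Type u} [Field K]
    (a : Spec (CommRingCat.of K) ⟶ S) (y : FibCat.overCat (Over.mk a) ⥤ᵇ 𝒴)
    {M : Type u} [Field M] (m : Spec (CommRingCat.of M) ⟶ S) (g : Over.mk m ⟶ Over.mk a) (ζ : 𝒳.obj)
    (φ : y.obj (Over.mk g) ≅ f.obj ζ) (hφ : 𝒴.p.IsHomLift (𝟙 (Over.mk m)) φ.hom) :
    ∃ (ζ : 𝒳.obj) (φ : y.obj (Over.mk (𝟙 (Over.mk a))) ≅ f.obj ζ), 𝒴.p.IsHomLift (𝟙 (Over.mk a)) φ.hom := by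
  obtain ⟨F, e, he, hm⟩ := hf (Over.mk a) y
  let p : F ⟶ (AlgSp.ofScheme S).obj (Over.mk a) :=
    ObjectProperty.homMk (AlgSt.spMapOfOver (BasedFunctor.comp e (FibCat.fpFst y f)))
  have : Mono p.hom := hm
  rcases Groth.Agent.S9929.result a F p with h | h
  · obtain ⟨s, -⟩ := K893.Dict.exists_sec he g ζ φ hφ
    exact (h.false (AlgSp.Points.mk ⟨M, m, s⟩)).elim
  · have hp : IsIso p.hom := inferInstanceAs (IsIso ((ObjectProperty.ι (AlgSp.IsAlgSpace (S := S))).map p))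
    let s : F.obj.obj.obj (op (Over.mk a)) := (inv p.hom).hom.app (op (Over.mk a)) ⟨𝟙 (Over.mk a)⟩
    have hs : p.hom.hom.app (op (Over.mk a)) s = ⟨𝟙 (Over.mk a)⟩ := by
      have := IsIso.inv_hom_id p.hom
      have h2 := congrArg (fun t => t.hom.app (op (Over.mk a)) ⟨𝟙 (Over.mk a)⟩) this
      exact h2
    obtain ⟨g', ζ', φ', hφ', -, hI⟩ := K893.Dict.exists_obj e (Over.mk a) s
    have h3 := hI.app
    have h4 : g' = 𝟙 (Over.mk a) := by
      have := h3.symm.trans hs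
      exact congrArg ULift.down this
    subst h4
    exact ⟨ζ', φ', hφ'⟩

/-- same with a field-valued point of the 2-fibre product -/
theorem exists_of_mono' {f : 𝒳 ⥤ᵇ 𝒴} (hf : AlgSt.IsMono f) {K : Type u} [Field K]
    (a : Spec (CommRingCat.of K) ⟶ S) (y : FibCat.overCat (Over.mk a) ⥤ᵇ 𝒴) (w : AlgSt.FPt (FibCat.fp y f)) :
    ∃ (ζ : 𝒳.obj) (φ : y.obj (Over.mk (𝟙 (Over.mk a))) ≅ f.obj ζ), 𝒴.p.IsHomLift (𝟙 (Over.mk a)) φ.hom := by
  obtain ⟨M, m, ⟨⟨T, ζ, φ⟩, hw⟩, hl⟩ := w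
  have h1 : T.left = Over.mk m := hl
  obtain ⟨g, hg⟩ : ∃ g : Over.mk m ⟶ Over.mk a, g = eqToHom h1.symm ≫ T.hom := ⟨_, rfl⟩
  let i : Over.mk g ≅ T := Over.isoMk (eqToIso h1.symm) (by rw [hg]; simp)
  refine exists_of_mono hf a y m g ζ (y.mapIso i ≪≫ φ) ?_
  have h2 : (FibCat.overCat (Over.mk a)).p.IsHomLift (𝟙 (Over.mk m)) i.hom :=
    IsHomLift.of_fac' _ _ _ rfl h1 (by
      have : (FibCat.overCat (Over.mk a)).p.map i.hom = eqToHom h1.symm := rfl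
      rw [this]
      simp)
  have h3 : 𝒴.p.IsHomLift (𝟙 (Over.mk m)) φ.hom := by
    have h4 : 𝒴.p.IsHomLift (𝟙 T.left) φ.hom := hw
    rwa [h1] at h4
  exact lift_id_comp (lift_map y h2) h3

end

end K893.Pt
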