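import Groth.Agent.Gerb.K893.MonoPt
import Groth.Agent.Gerb.K893.MonoFF

/-!
# Field-valued points of full substacks (helper893)
-/

set_option autoImplicit false
set_option backward.isDefEq.respectTransparency false
set_option backward.isDefEq.respectTransparency.types false

universe v₄ u₄ v₃ u₃ v₂ u₂ v u

open CategoryTheory AlgebraicGeometry Opposite K895.Fib

namespace K893.Pt

section

variable {S : Scheme.{u}} {𝒳 : AlgSt.Cat S} {Q : 𝒳.obj → Prop}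

/-- Field-valued points in the image of `|fullSub 𝒳 Q|` are in `Q`. -/
theorem mem_of_point (h𝒳 : AlgSt.IsAlgStack Scheme.fppfPrecoverage 𝒳)
    (hiso : ObjectProperty.IsClosedUnderIsomorphisms Q)
    (hA : AlgSt.IsAlgStack Scheme.fppfPrecoverage (AlgSt.fullSub 𝒳 Q)) (q : AlgSt.FPt 𝒳)
    (h : AlgSt.Points.mk q ∈ Set.range (AlgSt.Points.map (AlgSt.subIncl 𝒳 Q))) : Q q.obj := by
  have hf := h𝒳.isStack.1
  obtain ⟨r, hr⟩ := h
  obtain ⟨r, rfl⟩ := AlgSt.Points.mk_surjective r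
  obtain ⟨t, α, β, -⟩ := (K735.Pts.mk_eq_mk_iff hf).1 hr
  have ht : Q t.obj := K893.Sub.of_hom hf hiso hA.isStack.1 α r.obj.property
  obtain ⟨χ, hχ, -, -, -⟩ := exists_iso hf (K735.Pts.baseHom β) β
    (K895.Glue.yoHom hf q.obj q.lies (Over.mk (K735.Pts.baseHom β))) (baseHom_lift β)
    (K895.Glue.yoHom_lift hf q.obj q.lies (Over.mk (K735.Pts.baseHom β)))
  have hm : AlgSt.IsMono (AlgSt.subIncl 𝒳 Q) :=
    K893.MonoFF.isMono_of_ff hA h𝒳 _ inferInstance inferInstance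
  obtain ⟨ζ, φ, hφ⟩ := exists_of_mono hm q.str (yoPt hf q) t.str (K735.Pts.baseHom β)
    (⟨t.obj, ht⟩ : (AlgSt.fullSub 𝒳 Q).obj) χ hχ
  have h1 : Q (K895.Glue.yoObj hf q.obj q.lies (Over.mk (𝟙 _))) := hiso.of_iso φ.symm ζ.property
  have hi : IsIso (K895.Glue.yoHom hf q.obj q.lies (Over.mk (𝟙 _))) :=
    isIso hf (𝟙 _) _ (K895.Glue.yoHom_lift hf q.obj q.lies (Over.mk (𝟙 _)))
  exact hiso.of_iso (asIso (K895.Glue.yoHom hf q.obj q.lies (Over.mk (𝟙 _)))) h1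

/-- all values of a chart from a field are in `Q` if its class is -/
theorem chart_mem (h𝒳 : AlgSt.IsAlgStack Scheme.fppfPrecoverage 𝒳)
    (hiso : ObjectProperty.IsClosedUnderIsomorphisms Q)
    (hA : AlgSt.IsAlgStack Scheme.fppfPrecoverage (AlgSt.fullSub 𝒳 Q))
    {K : Type u} [Field K] {a : Spec (CommRingCat.of K) ⟶ S}
    (p : FibCat.overCat (Over.mk a) ⥤ᵇ 𝒳)
    (h : AlgSt.Points.mk (topPt p) ∈ Set.range (AlgSt.Points.map (AlgSt.subIncl 𝒳 Q)))
    (T : (FibCat.overCat (Over.mk a)).obj) : Q (p.obj T) :=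
  K893.Sub.of_hom h𝒳.isStack.1 hiso hA.isStack.1
    (p.map (Over.homMk T.hom : T ⟶ Over.mk (𝟙 (Over.mk a)))) (mem_of_point h𝒳 hiso hA (topPt p) h)

end

end K893.Pt
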