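import Groth.Agent.Gerb.K893.PtBase

/-!
# Full substacks are injective on points (helper893)
-/

set_option autoImplicit false
set_option backward.isDefEq.respectTransparency false
set_option backward.isDefEq.respectTransparency.types false

universe v₄ u₄ v₃ u₃ v₂ u₂ v u

open CategoryTheory AlgebraicGeometry Opposite K895.Fib

namespace K893.Pt

variable {S : Scheme.{u}} {𝒳 : BasedCategory.{v₂, u₂} (Over S)} {Q : 𝒳.obj → Prop}

theorem points_map_injective (h𝒳 : FibCat.IsFibGrpd 𝒳.p) (hiso : ObjectProperty.IsClosedUnderIsomorphisms Q)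
    (hA : FibCat.IsFibGrpd (AlgSt.fullSub 𝒳 Q).p) :
    Function.Injective (AlgSt.Points.map (AlgSt.subIncl 𝒳 Q)) := by
  intro p q h
  obtain ⟨p, rfl⟩ := AlgSt.Points.mk_surjective p
  obtain ⟨q, rfl⟩ := AlgSt.Points.mk_surjective q
  obtain ⟨t, α, β, -⟩ := (K735.Pts.mk_eq_mk_iff h𝒳).1 h
  have ht : Q t.obj := K893.Sub.of_hom h𝒳 hiso hA α p.obj.property
  let t' : AlgSt.FPt (AlgSt.fullSub 𝒳 Q) := { K := t.K, str := t.str, obj := ⟨t.obj, ht⟩, lies := t.lies }
  have h1 : AlgSt.Points.mk t' = AlgSt.Points.mk p := K735.Pts.mk_eq_of_hom (p := t') (q := p) (ObjectProperty.homMk α)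
  have h2 : AlgSt.Points.mk t' = AlgSt.Points.mk q := K735.Pts.mk_eq_of_hom (p := t') (q := q) (ObjectProperty.homMk β)
  exact h1.symm.trans h2

end K893.Pt
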