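import Mathlib.AlgebraicGeometry.Morphisms.Flat
import Mathlib.AlgebraicGeometry.Morphisms.FiniteType
import Mathlib.AlgebraicGeometry.Morphisms.FinitePresentation
import Mathlib.AlgebraicGeometry.Morphisms.ClosedImmersion

/-!
# Flat and finite type field-valued points of a scheme (helper893)
-/

set_option autoImplicit false

universe u

open CategoryTheory AlgebraicGeometry

namespace K893.SchPt

theorem isField_of_minimal {A : Type u} [CommRing A] [IsReduced A] (p : Ideal A) (hp : p ∈ minimalPrimes A)
    [p.IsPrime] : IsField (Localization.AtPrime p) := by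
  have h1 : Subsingleton (PrimeSpectrum (Localization.AtPrime p)) :=
    IsLocalization.subsingleton_primeSpectrum_of_mem_minimalPrimes p hp (Localization.AtPrime p)
  have h2 : IsReduced (Localization.AtPrime p) := inferInstance
  rw [IsLocalRing.isField_iff_maximalIdeal_eq, eq_bot_iff]
  intro x hx
  have h3 : x ∈ nilradical (Localization.AtPrime p) := by
    rw [nilradical_eq_sInf, Ideal.mem_sInf]
    intro J hJ
    have : (⟨J, hJ⟩ : PrimeSpectrum (Localization.AtPrime p)) = IsLocalRing.closedPoint _ := Subsingleton.elim _ _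
    have h4 : J = IsLocalRing.maximalIdeal (Localization.AtPrime p) := congrArg PrimeSpectrum.asIdeal this
    rw [h4]; exact hx
  rw [nilradical_eq_zero] at h3
  exact h3

/-- a nonempty reduced scheme has a flat field-valued point -/
theorem exists_flat (X : Scheme.{u}) [IsReduced X] (x : X) :
    ∃ (k : Type u) (_ : Field k) (p : Spec (CommRingCat.of k) ⟶ X), Flat p := by
  obtain ⟨U, hU, hx, -⟩ := exists_isAffineOpen_mem_and_subset (x := x) (U := ⊤) trivial
  have hne : Nontrivial Γ(X, U) := by
    by_contra h
    rw [not_nontrivial_iff_subsingleton] at h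
    have := hU.isoSpec.hom ⟨x, hx⟩
    have h2 : IsEmpty (PrimeSpectrum Γ(X, U)) := inferInstance
    exact h2.false this
  obtain ⟨p, hp⟩ := Ideal.nonempty_minimalPrimes (I := (⊥ : Ideal Γ(X, U))) (by simp)
  have hp' : p ∈ minimalPrimes Γ(X, U) := hp
  have := hp'.1.1
  have hf := isField_of_minimal p hp'
  refine ⟨Localization.AtPrime p, hf.toField, ?_, ?_⟩
  · exact Spec.map (CommRingCat.ofHom (algebraMap Γ(X, U) (Localization.AtPrime p))) ≫ hU.fromSpec
  · have h1 : Flat (Spec.map (CommRingCat.ofHom (algebraMap Γ(X, U) (Localization.AtPrime p)))) := by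
      rw [Flat.SpecMap_iff]
      exact (RingHom.flat_algebraMap_iff).2 (IsLocalization.flat _ p.primeCompl)
    infer_instance

/-- a nonempty scheme has a field-valued point which is locally of finite type -/
theorem exists_lft (X : Scheme.{u}) (x : X) :
    ∃ (k : Type u) (_ : Field k) (p : Spec (CommRingCat.of k) ⟶ X), LocallyOfFiniteType p := by
  obtain ⟨U, hU, hx, -⟩ := exists_isAffineOpen_mem_and_subset (x := x) (U := ⊤) trivial
  have hne : Nontrivial Γ(X, U) := by
    by_contra h
    rw [not_nontrivial_iff_subsingleton] at h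
    have := hU.isoSpec.hom ⟨x, hx⟩
    have h2 : IsEmpty (PrimeSpectrum Γ(X, U)) := inferInstance
    exact h2.false this
  obtain ⟨m, hm⟩ := Ideal.exists_maximal Γ(X, U)
  refine ⟨Γ(X, U) ⧸ m, Ideal.Quotient.field m, Spec.map (CommRingCat.ofHom (Ideal.Quotient.mk m)) ≫ hU.fromSpec, ?_⟩
  have h1 : IsClosedImmersion (Spec.map (CommRingCat.ofHom (Ideal.Quotient.mk m))) :=
    IsClosedImmersion.spec_of_surjective _ Ideal.Quotient.mk_surjective
  infer_instance

end K893.SchPt
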