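import Groth.Agent.Gerb.K893.FieldPt
import Groth.Agent.Gerb.K893.SchPt
import Groth.Agent.Flat2B.SmoothGeom
import Groth.Agent.FlatB.GeomRed
import Mathlib.AlgebraicGeometry.Noetherian
import Mathlib.AlgebraicGeometry.Morphisms.LocalFlatDescent
import Groth.Agent.S0116
import Groth.Agent.S0565
import Groth.Agent.S1535

/-!
# Reduced stacks with one point (helper893)
-/

set_option autoImplicit false
set_option backward.isDefEq.respectTransparency false
set_option backward.isDefEq.respectTransparency.types false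

universe v₄ u₄ v₃ u₃ v₂ u₂ v u

open CategoryTheory CategoryTheory.Limits AlgebraicGeometry Opposite K895.Fib

namespace K893.Singleton

variable {S : Scheme.{u}} {𝒵 : BasedCategory.{v₂, u₂} (Over S)}

theorem locP_mono' {P Q : MorphismProperty Scheme.{u}} (h : P ≤ Q) {V : Over S} {v : FibCat.overCat V ⥤ᵇ 𝒵}
    (hv : AlgSt.RepByAlgSpWith (AlgSp.LocP P) v) : AlgSt.RepByAlgSpWith (AlgSp.LocP Q) v :=
  K893.Chart.with_mono (fun _ _ _ h' => K597.locP_mono h h') hv

theorem smooth_le_flat : (@Smooth : MorphismProperty Scheme.{u}) ≤ @Flat := fun _ _ f hf => by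
  have : Smooth f := hf
  infer_instance

theorem smooth_le_lft : (@Smooth : MorphismProperty Scheme.{u}) ≤ @LocallyOfFiniteType := fun _ _ f hf => by
  have : Smooth f := hf
  infer_instance

theorem smooth_le_lfp : (@Smooth : MorphismProperty Scheme.{u}) ≤ @LocallyOfFinitePresentation := fun _ _ f hf => by
  have : Smooth f := hf
  infer_instance

/-- charts of a stack with a point are nonempty -/
theorem exists_pt_chart (h𝒵 : FibCat.IsFibGrpd 𝒵.p) {V : Over S} {v : FibCat.overCat V ⥤ᵇ 𝒵}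
    (hv : AlgSt.RepByAlgSpWith AlgSp.IsSurjectiveMor v) (hne : Nonempty (AlgSt.Points 𝒵)) : Nonempty V.left := by
  obtain ⟨p⟩ := hne
  obtain ⟨q, -⟩ := K893.Pt.surjective_of_rep h𝒵 hv p
  obtain ⟨q, rfl⟩ := AlgSt.Points.mk_surjective q
  obtain ⟨K, str, T, hT⟩ := q
  have h1 : T.left = Over.mk str := hT
  exact ⟨((eqToHom h1.symm ≫ T.hom).left : Spec (CommRingCat.of K) ⟶ V.left) (IsLocalRing.closedPoint K)⟩

/-- restriction of a chart to a field-valued point of the chart -/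
theorem one_imp_three (h𝒵 : FibCat.IsFibGrpd 𝒵.p)
    (hd : ∀ (U : Over S) (y : FibCat.overCat U ⥤ᵇ 𝒵), AlgSt.RepByAlgSp1 y)
    (hat : AlgSt.HasAtlas (AlgSp.LocP @Smooth) 𝒵)
    (hred : AlgSt.SmoothLocally (fun T => IsReduced T) 𝒵) (hne : Nonempty (AlgSt.Points 𝒵))
    (hsub : Subsingleton (AlgSt.Points 𝒵)) :
    ∃ (k : Type u) (_ : Field k) (a : Spec (CommRingCat.of k) ⟶ S)
      (z : FibCat.overCat (Over.mk a) ⥤ᵇ 𝒵), AlgSt.RepByAlgSpWith (AlgSp.LocP @LocallyOfFiniteType) z ∧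
        AlgSt.RepByAlgSpWith AlgSp.IsSurjectiveMor z ∧ AlgSt.RepByAlgSpWith (AlgSp.LocP @Flat) z := by
  obtain ⟨V, v, hv, hvs⟩ := hat
  have h1 : IsReduced V.left := hred V v hv
  obtain ⟨x⟩ := exists_pt_chart h𝒵 hvs hne
  obtain ⟨k₁, _, p₁, hp₁⟩ := K893.SchPt.exists_flat V.left x
  obtain ⟨k₂, _, p₂, hp₂⟩ := K893.SchPt.exists_lft V.left x
  let g₁ : Over.mk (p₁ ≫ V.hom) ⟶ V := Over.homMk p₁ rfl
  let g₂ : Over.mk (p₂ ≫ V.hom) ⟶ V := Over.homMk p₂ rfl
  have hf₁ := K893.Desc.rep_overMap_comp K597.etLoc_flat hd v (locP_mono' smooth_le_flat hv) g₁ hp₁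
  have hf₂ := K893.Desc.rep_overMap_comp K597.etLoc_lft hd v (locP_mono' smooth_le_lft hv) g₂ hp₂
  have hs₁ : AlgSt.RepByAlgSpWith AlgSp.IsSurjectiveMor (BasedFunctor.comp (AlgSt.overMap g₁) v) := by
    refine K893.FieldPt.rep_surj (K735.Fp.isFibGrpd_overCat _) h𝒵 (hd _ _) fun p => ?_
    obtain ⟨q⟩ := K893.FieldPt.nonempty_points_spec (p₁ ≫ V.hom)
    exact ⟨q, Subsingleton.elim _ _⟩
  obtain ⟨h2, h3⟩ := K893.FieldPt.flat_surj h𝒵 hd _ hs₁ hf₁ (BasedFunctor.comp (AlgSt.overMap g₂) v)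
  exact ⟨k₂, inferInstance, _, _, hf₂, h2, h3⟩

theorem two_imp_one (h𝒵 : FibCat.IsFibGrpd 𝒵.p) {k : Type u} [Field k] {a : Spec (CommRingCat.of k) ⟶ S}
    (z : FibCat.overCat (Over.mk a) ⥤ᵇ 𝒵) (hzs : AlgSt.RepByAlgSpWith AlgSp.IsSurjectiveMor z)
    (hzf : AlgSt.RepByAlgSpWith (AlgSp.LocP @Flat) z) :
    AlgSt.SmoothLocally (fun T => IsReduced T) 𝒵 ∧ Nonempty (AlgSt.Points 𝒵) ∧ Subsingleton (AlgSt.Points 𝒵) := by
  refine ⟨fun U x hx => ?_, (K893.FieldPt.nonempty_points_spec a).map (AlgSt.Points.map z),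
    ⟨fun p q => (K893.FieldPt.subsingleton_points h𝒵 z hzs p).trans
      (K893.FieldPt.subsingleton_points h𝒵 z hzs q).symm⟩⟩
  obtain ⟨W, c, b, φ, hφ, h1, h2, h3, -⟩ := K893.Desc.chart2 x z hx hzf
  have h3 := h3 hzs
  have h4 : Smooth b.left := h2
  have h5 : Flat c.left := h1
  have h6 : IsReduced W.left := Groth.Agent.Flat2B.SmoothGeom.isReduced_of_smooth b.left
  exact Groth.Agent.FlatB.GeomRed.isReduced_of_flat_of_surjective c.left

theorem descends_fppf (P : MorphismProperty Scheme.{u})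
    [P.DescendsAlong (@Surjective ⊓ @Flat ⊓ @LocallyOfFinitePresentation)] :
    P.DescendsAlong ((@Flat ⊓ @LocallyOfFinitePresentation) ⊓ @Surjective) where
  of_isPullback sq hf h := MorphismProperty.of_isPullback_of_descendsAlong
    (Q := @Surjective ⊓ @Flat ⊓ @LocallyOfFinitePresentation) sq ⟨⟨hf.2, hf.1.1⟩, hf.1.2⟩ h

theorem descends_smooth (P : MorphismProperty Scheme.{u})
    [P.DescendsAlong (@Surjective ⊓ @Flat ⊓ @LocallyOfFinitePresentation)] :
    P.DescendsAlong (@Smooth ⊓ @Surjective) where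
  of_isPullback sq hf h := MorphismProperty.of_isPullback_of_descendsAlong
    (Q := @Surjective ⊓ @Flat ⊓ @LocallyOfFinitePresentation) sq
    ⟨⟨hf.2, smooth_le_flat _ _ _ hf.1⟩, smooth_le_lfp _ _ _ hf.1⟩ h

theorem locP_lfp_of_lft {F : AlgSp.Sp S} {V : Over S} [IsLocallyNoetherian V.left] (m : F ⟶ (AlgSp.yon S).obj V)
    (hm : AlgSp.LocP @LocallyOfFiniteType m) : AlgSp.LocP @LocallyOfFinitePresentation m := by
  intro A B a b h ha hb w
  obtain ⟨b', rfl⟩ := (AlgSp.yon S).map_surjective b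
  have h1 : Etale b'.left := hb.2 (𝟙 _) (𝟙 _) b' (IsPullback.of_horiz_isIso ⟨by simp⟩)
  have h2 : IsLocallyNoetherian B.left := LocallyOfFiniteType.isLocallyNoetherian b'.left
  have h3 : LocallyOfFiniteType h.left := hm a _ h ha hb w
  exact (LocallyOfFinitePresentation.iff_locallyOfFiniteType).2 h3

variable {𝒳 : BasedCategory.{v₃, u₃} (Over S)}

/-- locally of finite type over a locally Noetherian stack is locally of finite presentation -/
theorem rep_lfp_of_lft (h𝒵 : FibCat.IsFibGrpd 𝒵.p)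
    (hd : ∀ (U : Over S) (y : FibCat.overCat U ⥤ᵇ 𝒵), AlgSt.RepByAlgSp1 y)
    (hat : AlgSt.HasAtlas (AlgSp.LocP @Smooth) 𝒵)
    (hn : AlgSt.SmoothLocally (fun T => IsLocallyNoetherian T) 𝒵) {f : 𝒳 ⥤ᵇ 𝒵}
    (hf : AlgSt.RepByAlgSpWith (AlgSp.LocP @LocallyOfFiniteType) f) :
    AlgSt.RepByAlgSpWith (AlgSp.LocP @LocallyOfFinitePresentation) f := by
  obtain ⟨V, v, hv, hvs⟩ := hat
  have := descends_smooth.{u} @LocallyOfFinitePresentation
  have h1 : IsLocallyNoetherian V.left := hn V v hv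
  refine K893.Desc.rep_descend (D := @Smooth) K597.etLoc_lfp h𝒵 (K735.Rep.repByAlgSp1_of_with hf) hd v hv hvs ?_
  obtain ⟨F, e, he, hF⟩ := hf V v
  exact ⟨F, e, he, locP_lfp_of_lft _ hF⟩

/-- a stack with an lfp flat surjective field-valued point is locally Noetherian -/
theorem noeth_of_field {k : Type u} [Field k] {a : Spec (CommRingCat.of k) ⟶ S}
    (z : FibCat.overCat (Over.mk a) ⥤ᵇ 𝒵)
    (hzp : AlgSt.RepByAlgSpWith (AlgSp.LocP @LocallyOfFinitePresentation) z)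
    (hzs : AlgSt.RepByAlgSpWith AlgSp.IsSurjectiveMor z)
    (hzf : AlgSt.RepByAlgSpWith (AlgSp.LocP @Flat) z) : AlgSt.SmoothLocally (fun T => IsLocallyNoetherian T) 𝒵 := by
  intro U x hx
  obtain ⟨W, c, b, φ, hφ, h1, h2, h3, -⟩ := K893.Desc.chart2 x z hx (K893.Chart.locP_inf hzf hzp)
  have h3 := h3 hzs
  have h4 : Smooth b.left := h2
  have h5 : Flat c.left := h1.1
  have h6 : LocallyOfFinitePresentation c.left := h1.2
  have h7 : IsLocallyNoetherian (Over.mk a).left := inferInstanceAs (IsLocallyNoetherian (Spec (CommRingCat.of k)))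
  have h8 : IsLocallyNoetherian W.left := LocallyOfFiniteType.isLocallyNoetherian b.left
  exact Groth.Agent.S0116.result c.left

/-- a stack with an lfp flat surjective field-valued point is regular -/
theorem regular_of_field {k : Type u} [Field k] {a : Spec (CommRingCat.of k) ⟶ S}
    (z : FibCat.overCat (Over.mk a) ⥤ᵇ 𝒵)
    (hzp : AlgSt.RepByAlgSpWith (AlgSp.LocP @LocallyOfFinitePresentation) z)
    (hzs : AlgSt.RepByAlgSpWith AlgSp.IsSurjectiveMor z)
    (hzf : AlgSt.RepByAlgSpWith (AlgSp.LocP @Flat) z) :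
    AlgSt.SmoothLocally (fun T => ∀ t : T, IsRegularLocalRing (T.presheaf.stalk t)) 𝒵 := by
  intro U x hx
  have h9 : IsLocallyNoetherian U.left := noeth_of_field z hzp hzs hzf U x hx
  obtain ⟨W, c, b, φ, hφ, h1, h2, h3, -⟩ := K893.Desc.chart2 x z hx (K893.Chart.locP_inf hzf hzp)
  have h3 := h3 hzs
  have h4 : Smooth b.left := h2
  have h5 : Flat c.left := h1.1
  intro t
  obtain ⟨w, rfl⟩ := c.left.surjective t
  let _ : W.left.Over (Spec (CommRingCat.of k)) := ⟨b.left⟩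
  have h10 : Smooth (W.left ↘ (Spec (CommRingCat.of k))) := h4
  have h11 : IsRegularLocalRing (W.left.presheaf.stalk w) := Groth.Agent.S1535.result k W.left w
  have h12 : (c.left.stalkMap w).hom.Flat := Flat.stalkMap c.left w
  algebraize [(c.left.stalkMap w).hom]
  have h13 : IsLocalHom (algebraMap (U.left.presheaf.stalk (c.left w)) (W.left.presheaf.stalk w)) :=
    inferInstanceAs (IsLocalHom (c.left.stalkMap w).hom)
  exact Groth.Agent.S0565.result _ (W.left.presheaf.stalk w)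

end K893.Singleton
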