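import Groth.Agent.Gerb.K893.ImSub
import Groth.Agent.Gerb.K893.Singleton

/-!
# The image substack of a field-valued point (helper893)

`p : (Sch/Spec k) ⟶ 𝒳` with `Spec k ×_𝒳 Spec k ⟶ Spec k` locally of finite type: the full substack of the objects
which come fppf-locally from `p` is an algebraic stack, a monomorphism into `𝒳`, and the lift of `p` is flat, locally
of finite presentation and surjective.
-/

set_option autoImplicit false
set_option backward.isDefEq.respectTransparency false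
set_option backward.isDefEq.respectTransparency.types false

universe v₄ u₄ v₃ u₃ v₂ u₂ v u

open CategoryTheory CategoryTheory.Limits AlgebraicGeometry Opposite K895.Fib

namespace K893.ResField

open K893.ImSub K894.GoodP K735.Rep

variable {S : Scheme.{u}} {𝒳 : AlgSt.Cat S} {k : Type u} [Field k] {a : Spec (CommRingCat.of k) ⟶ S}
  {x : FibCat.overCat (Over.mk a) ⥤ᵇ 𝒳}

theorem flat_fpFst (h𝒳 : AlgSt.IsAlgStack Scheme.fppfPrecoverage 𝒳) :
    RepOver (AlgSp.LocP @Flat) (FibCat.fpFst x x) := by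
  obtain ⟨F, e, he⟩ := K893.RowsA.charts_rep h𝒳 _ x _ x
  exact ⟨F, e, he, K893.FieldPt.locP_flat_to_field _⟩

theorem lfp_fpFst (hx : RepOver (AlgSp.LocP @LocallyOfFiniteType) (FibCat.fpFst x x)) :
    RepOver (AlgSp.LocP @LocallyOfFinitePresentation) (FibCat.fpFst x x) := by
  obtain ⟨F, e, he, h⟩ := hx
  have : IsLocallyNoetherian (Over.mk a : Over S).left :=
    inferInstanceAs (IsLocallyNoetherian (Spec (CommRingCat.of k)))
  exact ⟨F, e, he, K893.Singleton.locP_lfp_of_lft _ h⟩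

theorem isAlgStack (h𝒳 : AlgSt.IsAlgStack Scheme.fppfPrecoverage 𝒳)
    (hx : RepOver (AlgSp.LocP @LocallyOfFiniteType) (FibCat.fpFst x x)) :
    AlgSt.IsAlgStack Scheme.fppfPrecoverage (AlgSt.fullSub 𝒳 (Q x)) :=
  K893.ImSub.isAlgStack h𝒳 (flat_fpFst h𝒳) (lfp_fpFst hx)

theorem isMono (h𝒳 : AlgSt.IsAlgStack Scheme.fppfPrecoverage 𝒳)
    (hx : RepOver (AlgSp.LocP @LocallyOfFiniteType) (FibCat.fpFst x x)) :
    AlgSt.IsMono (AlgSt.subIncl 𝒳 (Q x)) :=
  K893.ImSub.isMono_subIncl h𝒳 (flat_fpFst h𝒳) (lfp_fpFst hx)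

theorem flat_lift (h𝒳 : AlgSt.IsAlgStack Scheme.fppfPrecoverage 𝒳) :
    AlgSt.RepByAlgSpWith (AlgSp.LocP @Flat) (lift x) :=
  repByAlgSpWith_lift (good_flat S).loc (good_flat S).bc h𝒳 (flat_fpFst h𝒳)

theorem lfp_lift (h𝒳 : AlgSt.IsAlgStack Scheme.fppfPrecoverage 𝒳)
    (hx : RepOver (AlgSp.LocP @LocallyOfFiniteType) (FibCat.fpFst x x)) :
    AlgSt.RepByAlgSpWith (AlgSp.LocP @LocallyOfFinitePresentation) (lift x) :=
  repByAlgSpWith_lift (good_lfp S).loc (good_lfp S).bc h𝒳 (lfp_fpFst hx)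

/-- The residual gerbe at the class of `x` exists. -/
theorem resGerbeExists (h𝒳 : AlgSt.IsAlgStack Scheme.fppfPrecoverage 𝒳)
    (hx : RepOver (AlgSp.LocP @LocallyOfFiniteType) (FibCat.fpFst x x)) (q : AlgSt.Points 𝒳)
    (hq : ∀ t : ↥(Over.mk a).left, AlgSt.Points.ofChart x t = q) :
    Gerb.ResGerbeExists Scheme.fppfPrecoverage 𝒳 q := by
  have hA := isAlgStack h𝒳 hx
  obtain ⟨-, h1, h2⟩ := K893.Singleton.two_imp_one hA.isStack.1 (lift x) (surjective_lift h𝒳) (flat_lift h𝒳)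
  refine ⟨_, AlgSt.subIncl 𝒳 (Q x), hA, isMono h𝒳 hx, h1, h2, fun z => ?_⟩
  have t : ↥(Over.mk a).left := IsLocalRing.closedPoint k
  have h3 : z = AlgSt.Points.mk (K893.Pt.topPt (lift x)) := Subsingleton.elim _ _
  rw [h3, ← hq t, K893.Pt.ofChart_eq_topPt]
  rfl

end K893.ResField
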