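import Groth.Prelude.Def_AlgSt4
import Groth.Agent.Gerb.K895.Glue
import Groth.Agent.CurvSt.K901.SubStack
import Groth.Agent.AlgSt.K734.FibFp
import Groth.Agent.AlgSt.K735.Pts

/-!
# Full substacks: closure properties and locality (helper893)

* `K893.Sub.of_hom`: for `Q` closed under isomorphisms with `fullSub 𝒳 Q` fibred in groupoids, `A ⟶ B` and `Q B` give `Q A`.
* `K893.Sub.mem_of_local`: if moreover `𝒳` and `fullSub 𝒳 Q` are stacks, an object locally in `Q` is in `Q`.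
-/

set_option autoImplicit false
set_option backward.isDefEq.respectTransparency false
set_option backward.isDefEq.respectTransparency.types false

universe v₄ u₄ v₃ u₃ v₂ u₂ v u

open CategoryTheory AlgebraicGeometry K895.Fib

namespace K893.Sub

variable {S : Scheme.{u}} {𝒳 : BasedCategory.{v₂, u₂} (Over S)} {Q : 𝒳.obj → Prop}

/-- closure of `Q` under sources of morphisms -/
theorem of_hom (h𝒳 : FibCat.IsFibGrpd 𝒳.p) (hiso : ObjectProperty.IsClosedUnderIsomorphisms Q)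
    (hQ : FibCat.IsFibGrpd (AlgSt.fullSub 𝒳 Q).p) {A B : 𝒳.obj} (f : A ⟶ B) (hB : Q B) : Q A := by
  obtain ⟨y, φ, hφ⟩ := exists_lift hQ (𝒳.p.map f) (⟨B, hB⟩ : (AlgSt.fullSub 𝒳 Q).obj) rfl
  have h1 : 𝒳.p.IsHomLift (𝒳.p.map f) φ.hom := lift_map (AlgSt.subIncl 𝒳 Q) hφ
  obtain ⟨χ, -, -, -, -⟩ := exists_iso h𝒳 (𝒳.p.map f) φ.hom f h1 (IsHomLift.map 𝒳.p f)
  exact hiso.of_iso χ.symm y.property

/-- locality of `Q` -/
theorem mem_of_local {U : Over S} {R : Sieve U} (h𝒳 : FibCat.IsFibGrpd 𝒳.p) (hR : Stk.IsStackFor R 𝒳)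
    (hiso : ObjectProperty.IsClosedUnderIsomorphisms Q) (hRQ : Stk.IsStackFor R (AlgSt.fullSub 𝒳 Q))
    (ξ : 𝒳.obj) (hξ : 𝒳.p.obj ξ = U)
    (h : ∀ ⦃V : Over S⦄ (f : V ⟶ U), R f → ∃ (η : 𝒳.obj) (φ : η ⟶ ξ), 𝒳.p.IsHomLift f φ ∧ Q η) : Q ξ := by
  have e1 : (Stk.resSieve R 𝒳).IsEquivalence := hR
  have e2 : (Stk.resSieve R (AlgSt.fullSub 𝒳 Q)).IsEquivalence := hRQ
  let Y := K895.Glue.yo h𝒳 ξ hξ
  let D : Stk.sieveCat R ⥤ᵇ AlgSt.fullSub 𝒳 Q :=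
    K901.SubStack.liftFun ((Stk.resSieve R 𝒳).obj Y) (fun T => by
      obtain ⟨η, φ, hφ, hη⟩ := h T.obj.hom T.property
      obtain ⟨χ, -⟩ := exists_iso h𝒳 T.obj.hom (K895.Glue.yoHom h𝒳 ξ hξ T.obj) φ
        (K895.Glue.yoHom_lift h𝒳 ξ hξ T.obj) hφ
      exact hiso.of_iso χ hη)
  let X : FibCat.overCat U ⥤ᵇ AlgSt.fullSub 𝒳 Q := (Stk.resSieve R (AlgSt.fullSub 𝒳 Q)).objPreimage D
  let e : (Stk.resSieve R (AlgSt.fullSub 𝒳 Q)).obj X ≅ D := (Stk.resSieve R (AlgSt.fullSub 𝒳 Q)).objObjPreimageIso D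
  let e' : (Stk.resSieve R 𝒳).obj (BasedFunctor.comp X (AlgSt.subIncl 𝒳 Q)) ≅ (Stk.resSieve R 𝒳).obj Y :=
    K734.Fib.wr e (AlgSt.subIncl 𝒳 Q)
  let i : BasedFunctor.comp X (AlgSt.subIncl 𝒳 Q) ≅ Y := (Stk.resSieve R 𝒳).preimageIso e'
  let j := K734.Fib.app i (Over.mk (𝟙 U))
  have h1 : Q (Y.obj (Over.mk (𝟙 U))) := hiso.of_iso j (X.obj (Over.mk (𝟙 U))).property
  have hi : IsIso (K895.Glue.yoHom h𝒳 ξ hξ (Over.mk (𝟙 U))) :=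
    isIso h𝒳 (𝟙 U) _ (K895.Glue.yoHom_lift h𝒳 ξ hξ (Over.mk (𝟙 U)))
  exact hiso.of_iso (asIso (K895.Glue.yoHom h𝒳 ξ hξ (Over.mk (𝟙 U)))) h1

end K893.Sub
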