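import Groth.Agent.Gerb.K893.BC
import Groth.Agent.Gerb.K893.Chart
import Groth.Agent.Gerb.K893.Sub
import Groth.Agent.AlgSp.K610.Sub
import Groth.Agent.AlgSt.K737.Core

/-!
# The subsheaf of a chart cut out by a full subcategory (helper893)

For `Q` on the objects of `𝒳` (closed under sources of morphisms and fppf local) and `y : (Sch/U) ⟶ 𝒳`, the
subsheaf `G ⊂ h_U` of the `g` with `Q (y g)` represents `fp y (subIncl 𝒳 Q)`.
-/

set_option autoImplicit false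
set_option backward.isDefEq.respectTransparency false
set_option backward.isDefEq.respectTransparency.types false

universe v₄ u₄ v₃ u₃ v₂ u₂ v u

open CategoryTheory CategoryTheory.Limits AlgebraicGeometry Opposite K895.Fib

namespace K893.SubSp

variable {S : Scheme.{u}} {𝒳 : BasedCategory.{v₂, u₂} (Over S)} {Q : 𝒳.obj → Prop}

/-- `ι : G ⟶ h_U` cuts out the locus of `Q` in the family `y`. -/
def IsLoc (Q : 𝒳.obj → Prop) {U : Over S} (y : FibCat.overCat U ⥤ᵇ 𝒳) {G : AlgSp.Sp S}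
    (ι : G ⟶ (AlgSp.yon S).obj U) : Prop :=
  ∀ g : Over U, Q (y.obj g) ↔ ∃ s : G.obj.obj (op g.left), ι.hom.app (op g.left) s = ⟨g.hom⟩

section Mk

variable (hQ : ObjectProperty.IsClosedUnderIsomorphisms Q) {U : Over S} (y : FibCat.overCat U ⥤ᵇ 𝒳)
  {G : AlgSp.Sp S} (ι : G ⟶ (AlgSp.yon S).obj U) (hι : IsLoc Q y ι)

/-- the functor `ofSp G ⟶ (Sch/U)`. -/
def base : AlgSt.ofSp G ⥤ᵇ FibCat.overCat U :=
  BasedFunctor.comp (AlgSt.ofSpMap ι) (AlgSt.toOverCat U)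

include hι in
/-- the functor `ofSp G ⟶ fullSub 𝒳 Q`. -/
def toSub : AlgSt.ofSp G ⥤ᵇ AlgSt.fullSub 𝒳 Q where
  toFunctor := ObjectProperty.lift (P := Q) (BasedFunctor.comp (base ι) y).toFunctor
    (fun a => (hι _).2 ⟨a.sec, rfl⟩)
  w := (BasedFunctor.comp (base ι) y).w

/-- the comparison functor `ofSp G ⟶ (Sch/U) ×_𝒳 fullSub 𝒳 Q`. -/
def cmp : AlgSt.ofSp G ⥤ᵇ FibCat.fp y (AlgSt.subIncl 𝒳 Q) :=
  FibCat.fpLift (base ι) (toSub y ι hι)
    (BasedNatIso.mkNatIso (NatIso.ofComponents (fun _ => Iso.refl _) (fun f => by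
        dsimp; rw [Category.comp_id, Category.id_comp]; rfl))
      (fun a => by
        dsimp
        exact IsHomLift.id (BasedFunctor.w_obj (BasedFunctor.comp (base ι) y) a)))

theorem cmp_faithful : (cmp y ι hι).toFunctor.Faithful where
  map_injective {a b} f g h := by
    apply Stk.EltObj.hom_ext
    have h1 : ((cmp y ι hι).map f).hom.fst.left = ((cmp y ι hι).map g).hom.fst.left := by
      rw [show (cmp y ι hι).map f = (cmp y ι hι).map g from h]
    exact h1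

theorem app_injective (ι : G ⟶ (AlgSp.yon S).obj U) [Mono ι] (T : Over S) :
    Function.Injective (ι.hom.app (op T)) := by
  intro s s' h
  have : (K598.Site.yE.symm s : (AlgSp.yon S).obj T ⟶ G) = K598.Site.yE.symm s' := by
    rw [← cancel_mono ι]
    apply K893.Chart.yon_ext
    have h1 : ∀ s : G.obj.obj (op T), (K598.Site.yE.symm s : (AlgSp.yon S).obj T ⟶ G).hom.app (op T) ⟨𝟙 T⟩ = s :=
      fun s => K598.Site.yE.apply_symm_apply s
    change ι.hom.app (op T) ((K598.Site.yE.symm s : (AlgSp.yon S).obj T ⟶ G).hom.app (op T) ⟨𝟙 T⟩) =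
      ι.hom.app (op T) ((K598.Site.yE.symm s' : (AlgSp.yon S).obj T ⟶ G).hom.app (op T) ⟨𝟙 T⟩)
    rw [h1, h1, h]
  exact K598.Site.yE.symm.injective this

theorem cmp_full [Mono ι] : (cmp y ι hι).toFunctor.Full where
  map_surjective {a b} m := by
    have hm : m.hom.fst.left ≫ (ι.hom.app (op b.base) b.sec).down = (ι.hom.app (op a.base) a.sec).down :=
      Over.w m.hom.fst
    let k : a.base ⟶ b.base := m.hom.fst.left
    have hk : G.obj.map k.op b.sec = a.sec := by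
      apply app_injective ι
      have h1 : ι.hom.app (op a.base) (G.obj.map k.op b.sec) =
          ((AlgSp.yon S).obj U).obj.map k.op (ι.hom.app (op b.base) b.sec) :=
        NatTrans.naturality_apply ι.hom k.op b.sec
      rw [h1]
      exact ULift.ext _ _ hm
    refine ⟨⟨k, hk⟩, ?_⟩
    apply ObjectProperty.hom_ext
    apply CategoricalPullback.hom_ext
    · apply Over.OverMorphism.ext
      rfl
    · apply ObjectProperty.hom_ext
      have hw := m.hom.w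
      have e1 : ((cmp y ι hι).obj a).obj.iso.hom = 𝟙 _ := rfl
      have e2 : ((cmp y ι hι).obj b).obj.iso.hom = 𝟙 _ := rfl
      rw [e1, e2] at hw
      have hw' : y.map m.hom.fst = m.hom.snd.hom := by
        have := hw
        simp only [Category.comp_id, Category.id_comp] at this
        exact this
      rw [← hw']
      change y.map _ = y.map _
      congr 1

include hQ in
theorem cmp_ess (η : (FibCat.fp y (AlgSt.subIncl 𝒳 Q)).obj) :
    ∃ (ξ : (AlgSt.ofSp G).obj) (e : (cmp y ι hι).obj ξ ≅ η),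
      (FibCat.fp y (AlgSt.subIncl 𝒳 Q)).p.IsHomLift (𝟙 ((FibCat.fp y (AlgSt.subIncl 𝒳 Q)).p.obj η)) e.hom := by
  have hQg : Q (y.obj η.obj.fst) := hQ.of_iso η.obj.iso.symm η.obj.snd.property
  obtain ⟨s, hs⟩ := (hι _).1 hQg
  let e1 : ((cmp y ι hι).obj ⟨η.obj.fst.left, s⟩).obj.fst ≅ η.obj.fst := Over.isoMk (Iso.refl _) (by
    change 𝟙 _ ≫ η.obj.fst.hom = (ι.hom.app (op η.obj.fst.left) s).down
    rw [hs, Category.id_comp])
  let e2 : ((cmp y ι hι).obj ⟨η.obj.fst.left, s⟩).obj.snd ≅ η.obj.snd :=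
    ObjectProperty.isoMk Q (y.toFunctor.mapIso e1 ≪≫ η.obj.iso)
  refine ⟨⟨η.obj.fst.left, s⟩, ObjectProperty.isoMk _ (CategoricalPullback.mkIso e1 e2 ?_), ?_⟩
  · change y.map e1.hom ≫ η.obj.iso.hom = 𝟙 _ ≫ (y.map e1.hom ≫ η.obj.iso.hom)
    rw [Category.id_comp]
  · refine IsHomLift.of_fac _ _ _ rfl rfl ?_
    change 𝟙 η.obj.fst.left = 𝟙 _ ≫ 𝟙 η.obj.fst.left ≫ 𝟙 _
    simp

include hQ in
theorem cmp_isEquivOver [Mono ι] : FibCat.IsEquivOver (cmp y ι hι) :=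
  K737.Core.isEquivOver_of _ (cmp_full y ι hι) (cmp_faithful y ι hι) (cmp_ess hQ y ι hι)

theorem spMapOfOver_cmp :
    AlgSt.spMapOfOver (BasedFunctor.comp (cmp y ι hι) (FibCat.fpFst y (AlgSt.subIncl 𝒳 Q))) = ι := by
  apply ObjectProperty.hom_ext
  ext T x
  apply ULift.ext
  exact Category.id_comp ((ι.hom.app T x).down)

end Mk

/-- locality of `Q` for the fppf topology -/
def IsLocal (Q : 𝒳.obj → Prop) : Prop :=
  ∀ (ξ : 𝒳.obj), (∃ R ∈ (QuotSh.J Scheme.fppfPrecoverage S) (𝒳.p.obj ξ),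
    ∀ ⦃V : Over S⦄ (f : V ⟶ 𝒳.p.obj ξ), R f → ∃ (η : 𝒳.obj) (φ : η ⟶ ξ), 𝒳.p.IsHomLift f φ ∧ Q η) → Q ξ

/-- the structure morphism of a map `h_T ⟶ h_U` -/
def str {T U : Over S} (g : (AlgSp.yon S).obj T ⟶ (AlgSp.yon S).obj U) : T ⟶ U :=
  (g.hom.app (op T) ⟨𝟙 T⟩).down

theorem str_map {T U : Over S} (g : T ⟶ U) : str ((AlgSp.yon S).map g) = g := Category.id_comp g

theorem map_str {T U : Over S} (g : (AlgSp.yon S).obj T ⟶ (AlgSp.yon S).obj U) :
    (AlgSp.yon S).map (str g) = g := by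
  obtain ⟨g, rfl⟩ := (AlgSp.yon S).map_surjective g
  rw [str_map]

theorem str_comp {T' T U : Over S} (f : T' ⟶ T) (g : (AlgSp.yon S).obj T ⟶ (AlgSp.yon S).obj U) :
    str ((AlgSp.yon S).map f ≫ g) = f ≫ str g := by
  obtain ⟨g, rfl⟩ := (AlgSp.yon S).map_surjective g
  rw [str_map, ← Functor.map_comp, str_map]

/-- the local condition on `h_U` -/
def locPred (hhom : ∀ ⦃A B : 𝒳.obj⦄ (_ : A ⟶ B), Q B → Q A) (hloc : IsLocal Q) {U : Over S}
    (y : FibCat.overCat U ⥤ᵇ 𝒳) : K610.Sub.LocPred ((AlgSp.yon S).obj U) where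
  pr T g := Q (y.obj (Over.mk (str g)))
  map {T T'} φ g h := by
    rw [str_comp]
    exact hhom (y.map (Over.homMk φ rfl : Over.mk (φ ≫ str g) ⟶ Over.mk (str g))) h
  loc {T} g h := by
    apply hloc
    have hT : T = 𝒳.p.obj (y.obj (Over.mk (str g))) := (y.w_obj (Over.mk (str g))).symm
    let R : Sieve T :=
      { arrows := fun V f => Q (y.obj (Over.mk (f ≫ str g)))
        downward_closed := fun {V W f} hf k => hhom (y.map (Over.homMk k (by simp) :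
          Over.mk ((k ≫ f) ≫ str g) ⟶ Over.mk (f ≫ str g))) hf }
    have hR : R ∈ (QuotSh.J Scheme.fppfPrecoverage S) T := by
      refine K610.Site.mem_J_iff.2 fun x => ?_
      obtain ⟨Y, φ, h1, h2, h3, h4⟩ := h x
      refine ⟨Y, φ, ?_, h1, h2, h3⟩
      rwa [str_comp] at h4
    obtain ⟨R', hR', h'⟩ : ∃ R' ∈ (QuotSh.J Scheme.fppfPrecoverage S) (𝒳.p.obj (y.obj (Over.mk (str g)))),
        ∀ ⦃V : Over S⦄ (f : V ⟶ 𝒳.p.obj (y.obj (Over.mk (str g)))), R' f → R (f ≫ eqToHom hT.symm) := by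
      refine ⟨R.pullback (eqToHom hT.symm), GrothendieckTopology.pullback_stable _ _ hR, fun V f hf => hf⟩
    refine ⟨R', hR', fun V f hf => ⟨_, y.map (Over.homMk (f ≫ eqToHom hT.symm) rfl :
      Over.mk ((f ≫ eqToHom hT.symm) ≫ str g) ⟶ Over.mk (str g)), ?_, h' f hf⟩⟩
    refine IsHomLift.of_fac' 𝒳.p f _ (y.w_obj _) rfl ?_
    rw [K735.Fib.map_map]
    change eqToHom _ ≫ (f ≫ eqToHom hT.symm) ≫ eqToHom _ = _
    simp

/-- The subsheaf cut out by `Q`. -/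
theorem exists_isLoc (hhom : ∀ ⦃A B : 𝒳.obj⦄ (_ : A ⟶ B), Q B → Q A) (hloc : IsLocal Q) {U : Over S}
    (y : FibCat.overCat U ⥤ᵇ 𝒳) :
    ∃ (G : AlgSp.Sp S) (ι : G ⟶ (AlgSp.yon S).obj U), Mono ι ∧ IsLoc Q y ι ∧
      ∀ (F : AlgSp.Sp S) (f : F ⟶ (AlgSp.yon S).obj U),
        (∀ (T : Over S) (s : F.obj.obj (op T)), Q (y.obj (Over.mk (f.hom.app (op T) s).down))) →
          ∃ f' : F ⟶ G, f' ≫ ι = f := by
  let L := locPred hhom hloc y
  refine ⟨L.sub, L.ι, inferInstance, fun g => ?_, fun F f h => ?_⟩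
  · have h1 := L.exists_lift_iff ((AlgSp.yon S).map g.hom)
    have h2 : L.pr g.left ((AlgSp.yon S).map g.hom) ↔ Q (y.obj g) := by
      change Q (y.obj (Over.mk (str ((AlgSp.yon S).map g.hom)))) ↔ _
      rw [str_map]
      rfl
    rw [← h2, ← h1]
    constructor
    · rintro ⟨g', hg'⟩
      refine ⟨g'.hom.app (op g.left) ⟨𝟙 _⟩, ?_⟩
      have h3 := congrArg (fun t : (AlgSp.yon S).obj g.left ⟶ (AlgSp.yon S).obj U => t.hom.app (op g.left) ⟨𝟙 _⟩) hg'
      refine Eq.trans h3 ?_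
      exact ULift.ext _ _ (Category.id_comp g.hom)
    · rintro ⟨s, hs⟩
      refine ⟨K598.Site.yE.symm s, ?_⟩
      apply K893.Chart.yon_ext
      have h1 : (K598.Site.yE.symm s : (AlgSp.yon S).obj g.left ⟶ L.sub).hom.app (op g.left) ⟨𝟙 g.left⟩ = s :=
        K598.Site.yE.apply_symm_apply s
      change L.ι.hom.app (op g.left) ((K598.Site.yE.symm s : (AlgSp.yon S).obj g.left ⟶ L.sub).hom.app (op g.left)
        ⟨𝟙 g.left⟩) = (⟨𝟙 g.left ≫ g.hom⟩ : ULift _)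
      rw [h1, hs, Category.id_comp]
  · apply L.exists_lift
    intro T g
    have h1 := h T (g.hom.app (op T) ⟨𝟙 T⟩)
    exact h1

/-- The full subcategory on a local condition is a stack. -/
theorem isStack_fullSub (h𝒳 : Stk.IsStack (QuotSh.J Scheme.fppfPrecoverage S) 𝒳)
    (hhom : ∀ ⦃A B : 𝒳.obj⦄ (_ : A ⟶ B), Q B → Q A) (hloc : IsLocal Q) :
    Stk.IsStack (QuotSh.J Scheme.fppfPrecoverage S) (AlgSt.fullSub 𝒳 Q) := by
  have := h𝒳.1
  refine ⟨K901.SubStack.isFibGrpd_fullSub hhom, fun U R hR =>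
    K901.SubStack.isStackFor_fullSub R (h𝒳.2 R hR) hhom fun A hA => ?_⟩
  apply hloc
  have hU : U = 𝒳.p.obj (A.obj (Over.mk (𝟙 U))) := (A.w_obj (Over.mk (𝟙 U))).symm
  refine ⟨R.pullback (eqToHom hU.symm), GrothendieckTopology.pullback_stable _ _ hR, fun V f hf => ?_⟩
  have hf' : R (f ≫ eqToHom hU.symm) := hf
  refine ⟨A.obj (Over.mk (f ≫ eqToHom hU.symm)), A.map (Over.homMk (f ≫ eqToHom hU.symm) (by simp) :
      Over.mk (f ≫ eqToHom hU.symm) ⟶ Over.mk (𝟙 U)), ?_, hA ⟨Over.mk (f ≫ eqToHom hU.symm), hf'⟩⟩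
  refine IsHomLift.of_fac' 𝒳.p f _ (A.w_obj _) rfl ?_
  rw [K735.Fib.map_map]
  change eqToHom _ ≫ (f ≫ eqToHom hU.symm) ≫ eqToHom _ = _
  simp

end K893.SubSp
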