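import Groth.Agent.Gerb.K893.Pt
import Groth.Agent.Gerb.K893.Chart
import Groth.Agent.AlgSt.K735.Fp

/-!
# Residual gerbes: membership from one field-valued point (helper893)
-/

set_option autoImplicit false
set_option backward.isDefEq.respectTransparency false
set_option backward.isDefEq.respectTransparency.types false

universe v u

open CategoryTheory AlgebraicGeometry K895.Fib

namespace K893.Uniq

variable {S : Scheme.{u}} {𝒵 𝒴 : AlgSt.Cat S} {Q' : 𝒴.obj → Prop}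

/-- `z : Spec k ⟶ 𝒵` flat, lfp, surjective; if the class of `F(z)` is in `|Q'|` then `F` lands in `Q'`. -/
theorem mem_of_chart (h𝒵 : FibCat.IsFibGrpd 𝒵.p) (h𝒴 : AlgSt.IsAlgStack Scheme.fppfPrecoverage 𝒴)
    (hiso : ObjectProperty.IsClosedUnderIsomorphisms Q')
    (hA : AlgSt.IsAlgStack Scheme.fppfPrecoverage (AlgSt.fullSub 𝒴 Q'))
    {k : Type u} [Field k] {a : Spec (CommRingCat.of k) ⟶ S} (z : FibCat.overCat (Over.mk a) ⥤ᵇ 𝒵)
    (hzp : AlgSt.RepByAlgSpWith (AlgSp.LocP @LocallyOfFinitePresentation) z)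
    (hzs : AlgSt.RepByAlgSpWith AlgSp.IsSurjectiveMor z) (hzf : AlgSt.RepByAlgSpWith (AlgSp.LocP @Flat) z)
    (F : 𝒵 ⥤ᵇ 𝒴)
    (h : AlgSt.Points.mk (K893.Pt.topPt (BasedFunctor.comp z F)) ∈ Set.range (AlgSt.Points.map (AlgSt.subIncl 𝒴 Q')))
    (ξ : 𝒵.obj) : Q' (F.obj ξ) := by
  have hO : FibCat.IsFibGrpd (FibCat.overCat (Over.mk a)).p := K735.Fp.isFibGrpd_overCat _
  obtain ⟨R, hR, hloc⟩ := K893.Chart.locSurjObj hO h𝒵 hzs hzf hzp ξ
  have hR' : R ∈ (QuotSh.J Scheme.fppfPrecoverage S) (𝒵.p.obj ξ) := hR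
  refine K893.Sub.mem_of_local (R := R) h𝒴.isStack.1 (h𝒴.isStack.2 R hR') hiso (hA.isStack.2 R hR') (F.obj ξ)
    (F.w_obj ξ) fun V g hg => ?_
  obtain ⟨T, ψ, hψ⟩ := hloc g hg
  exact ⟨F.obj (z.obj T), F.map ψ, lift_map F hψ,
    K893.Pt.chart_mem h𝒴 hiso hA (BasedFunctor.comp z F) h T⟩


end K893.Uniq
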