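import Groth.Agent.AlgSt.K744.Art.Univ
import Groth.Agent.Gerb.K893.Wr8

/-!
# The parameter scheme of finite free algebras of rank `n`, over an arbitrary base `S`

`cn S n : Zn S n ⟶ Bn S n` is the universal algebra of rank `n` with a basis, base changed to `S`.
-/

set_option autoImplicit false
universe u
open CategoryTheory CategoryTheory.Limits AlgebraicGeometry Opposite

namespace K893.V4

open K744

/-- the base scheme of structure constants -/
noncomputable abbrev BE (n : ℕ) : Scheme.{u} := Spec (.of (SC.E.{u} n))
/-- the universal algebra -/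
noncomputable abbrev ZE (n : ℕ) : Scheme.{u} := Spec (.of (SC.univ.{u} n).Alg)
/-- the universal finite free morphism -/
noncomputable abbrev cE (n : ℕ) : ZE.{u} n ⟶ BE.{u} n :=
  Spec.map (CommRingCat.ofHom (algebraMap (SC.E.{u} n) (SC.univ.{u} n).Alg))

instance isFinite_cE (n : ℕ) : IsFinite (cE.{u} n) := by
  rw [IsFinite.SpecMap_iff]
  exact RingHom.finite_algebraMap.2 inferInstance

instance flat_cE (n : ℕ) : Flat (cE.{u} n) := by
  have := Module.Flat.of_free (R := SC.E.{u} n) (M := (SC.univ.{u} n).Alg)
  exact Flat.SpecMap_iff.2 (RingHom.flat_algebraMap_iff.2 this)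

instance lfp_cE (n : ℕ) : LocallyOfFinitePresentation (cE.{u} n) := by
  have : IsNoetherianRing (SC.E.{u} n) := inferInstance
  have : Algebra.FinitePresentation (SC.E.{u} n) (SC.univ.{u} n).Alg :=
    Algebra.FinitePresentation.of_finiteType.1 inferInstance
  rw [HasRingHomProperty.Spec_iff (P := @LocallyOfFinitePresentation)]
  exact RingHom.finitePresentation_algebraMap.2 this

theorem surjective_cE {n : ℕ} (hn : 0 < n) : Surjective (cE.{u} n) := by
  refine ⟨fun x => ?_⟩
  have hne : Nontrivial (SC.E.{u} n) := x.nontrivial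
  have : Nonempty (Fin n) := ⟨⟨0, hn⟩⟩
  have hn' : Nontrivial (SC.univ.{u} n).Alg := (SC.Alg.basis (SC.univ.{u} n)).repr.toEquiv.nontrivial
  have : Module.FaithfullyFlat (SC.E.{u} n) (SC.univ.{u} n).Alg := inferInstance
  exact PrimeSpectrum.comap_surjective_of_faithfullyFlat x

variable (S : Scheme.{u}) (n : ℕ)

/-- the parameter scheme over `S` -/
noncomputable def Bn : Over S := Over.mk (Limits.prod.fst : S ⨯ BE.{u} n ⟶ S)
/-- the universal algebra over the parameter scheme -/
noncomputable def Zn : Over S := Over.mk (Limits.prod.fst : S ⨯ ZE.{u} n ⟶ S)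

/-- the universal morphism over `S` -/
noncomputable def cn : Zn S n ⟶ Bn S n := Over.homMk (prod.map (𝟙 S) (cE n)) (by
  change prod.map (𝟙 S) (cE n) ≫ Limits.prod.fst = Limits.prod.fst
  simp)

/-- the product square of a morphism -/
theorem isPullback_prod {C : Type*} [Category C] [HasBinaryProducts C] (X : C) {Y Y' : C} (f : Y ⟶ Y') :
    IsPullback (prod.map (𝟙 X) f) (Limits.prod.snd : X ⨯ Y ⟶ Y) (Limits.prod.snd : X ⨯ Y' ⟶ Y') f := by
  refine ⟨⟨by simp⟩, ⟨PullbackCone.IsLimit.mk _ (fun s => prod.lift (s.fst ≫ Limits.prod.fst) s.snd) ?_ ?_ ?_⟩⟩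
  · intro s
    apply Limits.prod.hom_ext
    · rw [prod.lift_map, prod.lift_fst, Category.comp_id]
    · rw [prod.lift_map, prod.lift_snd]
      exact s.condition.symm
  · intro s
    exact prod.lift_snd _ _
  · intro s m h1 h2
    apply Limits.prod.hom_ext
    · rw [prod.lift_fst, ← h1, Category.assoc, prod.map_fst, Category.comp_id]
    · rw [prod.lift_snd]
      exact h2

theorem isPullback_cn : IsPullback (cn S n).left (Limits.prod.snd : S ⨯ ZE.{u} n ⟶ ZE n)
    (Limits.prod.snd : S ⨯ BE.{u} n ⟶ BE n) (cE n) := isPullback_prod S (cE n)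

instance isFinite_cn : IsFinite (cn S n).left := MorphismProperty.of_isPullback (P := @IsFinite) (isPullback_cn S n).flip inferInstance
instance flat_cn : Flat (cn S n).left := MorphismProperty.of_isPullback (P := @Flat) (isPullback_cn S n).flip inferInstance
instance lfp_cn : LocallyOfFinitePresentation (cn S n).left :=
  MorphismProperty.of_isPullback (P := @LocallyOfFinitePresentation) (isPullback_cn S n).flip inferInstance
theorem surjective_cn {n : ℕ} (hn : 0 < n) : Surjective (cn S n).left := by
  have := surjective_cE.{u} hn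
  exact MorphismProperty.of_isPullback (P := @Surjective) (isPullback_cn S n).flip this

instance lfp_Bn : LocallyOfFinitePresentation (Bn S n).hom := by
  have h1 : LocallyOfFinitePresentation (terminal.from (BE.{u} n)) := by
    have h2 : LocallyOfFinitePresentation (Spec.map (CommRingCat.ofHom (algebraMap ZZ.{u} (SC.E.{u} n)))) := by
      rw [HasRingHomProperty.Spec_iff (P := @LocallyOfFinitePresentation)]
      exact RingHom.finitePresentation_algebraMap.2 inferInstance
    have h3 : IsTerminal (Spec (.of ZZ.{u})) := specULiftZIsTerminal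
    have h4 : IsIso (terminal.from (Spec (.of ZZ.{u}))) := isIso_of_isTerminal h3 terminalIsTerminal _
    have h5 : terminal.from (BE.{u} n) = Spec.map (CommRingCat.ofHom (algebraMap ZZ.{u} (SC.E.{u} n))) ≫ terminal.from _ :=
      terminalIsTerminal.hom_ext _ _
    rw [h5]
    infer_instance
  have sq : IsPullback (Limits.prod.snd : S ⨯ BE.{u} n ⟶ BE n) (Limits.prod.fst : S ⨯ BE.{u} n ⟶ S)
      (terminal.from _) (terminal.from _) :=
    (IsPullback.of_isLimit_binaryFan_of_isTerminal (prodIsProd S (BE n)) terminalIsTerminal).flip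
  exact MorphismProperty.of_isPullback (P := @LocallyOfFinitePresentation) sq h1

end K893.V4
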