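import Groth.Agent.Gerb.K893.V4a

/-!
# Points of the Weil restriction along the universal finite free algebra, over affine schemes

For `T₁ = Spec C` over `S`: a point of `Res (prod.map (𝟙 U₀) (cn S n)) (h_{V' × Zn} ⟶ h_{U₀ × Zn})` over `T₁` is a map
`r : T₁ ⟶ U₀`, structure constants `β : SC n C` and a map `z : Spec β.Alg ⟶ V'` over `U₀`.
-/

set_option autoImplicit false
set_option backward.isDefEq.respectTransparency false
set_option backward.isDefEq.respectTransparency.types false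
universe u
open CategoryTheory CategoryTheory.Limits AlgebraicGeometry Opposite

namespace K893.V4

open K744

section ring

variable {n : ℕ} {C C' : Type u} [CommRing C] [CommRing C']

/-- the map of algebras over a base change, up to an equality of structure constants -/
noncomputable def mapHom' (g : C →+* C') {β : SC n C} {β' : SC n C'} (h : β.map g = β') : β.Alg →+* β'.Alg :=
  (SC.congr h).toRingEquiv.toRingHom.comp (SC.mapHom g β)

theorem mapHom'_c (g : C →+* C') {β : SC n C} {β' : SC n C'} (h : β.map g = β') (x : β.Alg) (i : Fin n) :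
    (mapHom' g h x).c i = g (x.c i) := rfl

theorem mapHom'_algebraMap (g : C →+* C') {β : SC n C} {β' : SC n C'} (h : β.map g = β') (a : C) :
    mapHom' g h (algebraMap C β.Alg a) = algebraMap C' β'.Alg (g a) := by
  subst h
  exact SC.mapHom_algebraMap g β a

theorem isPushout' (g : C →+* C') {β : SC n C} {β' : SC n C'} (h : β.map g = β') :
    IsPushout (CommRingCat.ofHom g) (CommRingCat.ofHom (algebraMap C β.Alg))
      (CommRingCat.ofHom (algebraMap C' β'.Alg)) (CommRingCat.ofHom (mapHom' g h)) := by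
  subst h
  exact SC.isPushout g β

end ring

variable {S : Scheme.{u}} {n : ℕ} {C C' : Type u} [CommRing C] [CommRing C']

/-- the map to the parameter scheme given by structure constants -/
noncomputable def bMap (h : Spec (.of C) ⟶ S) (β : SC n C) : Over.mk h ⟶ Bn S n :=
  Over.homMk (prod.lift h (Spec.map (CommRingCat.ofHom (SC.lift β)))) (prod.lift_fst _ _)

theorem bMap_snd (h : Spec (.of C) ⟶ S) (β : SC n C) :
    (bMap h β).left ≫ (Limits.prod.snd : S ⨯ BE.{u} n ⟶ BE n) = Spec.map (CommRingCat.ofHom (SC.lift β)) :=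
  prod.lift_snd _ _

theorem bMap_ext {T : Over S} {f g : T ⟶ Bn S n}
    (h : f.left ≫ (Limits.prod.snd : S ⨯ BE.{u} n ⟶ BE n) = g.left ≫ Limits.prod.snd) : f = g := by
  ext : 1
  apply Limits.prod.hom_ext
  · exact (Over.w f).trans (Over.w g).symm
  · exact h

theorem zMap_ext {T : Over S} {f g : T ⟶ Zn S n}
    (h : f.left ≫ (Limits.prod.snd : S ⨯ ZE.{u} n ⟶ ZE n) = g.left ≫ Limits.prod.snd) : f = g := by
  ext : 1
  apply Limits.prod.hom_ext
  · exact (Over.w f).trans (Over.w g).symm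
  · exact h

theorem exists_bMap (h : Spec (.of C) ⟶ S) (b : Over.mk h ⟶ Bn S n) : ∃ β : SC n C, bMap h β = b := by
  let f : SC.E.{u} n →+* C := (Spec.preimage (b.left ≫ (Limits.prod.snd : S ⨯ BE.{u} n ⟶ BE n))).hom
  have hf : Spec.map (CommRingCat.ofHom f) = b.left ≫ (Limits.prod.snd : S ⨯ BE.{u} n ⟶ BE n) := Spec.map_preimage _
  refine ⟨(SC.univ n).map f, bMap_ext ?_⟩
  rw [bMap_snd, SC.lift_univ_map, hf]

theorem bMap_injective {h : Spec (.of C) ⟶ S} {β β' : SC n C} (e : bMap h β = bMap h β') : β = β' := by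
  have h1 : SC.lift β = SC.lift β' := by
    have h2 : Spec.map (CommRingCat.ofHom (SC.lift β)) = Spec.map (CommRingCat.ofHom (SC.lift β')) := by
      rw [← bMap_snd h β, ← bMap_snd h β', e]
    exact congrArg CommRingCat.Hom.hom (Spec.map_injective h2)
  rw [← SC.univ_map_lift β, ← SC.univ_map_lift β', h1]

/-- the total space over `T₁` -/
noncomputable def Z1 (h : Spec (.of C) ⟶ S) (β : SC n C) : Over S :=
  Over.mk (Spec.map (CommRingCat.ofHom (algebraMap C β.Alg)) ≫ h)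

/-- the projection to `T₁` -/
noncomputable def p1 (h : Spec (.of C) ⟶ S) (β : SC n C) : Z1 h β ⟶ Over.mk h :=
  Over.homMk (Spec.map (CommRingCat.ofHom (algebraMap C β.Alg))) rfl

/-- the projection to the universal algebra -/
noncomputable def q1 (h : Spec (.of C) ⟶ S) (β : SC n C) : Z1 h β ⟶ Zn S n :=
  Over.homMk (prod.lift (Spec.map (CommRingCat.ofHom (algebraMap C β.Alg)) ≫ h)
    (Spec.map (CommRingCat.ofHom (mapHom' (SC.lift β) (SC.univ_map_lift β))))) (prod.lift_fst _ _)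

theorem q1_snd (h : Spec (.of C) ⟶ S) (β : SC n C) :
    (q1 h β).left ≫ (Limits.prod.snd : S ⨯ ZE.{u} n ⟶ ZE n) =
      Spec.map (CommRingCat.ofHom (mapHom' (SC.lift β) (SC.univ_map_lift β))) :=
  prod.lift_snd _ _

theorem isPullback_1 (h : Spec (.of C) ⟶ S) (β : SC n C) :
    IsPullback (p1 h β) (q1 h β) (bMap h β) (cn S n) := by
  have h0 : IsPullback (Spec.map (CommRingCat.ofHom (mapHom' (SC.lift β) (SC.univ_map_lift β))))
      (Spec.map (CommRingCat.ofHom (algebraMap C β.Alg))) (cE n) (Spec.map (CommRingCat.ofHom (SC.lift β))) :=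
    (isPullback_SpecMap_of_isPushout _ _ _ _ (isPushout' (SC.lift β) (SC.univ_map_lift β)).flip).flip.flip
  have hw : (q1 h β).left ≫ (cn S n).left = (p1 h β).left ≫ (bMap h β).left := by
    apply Limits.prod.hom_ext
    · exact (Over.w (q1 h β ≫ cn S n)).trans (Over.w (p1 h β ≫ bMap h β)).symm
    · refine (Category.assoc _ _ _).trans ?_
      refine (congrArg (fun k => (q1 h β).left ≫ k) (isPullback_cn S n).w).trans ?_
      refine (Category.assoc _ _ _).symm.trans ?_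
      refine (congrArg (fun k => k ≫ cE n) (q1_snd h β)).trans ?_
      refine h0.w.trans ?_
      refine (congrArg (fun k => (p1 h β).left ≫ k) (bMap_snd h β).symm).trans ?_
      exact (Category.assoc _ _ _).symm
  have h1 : IsPullback ((q1 h β).left ≫ (Limits.prod.snd : S ⨯ ZE.{u} n ⟶ ZE n)) (p1 h β).left (cE n)
      ((bMap h β).left ≫ (Limits.prod.snd : S ⨯ BE.{u} n ⟶ BE n)) := by
    rw [q1_snd, bMap_snd]
    exact h0
  have h2 := IsPullback.of_right h1 hw (isPullback_cn S n).flip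
  exact (IsPullback.of_map (Over.forget S) (Over.OverMorphism.ext hw) h2).flip

section pts

variable {U₀ V' : Over S} (k : V' ⟶ U₀)

theorem isPullback_2 (h : Spec (.of C) ⟶ S) (β : SC n C) (r : Over.mk h ⟶ U₀) :
    IsPullback (p1 h β) (prod.lift (p1 h β ≫ r) (q1 h β) : Z1 h β ⟶ U₀ ⨯ Zn S n)
      (prod.lift r (bMap h β) : Over.mk h ⟶ U₀ ⨯ Bn S n) (prod.map (𝟙 U₀) (cn S n)) := by
  have h1 : IsPullback (prod.lift (p1 h β ≫ r) (q1 h β) ≫ (Limits.prod.snd : U₀ ⨯ Zn S n ⟶ Zn S n)) (p1 h β) (cn S n)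
      (prod.lift r (bMap h β) ≫ (Limits.prod.snd : U₀ ⨯ Bn S n ⟶ Bn S n)) := by
    rw [prod.lift_snd, prod.lift_snd]
    exact (isPullback_1 h β).flip
  refine (IsPullback.of_right h1 ?_ (isPullback_prod U₀ (cn S n)).flip).flip
  apply Limits.prod.hom_ext
  · rw [prod.lift_map, prod.lift_fst, Category.comp_id, Category.assoc, prod.lift_fst]
  · rw [prod.lift_map, prod.lift_snd, Category.assoc, prod.lift_snd]
    exact (isPullback_1 h β).w.symm

/-- the map `h_{V' × Zn} ⟶ h_{U₀ × Zn}` -/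
noncomputable abbrev wk : (AlgSp.yon S).obj (V' ⨯ Zn S n) ⟶ (AlgSp.yon S).obj (U₀ ⨯ Zn S n) :=
  (AlgSp.yon S).map (prod.map k (𝟙 (Zn S n)))

theorem hz_map {k : V' ⟶ U₀} (h : Spec (.of C) ⟶ S) (β : SC n C) (r : Over.mk h ⟶ U₀) (z : Z1 h β ⟶ V')
    (hz : z ≫ k = p1 h β ≫ r) : (wk (n := n) k).hom.app (op (Z1 h β)) ⟨prod.lift z (q1 h β)⟩ =
      (⟨prod.lift (p1 h β ≫ r) (q1 h β)⟩ : ((AlgSp.yon S).obj (U₀ ⨯ Zn S n)).obj.obj (op (Z1 h β))) := by
  refine congrArg ULift.up ?_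
  change prod.lift z (q1 h β) ≫ prod.map k (𝟙 (Zn S n)) = _
  rw [prod.lift_map, hz, Category.comp_id]

/-- the point of the Weil restriction given by `r`, `β`, `z` -/
noncomputable def mkPt {k : V' ⟶ U₀} (h : Spec (.of C) ⟶ S) (r : Over.mk h ⟶ U₀) (β : SC n C) (z : Z1 h β ⟶ V')
    (hz : z ≫ k = p1 h β ≫ r) : Wr.Pt (prod.map (𝟙 U₀) (cn S n)) (wk (n := n) k) (Over.mk h) :=
  Wr.Pt.mk' (isPullback_2 h β r) ⟨prod.lift z (q1 h β)⟩ (hz_map h β r z hz)

theorem mkPt_t {k : V' ⟶ U₀} (h : Spec (.of C) ⟶ S) (r : Over.mk h ⟶ U₀) (β : SC n C) (z : Z1 h β ⟶ V')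
    (hz : z ≫ k = p1 h β ≫ r) : (mkPt h r β z hz).t = prod.lift r (bMap h β) := rfl

theorem mkPt_F {k : V' ⟶ U₀} (h : Spec (.of C) ⟶ S) (r : Over.mk h ⟶ U₀) (β : SC n C) (z : Z1 h β ⟶ V')
    (hz : z ≫ k = p1 h β ≫ r) : (mkPt h r β z hz).F (p1 h β) (prod.lift (p1 h β ≫ r) (q1 h β)) (isPullback_2 h β r).w =
      (⟨prod.lift z (q1 h β)⟩ : ((AlgSp.yon S).obj (V' ⨯ Zn S n)).obj.obj (op (Z1 h β))) :=
  Wr.Pt.mk'_F_self _ _ _

theorem exists_mkPt {k : V' ⟶ U₀} (h : Spec (.of C) ⟶ S)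
    (x : Wr.Pt (prod.map (𝟙 U₀) (cn S n)) (wk (n := n) k) (Over.mk h)) :
    ∃ (r : Over.mk h ⟶ U₀) (β : SC n C) (z : Z1 h β ⟶ V') (hz : z ≫ k = p1 h β ≫ r), x = mkPt h r β z hz := by
  obtain ⟨β, hβ⟩ := exists_bMap h (x.t ≫ Limits.prod.snd)
  obtain ⟨r, hr⟩ : ∃ r : Over.mk h ⟶ U₀, r = x.t ≫ Limits.prod.fst := ⟨_, rfl⟩
  have ht : x.t = prod.lift r (bMap h β) := by
    apply Limits.prod.hom_ext
    · rw [prod.lift_fst, hr]
    · rw [prod.lift_snd, hβ]
  have sq' : IsPullback (p1 h β) (prod.lift (p1 h β ≫ r) (q1 h β) : Z1 h β ⟶ U₀ ⨯ Zn S n)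
      x.t (prod.map (𝟙 U₀) (cn S n)) := by
    rw [ht]
    exact isPullback_2 h β r
  obtain ⟨s, hs⟩ : ∃ s : Z1 h β ⟶ V' ⨯ Zn S n, (x.F (p1 h β) (prod.lift (p1 h β ≫ r) (q1 h β)) sq'.w) =
      (⟨s⟩ : ((AlgSp.yon S).obj (V' ⨯ Zn S n)).obj.obj (op (Z1 h β))) := ⟨_, rfl⟩
  have hw : s ≫ prod.map k (𝟙 (Zn S n)) = prod.lift (p1 h β ≫ r) (q1 h β) := by
    have h1 := x.w_F (p1 h β) (prod.lift (p1 h β ≫ r) (q1 h β)) sq'.w
    rw [hs] at h1
    exact congrArg ULift.down h1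
  have hz : (s ≫ Limits.prod.fst) ≫ k = p1 h β ≫ r := by
    have h1 := congrArg (· ≫ Limits.prod.fst) hw
    simpa using h1
  have hz' : s ≫ Limits.prod.snd = q1 h β := by
    have h1 := congrArg (· ≫ Limits.prod.snd) hw
    simpa using h1
  refine ⟨r, β, s ≫ Limits.prod.fst, hz, Wr.Pt.eq_of_sq sq' ht ?_⟩
  rw [hs, mkPt_F]
  refine congrArg ULift.up ?_
  apply Limits.prod.hom_ext
  · rw [prod.lift_fst]
  · rw [prod.lift_snd, hz']

theorem mkPt_injective {k : V' ⟶ U₀} {h : Spec (.of C) ⟶ S} {r r' : Over.mk h ⟶ U₀} {β : SC n C} {z z' : Z1 h β ⟶ V'}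
    {hz : z ≫ k = p1 h β ≫ r} {hz' : z' ≫ k = p1 h β ≫ r'} (e : mkPt h r β z hz = mkPt h r' β z' hz') : r = r' ∧ z = z' := by
  have h1 : prod.lift r (bMap h β) = prod.lift r' (bMap h β) := congrArg Wr.Pt.t e
  have h2 : r = r' := by
    have h3 := congrArg (· ≫ Limits.prod.fst) h1
    simpa using h3
  subst h2
  refine ⟨rfl, ?_⟩
  have h4 := Wr.Pt.F_congr e (p1 h β) (p1 h β) (prod.lift (p1 h β ≫ r) (q1 h β)) (prod.lift (p1 h β ≫ r) (q1 h β)) rfl rfl
    (isPullback_2 h β r).w (isPullback_2 h β r).w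
  rw [mkPt_F, mkPt_F] at h4
  have h5 := congrArg (· ≫ Limits.prod.fst) (congrArg ULift.down h4)
  simpa using h5

theorem mkPt_injective_β {k : V' ⟶ U₀} {h : Spec (.of C) ⟶ S} {r r' : Over.mk h ⟶ U₀} {β β' : SC n C} {z : Z1 h β ⟶ V'}
    {z' : Z1 h β' ⟶ V'}
    {hz : z ≫ k = p1 h β ≫ r} {hz' : z' ≫ k = p1 h β' ≫ r'} (e : mkPt h r β z hz = mkPt h r' β' z' hz') : β = β' := by
  have h1 : prod.lift r (bMap h β) = prod.lift r' (bMap h β') := congrArg Wr.Pt.t e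
  apply bMap_injective (h := h)
  have h3 := congrArg (· ≫ Limits.prod.snd) h1
  simpa using h3

/-- the map of total spaces -/
noncomputable def zg {h : Spec (.of C) ⟶ S} {h' : Spec (.of C') ⟶ S} (γ : C →+* C')
    (hγ : Spec.map (CommRingCat.ofHom γ) ≫ h = h') {β : SC n C} {β' : SC n C'} (hβ : β.map γ = β') :
    Z1 h' β' ⟶ Z1 h β :=
  Over.homMk (Spec.map (CommRingCat.ofHom (mapHom' γ hβ))) (by
    change Spec.map _ ≫ Spec.map _ ≫ h = Spec.map _ ≫ h'
    rw [← hγ, ← Category.assoc, ← Category.assoc, ← Spec.map_comp, ← Spec.map_comp]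
    congr 2
    apply CommRingCat.hom_ext
    exact RingHom.ext fun a => mapHom'_algebraMap γ hβ a)

theorem zg_p1 {h : Spec (.of C) ⟶ S} {h' : Spec (.of C') ⟶ S} (γ : C →+* C')
    (hγ : Spec.map (CommRingCat.ofHom γ) ≫ h = h') {β : SC n C} {β' : SC n C'} (hβ : β.map γ = β') :
    zg γ hγ hβ ≫ p1 h β = p1 h' β' ≫ (Over.homMk (Spec.map (CommRingCat.ofHom γ)) hγ : Over.mk h' ⟶ Over.mk h) := by
  ext : 1
  change Spec.map _ ≫ Spec.map _ = Spec.map _ ≫ Spec.map _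
  rw [← Spec.map_comp, ← Spec.map_comp]
  congr 1
  apply CommRingCat.hom_ext
  exact RingHom.ext fun a => mapHom'_algebraMap γ hβ a

theorem bMap_map {h : Spec (.of C) ⟶ S} {h' : Spec (.of C') ⟶ S} (γ : C →+* C')
    (hγ : Spec.map (CommRingCat.ofHom γ) ≫ h = h') {β : SC n C} {β' : SC n C'} (hβ : β.map γ = β') :
    (Over.homMk (Spec.map (CommRingCat.ofHom γ)) hγ : Over.mk h' ⟶ Over.mk h) ≫ bMap h β = bMap h' β' := by
  subst hβ
  apply bMap_ext
  refine (Category.assoc _ _ _).trans ?_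
  refine (congrArg (fun k => Spec.map (CommRingCat.ofHom γ) ≫ k) (bMap_snd h β)).trans ?_
  rw [bMap_snd, ← Spec.map_comp]
  congr 1
  apply CommRingCat.hom_ext
  change γ.comp (SC.lift β) = SC.lift (β.map γ)
  apply SC.hom_ext
  rw [SC.univ_map_lift, ← SC.map_map, SC.univ_map_lift]

theorem zg_q1 {h : Spec (.of C) ⟶ S} {h' : Spec (.of C') ⟶ S} (γ : C →+* C')
    (hγ : Spec.map (CommRingCat.ofHom γ) ≫ h = h') {β : SC n C} {β' : SC n C'} (hβ : β.map γ = β') :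
    zg γ hγ hβ ≫ q1 h β = q1 h' β' := by
  apply zMap_ext
  refine (Category.assoc _ _ _).trans ?_
  refine (congrArg (fun k => (zg γ hγ hβ).left ≫ k) (q1_snd h β)).trans ?_
  rw [q1_snd]
  change Spec.map _ ≫ Spec.map _ = _
  rw [← Spec.map_comp]
  congr 1
  apply CommRingCat.hom_ext
  refine RingHom.ext fun x => ?_
  apply SC.Alg.ext'
  funext i
  change γ (SC.lift β (x.c i)) = SC.lift β' (x.c i)
  have h1 : γ.comp (SC.lift β) = SC.lift β' := by
    apply SC.hom_ext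
    rw [SC.univ_map_lift, ← SC.map_map, SC.univ_map_lift, hβ]
  exact DFunLike.congr_fun h1 (x.c i)

theorem mkPt_res {k : V' ⟶ U₀} {h : Spec (.of C) ⟶ S} (r : Over.mk h ⟶ U₀) (β : SC n C) (z : Z1 h β ⟶ V')
    (hz : z ≫ k = p1 h β ≫ r) {h' : Spec (.of C') ⟶ S} (γ : C →+* C')
    (hγ : Spec.map (CommRingCat.ofHom γ) ≫ h = h') {β' : SC n C'} (hβ : β.map γ = β')
    (hz' : (zg γ hγ hβ ≫ z) ≫ k = p1 h' β' ≫ (Over.homMk (Spec.map (CommRingCat.ofHom γ)) hγ : Over.mk h' ⟶ Over.mk h) ≫ r) :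
    (mkPt h r β z hz).res (Over.homMk (Spec.map (CommRingCat.ofHom γ)) hγ : Over.mk h' ⟶ Over.mk h) =
      mkPt h' ((Over.homMk (Spec.map (CommRingCat.ofHom γ)) hγ : Over.mk h' ⟶ Over.mk h) ≫ r) β' (zg γ hγ hβ ≫ z) hz' := by
  let g : Over.mk h' ⟶ Over.mk h := Over.homMk (Spec.map (CommRingCat.ofHom γ)) hγ
  have ht : (g ≫ prod.lift r (bMap h β) : Over.mk h' ⟶ U₀ ⨯ Bn S n) = prod.lift (g ≫ r) (bMap h' β') := by
    rw [prod.comp_lift, bMap_map γ hγ hβ]
  have sq := isPullback_2 h' β' (g ≫ r)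
  refine Eq.symm (Wr.Pt.eq_of_sq (x := mkPt h' (g ≫ r) β' (zg γ hγ hβ ≫ z) hz') sq ht.symm ?_)
  rw [mkPt_F]
  have h3 : (p1 h' β' ≫ g) ≫ (mkPt h r β z hz).t = prod.lift (p1 h' β' ≫ g ≫ r) (q1 h' β') ≫ prod.map (𝟙 U₀) (cn S n) := by
    rw [mkPt_t, Category.assoc, ht]
    exact sq.w
  change _ = (mkPt h r β z hz).F (p1 h' β' ≫ g) (prod.lift (p1 h' β' ≫ g ≫ r) (q1 h' β')) h3
  have h4 : (isPullback_2 h β r).lift (p1 h' β' ≫ g) (prod.lift (p1 h' β' ≫ g ≫ r) (q1 h' β')) h3 = zg γ hγ hβ := by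
    apply (isPullback_2 h β r).hom_ext
    · rw [IsPullback.lift_fst, zg_p1]
    · rw [IsPullback.lift_snd, prod.comp_lift, zg_q1, ← Category.assoc (zg γ hγ hβ), zg_p1, Category.assoc]
  have h5 := Wr.Pt.mk'_F (w := wk (n := n) k) (isPullback_2 h β r)
    (⟨prod.lift z (q1 h β)⟩ : ((AlgSp.yon S).obj (V' ⨯ Zn S n)).obj.obj (op (Z1 h β))) (hz_map h β r z hz) (p1 h' β' ≫ g)
    (prod.lift (p1 h' β' ≫ g ≫ r) (q1 h' β')) h3
  refine Eq.trans ?_ h5.symm
  rw [h4]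
  refine congrArg ULift.up ?_
  change _ = zg γ hγ hβ ≫ prod.lift z (q1 h β)
  rw [prod.comp_lift, zg_q1]

end pts

end K893.V4
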