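import Groth.Agent.Gerb.K893.V4b
import Groth.Agent.AlgSp.K613.Basic

/-!
# The Weil restriction along the universal finite free algebra of an affine scheme is represented by the algebra of
# `K744.Pt.exists_univ`
-/

set_option autoImplicit false
set_option backward.isDefEq.respectTransparency false
set_option backward.isDefEq.respectTransparency.types false
universe u
open CategoryTheory CategoryTheory.Limits AlgebraicGeometry Opposite

namespace K893.V4

open K744 AlgSp

variable {S : Scheme.{u}}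

/-- the cover of a scheme by affine opens -/
theorem exists_affine_cover (T : Over S) : ∃ (ι : Type u) (C : ι → CommRingCat.{u}) (h : ∀ i, Spec (C i) ⟶ S)
    (c : ∀ i, Over.mk (h i) ⟶ T), (∀ i, IsOpenImmersion (c i).left) ∧
    ∀ t : T.left, ∃ (i : ι) (t' : (Over.mk (h i)).left), (c i).left t' = t := by
  refine ⟨T.left.affineOpenCover.I₀, fun i => T.left.affineOpenCover.X i, fun i => T.left.affineOpenCover.f i ≫ T.hom,
    fun i => Over.homMk (T.left.affineOpenCover.f i) rfl, fun i => ?_, fun t => ?_⟩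
  · exact T.left.affineOpenCover.map_prop i
  · obtain ⟨t', ht'⟩ := T.left.affineOpenCover.covers t
    exact ⟨_, t', ht'⟩

/-- a map of sheaves bijective on points over affine schemes is an isomorphism -/
theorem isIso_of_affine {F G : Sp S} (f : F ⟶ G)
    (H : ∀ (C : Type u) [CommRing C] (h : Spec (.of C) ⟶ S) (y : (yon S).obj (Over.mk h) ⟶ G),
      ∃! x : (yon S).obj (Over.mk h) ⟶ F, x ≫ f = y) : IsIso f := by
  have inj : ∀ (T : Over S) (x y : (yon S).obj T ⟶ F), x ≫ f = y ≫ f → x = y := by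
    intro T x y hxy
    obtain ⟨ι, C, h, c, hc, hcs⟩ := exists_affine_cover T
    obtain ⟨z, -, hz⟩ := K613.Basic.glueFam (F := F) (fun i => Over.mk (h i)) c (fun i => have := hc i; inferInstance)
      (fun i => have := hc i; inferInstance) hcs (fun i => (yon S).map (c i) ≫ x) (fun i j R a b hab => by
        rw [← Category.assoc, ← Category.assoc, ← Functor.map_comp, ← Functor.map_comp, hab])
    refine (hz x fun i => rfl).trans (hz y fun i => ?_).symm
    exact (H (C i) (h i) ((yon S).map (c i) ≫ x ≫ f)).unique (by rw [Category.assoc, hxy]) (Category.assoc _ _ _)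
  refine K613.Basic.isIso_of_bijective fun T y => ?_
  obtain ⟨ι, C, h, c, hc, hcs⟩ := exists_affine_cover T
  choose x hx hx' using fun i => H (C i) (h i) ((yon S).map (c i) ≫ y)
  obtain ⟨z, hz, hz'⟩ := K613.Basic.glueFam (F := F) (fun i => Over.mk (h i)) c (fun i => have := hc i; inferInstance)
    (fun i => have := hc i; inferInstance) hcs x (fun i j R a b hab => by
      apply inj
      have h1 := hx i
      have h2 := hx j
      dsimp only at h1 h2
      rw [Category.assoc, Category.assoc, h1, h2, ← Category.assoc, ← Category.assoc, ← Functor.map_comp,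
        ← Functor.map_comp, hab])
  have hzf : z ≫ f = y := by
    obtain ⟨w, -, hw⟩ := K613.Basic.glueFam (F := G) (fun i => Over.mk (h i)) c (fun i => have := hc i; inferInstance)
      (fun i => have := hc i; inferInstance) hcs (fun i => (yon S).map (c i) ≫ y) (fun i j R a b hab => by
        rw [← Category.assoc, ← Category.assoc, ← Functor.map_comp, ← Functor.map_comp, hab])
    refine (hw _ fun i => ?_).trans (hw y fun i => rfl).symm
    rw [← Category.assoc, hz i]
    exact hx i
  exact ⟨z, hzf, fun z' hz'' => inj T _ _ (hz''.trans hzf.symm)⟩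

theorem mkPt_congr {n : ℕ} {C : Type u} [CommRing C] {U₀ V' : Over S} {k : V' ⟶ U₀} {h : Spec (.of C) ⟶ S}
    {r r' : Over.mk h ⟶ U₀} {β : SC n C} {z z' : Z1 h β ⟶ V'} {hz : z ≫ k = p1 h β ≫ r} {hz' : z' ≫ k = p1 h β ≫ r'}
    (e : r = r') (e' : z = z') : mkPt h r β z hz = mkPt h r' β z' hz' := by
  subst e e'
  rfl

theorem zg_w {n : ℕ} {C C' : Type u} [CommRing C] [CommRing C'] {U₀ V' : Over S} {k : V' ⟶ U₀} {h : Spec (.of C) ⟶ S}
    (r : Over.mk h ⟶ U₀) (β : SC n C) (z : Z1 h β ⟶ V')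
    (hz : z ≫ k = p1 h β ≫ r) {h' : Spec (.of C') ⟶ S} (γ : C →+* C')
    (hγ : Spec.map (CommRingCat.ofHom γ) ≫ h = h') {β' : SC n C'} (hβ : β.map γ = β') :
    (zg γ hγ hβ ≫ z) ≫ k = p1 h' β' ≫ (Over.homMk (Spec.map (CommRingCat.ofHom γ)) hγ : Over.mk h' ⟶ Over.mk h) ≫ r := by
  rw [Category.assoc, hz, ← Category.assoc, zg_p1, Category.assoc]

section univ

variable {R A P : Type u} [CommRing R] [CommRing A] [Algebra R A] [CommRing P] [Algebra R P] {n : ℕ}
  (s : Spec (.of R) ⟶ S)

/-- `Spec A` over `Spec R` over `S` -/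
noncomputable abbrev SA (A : Type u) [CommRing A] [Algebra R A] : Over S :=
  Over.mk (Spec.map (CommRingCat.ofHom (algebraMap R A)) ≫ s)

/-- the structure map of `Spec A` over `Spec R` -/
noncomputable abbrev kA (A : Type u) [CommRing A] [Algebra R A] : SA s A ⟶ Over.mk s :=
  Over.homMk (Spec.map (CommRingCat.ofHom (algebraMap R A))) rfl

/-- the structure map of `Spec P` -/
noncomputable abbrev hS (P : Type u) [CommRing P] [Algebra R P] : Spec (.of P) ⟶ S :=
  Spec.map (CommRingCat.ofHom (algebraMap R P)) ≫ s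

/-- the map of the universal algebra to `Spec A` -/
noncomputable def zP (ξ : K744.Pt R A n P) : Z1 (hS s P) ξ.β ⟶ SA s A :=
  Over.homMk (Spec.map (CommRingCat.ofHom ξ.φ)) (by
    change Spec.map _ ≫ Spec.map _ ≫ s = Spec.map _ ≫ Spec.map _ ≫ s
    rw [← Category.assoc, ← Category.assoc, ← Spec.map_comp, ← Spec.map_comp]
    congr 2
    apply CommRingCat.hom_ext
    exact RingHom.ext fun r => ξ.w r)

theorem zP_w (ξ : K744.Pt R A n P) : zP s ξ ≫ kA s A = p1 (hS s P) ξ.β ≫ kA s P := by
  ext : 1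
  change Spec.map _ ≫ Spec.map _ = Spec.map _ ≫ Spec.map _
  rw [← Spec.map_comp, ← Spec.map_comp]
  congr 1
  apply CommRingCat.hom_ext
  exact RingHom.ext fun r => ξ.w r

/-- the universal point -/
noncomputable def uPt (ξ : K744.Pt R A n P) : Wr.Pt (prod.map (𝟙 (Over.mk s)) (cn S n)) (wk (n := n) (kA s A)) (SA s P) :=
  mkPt (hS s P) (kA s P) ξ.β (zP s ξ) (zP_w s ξ)

theorem isIso_uPt (ξ : K744.Pt R A n P) (hξ : ∀ (C : Type u) [CommRing C] [Algebra R C] (x : K744.Pt R A n C),
    ∃! t : P →ₐ[R] C, ξ.map t = x) : IsIso (uPt s ξ).hom := by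
  refine isIso_of_affine _ fun C _ h y => ?_
  obtain ⟨x, rfl⟩ := Wr.exists_pt y
  obtain ⟨r, β, z, hz, rfl⟩ := exists_mkPt h x
  obtain ⟨ρ, hρ⟩ : ∃ ρ : R →+* C, Spec.map (CommRingCat.ofHom ρ) = r.left :=
    ⟨(Spec.preimage r.left).hom, Spec.map_preimage _⟩
  obtain ⟨φ, hφ⟩ : ∃ φ : A →+* β.Alg, Spec.map (CommRingCat.ofHom φ) = z.left :=
    ⟨(Spec.preimage z.left).hom, Spec.map_preimage _⟩
  let _ : Algebra R C := ρ.toAlgebra
  have hw : ∀ a, φ (algebraMap R A a) = algebraMap C β.Alg (ρ a) := by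
    have h1 : Spec.map (CommRingCat.ofHom φ) ≫ Spec.map (CommRingCat.ofHom (algebraMap R A)) =
        Spec.map (CommRingCat.ofHom (algebraMap C β.Alg)) ≫ Spec.map (CommRingCat.ofHom ρ) := by
      rw [hφ, hρ]
      exact congrArg (fun k => k.left) hz
    rw [← Spec.map_comp, ← Spec.map_comp] at h1
    have h2 := congrArg CommRingCat.Hom.hom (Spec.map_injective h1)
    exact fun a => DFunLike.congr_fun h2 a
  let y : K744.Pt R A n C := ⟨β, φ, hw⟩
  obtain ⟨t, ht, ht'⟩ := hξ C y
  have hβ : ξ.β.map t.toRingHom = β := congrArg K744.Pt.β ht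
  have hφ' : (mapHom' t.toRingHom hβ).comp ξ.φ = φ := by
    refine RingHom.ext fun a => SC.Alg.ext' ?_
    exact congrArg (fun k : K744.Pt R A n C => (k.φ a).c) ht
  have hh : Spec.map (CommRingCat.ofHom t.toRingHom) ≫ hS s P = h := by
    have h1 : r.left ≫ s = h := Over.w r
    rw [← h1, ← hρ, ← Category.assoc, ← Spec.map_comp]
    congr 2
    apply CommRingCat.hom_ext
    exact RingHom.ext fun a => t.commutes a
  let g : Over.mk h ⟶ SA s P := Over.homMk (Spec.map (CommRingCat.ofHom t.toRingHom)) hh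
  refine ⟨(yon S).map g, ?_, ?_⟩
  · change (yon S).map g ≫ (uPt s ξ).hom = _
    rw [Wr.yon_map_hom]
    congr 1
    refine (mkPt_res (kA s P) ξ.β (zP s ξ) (zP_w s ξ) t.toRingHom hh hβ
      (zg_w (kA s P) ξ.β (zP s ξ) (zP_w s ξ) t.toRingHom hh hβ)).trans (mkPt_congr ?_ ?_)
    · ext : 1
      change Spec.map (CommRingCat.ofHom t.toRingHom) ≫ Spec.map (CommRingCat.ofHom (algebraMap R P)) = r.left
      rw [← hρ, ← Spec.map_comp]
      congr 1
      apply CommRingCat.hom_ext
      exact RingHom.ext fun a => t.commutes a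
    · ext : 1
      change Spec.map (CommRingCat.ofHom (mapHom' t.toRingHom hβ)) ≫ Spec.map (CommRingCat.ofHom ξ.φ) = z.left
      rw [← hφ, ← Spec.map_comp]
      congr 1
      apply CommRingCat.hom_ext
      exact hφ'
  · intro x' hx'
    obtain ⟨g', rfl⟩ := (yon S).map_surjective x'
    change (yon S).map g' ≫ (uPt s ξ).hom = _ at hx'
    rw [Wr.yon_map_hom] at hx'
    have hx := Wr.Pt.hom_injective hx'
    obtain ⟨γ, hγ⟩ : ∃ γ : P →+* C, Spec.map (CommRingCat.ofHom γ) = g'.left :=
      ⟨(Spec.preimage g'.left).hom, Spec.map_preimage _⟩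
    have hγh : Spec.map (CommRingCat.ofHom γ) ≫ hS s P = h := by
      rw [hγ]
      exact Over.w g'
    have hg' : g' = Over.homMk (Spec.map (CommRingCat.ofHom γ)) hγh := by
      ext : 1
      exact hγ.symm
    rw [hg'] at hx
    have e1 := mkPt_res (kA s P) ξ.β (zP s ξ) (zP_w s ξ) γ hγh rfl (zg_w (kA s P) ξ.β (zP s ξ) (zP_w s ξ) γ hγh rfl)
    have hβ' : ξ.β.map γ = β := mkPt_injective_β (e1.symm.trans hx)
    have e2 := mkPt_res (kA s P) ξ.β (zP s ξ) (zP_w s ξ) γ hγh hβ' (zg_w (kA s P) ξ.β (zP s ξ) (zP_w s ξ) γ hγh hβ')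
    obtain ⟨h3, h4⟩ := mkPt_injective (e2.symm.trans hx)
    have h5 : Spec.map (CommRingCat.ofHom γ) ≫ Spec.map (CommRingCat.ofHom (algebraMap R P)) =
        Spec.map (CommRingCat.ofHom ρ) := (congrArg (fun k => k.left) h3).trans hρ.symm
    have h6 : Spec.map (CommRingCat.ofHom (mapHom' γ hβ')) ≫ Spec.map (CommRingCat.ofHom ξ.φ) =
        Spec.map (CommRingCat.ofHom φ) := (congrArg (fun k => k.left) h4).trans hφ.symm
    rw [← Spec.map_comp] at h5 h6
    have h7 := congrArg CommRingCat.Hom.hom (Spec.map_injective h5)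
    have h8 := congrArg CommRingCat.Hom.hom (Spec.map_injective h6)
    let t' : P →ₐ[R] C := { γ with commutes' := fun a => DFunLike.congr_fun h7 a }
    have h9 : ξ.map t' = y := K744.Pt.ext' hβ' fun a => by
      have h10 := DFunLike.congr_fun h8 a
      exact congrArg SC.Alg.c h10
    have h11 : t' = t := ht' t' h9
    congr 1
    rw [hg']
    ext : 1
    change Spec.map (CommRingCat.ofHom γ) = Spec.map (CommRingCat.ofHom t.toRingHom)
    rw [← h11]

end univ

end K893.V4
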