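import Groth.Agent.Gerb.K893.V4c
import Groth.Agent.AlgSp.K642.Charts
import Groth.Agent.AlgSp.K613.Chart
import Groth.Agent.AlgSt.K734.Props
import Groth.Agent.AlgSt.K744.Art.Final
import Groth.Agent.AlgSp.K628.Artin.Pt

/-!
# Smooth points on Weil restrictions: the geometric form of the ring theorem `K628.Artin.exists_smooth_point_pt`
-/

set_option autoImplicit false
set_option backward.isDefEq.respectTransparency false
set_option backward.isDefEq.respectTransparency.types false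
universe u
open CategoryTheory CategoryTheory.Limits AlgebraicGeometry Opposite

namespace K893.V4

open K744 AlgSp

variable {S : Scheme.{u}}

theorem exists_affine_chart_over {F : Sp S} (hF : IsAlgSpace F) {U : Over S} (p : F ⟶ (yon S).obj U)
    (hp1 : LocP @Flat p) (hp2 : LocP @LocallyOfFinitePresentation p) (hp3 : IsSurjectiveMor p) (t₀ : U.left) :
    ∃ (R A : Type u) (_ : CommRing R) (_ : CommRing A) (_ : Algebra R A) (_ : Module.Flat R A)
      (_ : Algebra.FinitePresentation R A) (j₀ : Spec (.of R) ⟶ U.left) (_ : IsOpenImmersion j₀)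
      (a : (yon S).obj (SA (j₀ ≫ U.hom) A) ⟶ F) (_ : RepWith @Etale a)
      (_ : a ≫ p = (yon S).map (kA (j₀ ≫ U.hom) A ≫ (Over.homMk j₀ rfl : Over.mk (j₀ ≫ U.hom) ⟶ U)))
      (v : PrimeSpectrum A), j₀ (v.comap (algebraMap R A)) = t₀ := by
  obtain ⟨R, j₀, hj₀, u₀, hu₀⟩ : ∃ (R : CommRingCat.{u}) (j₀ : Spec R ⟶ U.left) (_ : IsOpenImmersion j₀) (u₀ : Spec R),
      j₀ u₀ = t₀ := by
    obtain ⟨u₀, hu₀⟩ := U.left.affineOpenCover.covers t₀
    exact ⟨_, _, U.left.affineOpenCover.map_prop _, u₀, hu₀⟩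
  let U₀ : Over S := Over.mk (j₀ ≫ U.hom)
  let j : U₀ ⟶ U := Over.homMk j₀ rfl
  have sq := IsPullback.of_hasPullback p ((yon S).map j)
  have hF₀ : IsAlgSpace (pullback p ((yon S).map j)) :=
    K613.Chart.isAlgSpace_pullback hF (IsAlgSpace.yon_obj U₀) (IsAlgSpace.yon_obj U) p ((yon S).map j)
  let p₀ : pullback p ((yon S).map j) ⟶ (yon S).obj U₀ := pullback.snd _ _
  have h1 : LocP @Flat p₀ := K734.Rep.nice_flat.bc hF (IsAlgSpace.yon_obj U) hF₀ (IsAlgSpace.yon_obj U₀) _ _ _ _ sq hp1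
  have h2 : LocP @LocallyOfFinitePresentation p₀ :=
    K734.Rep.nice_lfp.bc hF (IsAlgSpace.yon_obj U) hF₀ (IsAlgSpace.yon_obj U₀) _ _ _ _ sq hp2
  have h3 : IsSurjectiveMor p₀ :=
    K734.Rep.nice_surj.bc hF (IsAlgSpace.yon_obj U) hF₀ (IsAlgSpace.yon_obj U₀) _ _ _ _ sq hp3
  obtain ⟨y, hy⟩ := h3 (Points.ofScheme U₀ u₀)
  obtain ⟨ι, V, m, hV, hm, hcov⟩ := K642.Charts.exists_affine_charts _ hF₀
  obtain ⟨i, v, hv⟩ := hcov y
  obtain ⟨k, hk⟩ := (yon S).map_surjective (m i ≫ p₀)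
  have hkv : k.left v = u₀ := by
    apply K609.Points.ofScheme_injective U₀
    rw [← K609.Points.ofPt_yon_map, hk, ← hy, ← hv, Points.map_ofPt]
  have hkf : Flat k.left := h1 (m i) (𝟙 _) k (hm i) (repWith_id @Etale U₀) (by rw [Category.comp_id, hk])
  have hkp : LocallyOfFinitePresentation k.left := h2 (m i) (𝟙 _) k (hm i) (repWith_id @Etale U₀) (by rw [Category.comp_id, hk])
  have hVi := hV i
  obtain ⟨A, e₀, he₀⟩ : ∃ (A : CommRingCat.{u}) (e₀ : Spec A ⟶ (V i).left), IsIso e₀ :=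
    ⟨Γ((V i).left, ⊤), (V i).left.isoSpec.inv, inferInstance⟩
  let ψ : R ⟶ A := Spec.preimage (e₀ ≫ k.left)
  have hψ : Spec.map ψ = e₀ ≫ k.left := Spec.map_preimage _
  let _ : Algebra R A := ψ.hom.toAlgebra
  have hfl : Module.Flat R A := by
    have h5 : Flat (Spec.map ψ) := by rw [hψ]; infer_instance
    exact RingHom.flat_algebraMap_iff.1 (Flat.SpecMap_iff.1 h5)
  have hfp : Algebra.FinitePresentation R A := by
    have h5 : LocallyOfFinitePresentation (Spec.map ψ) := by rw [hψ]; infer_instance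
    rw [HasRingHomProperty.Spec_iff (P := @LocallyOfFinitePresentation)] at h5
    exact RingHom.finitePresentation_algebraMap.1 h5
  let e : SA (j₀ ≫ U.hom) A ⟶ V i := Over.homMk e₀ (by
    change e₀ ≫ (V i).hom = Spec.map ψ ≫ j₀ ≫ U.hom
    have h6 : k.left ≫ j₀ ≫ U.hom = (V i).hom := Over.w k
    rw [hψ, Category.assoc, h6])
  have he : Etale e.left := by
    change Etale e₀
    infer_instance
  have hjet : RepWith @Etale ((yon S).map j) := (repWith_yon_map_iff _ _).2 (show Etale j₀ from inferInstance)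
  obtain ⟨v', hv'⟩ : ∃ v' : PrimeSpectrum A, e₀ v' = v := e₀.surjective v
  refine ⟨R, A, inferInstance, inferInstance, inferInstance, hfl, hfp, j₀, hj₀, (yon S).map e ≫ m i ≫ pullback.fst _ _,
    ?_, ?_, v', ?_⟩
  · exact K629.Basic.repWith_comp _ ((repWith_yon_map_iff _ _).2 he) (K629.Basic.repWith_comp _ (hm i)
      (MorphismProperty.of_isPullback sq.flip hjet))
  · rw [Category.assoc, Category.assoc, sq.w, ← Category.assoc (m i)]
    change (yon S).map e ≫ (m i ≫ p₀) ≫ _ = _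
    rw [← hk, ← Functor.map_comp, ← Functor.map_comp]
    congr 1
    rw [← Category.assoc]
    congr 1
    ext : 1
    exact hψ.symm
  · have h7 : Spec.map ψ v' = u₀ := by
      rw [hψ, Scheme.Hom.comp_apply, hv']
      exact hkv
    rw [← hu₀, ← h7]
    rfl

theorem isAffine_prod (n : ℕ) (V' : Over S) [IsAffine V'.left] : IsAffine (V' ⨯ Zn S n).left := by
  have hB : IsTerminal (Over.mk (𝟙 S)) := Over.mkIdTerminal
  have sq : IsPullback (Limits.prod.snd : V' ⨯ Zn S n ⟶ Zn S n) (Limits.prod.fst : V' ⨯ Zn S n ⟶ V') (hB.from _) (hB.from _) :=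
    (IsPullback.of_isLimit_binaryFan_of_isTerminal (prodIsProd V' (Zn S n)) hB).flip
  have sq' := sq.map (Over.forget S)
  have h1 : (hB.from (Zn S n)).left = (Zn S n).hom := by
    have h2 : (hB.from (Zn S n)).left ≫ 𝟙 S = (Zn S n).hom := Over.w (hB.from (Zn S n))
    rw [← h2]
    exact (Category.comp_id _).symm
  have h3 : IsAffineHom (terminal.from (ZE.{u} n)) := inferInstance
  have h4 : IsAffineHom (Zn S n).hom :=
    MorphismProperty.of_isPullback (P := @IsAffineHom)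
      (IsPullback.of_isLimit_binaryFan_of_isTerminal (prodIsProd S (ZE n)) terminalIsTerminal).flip h3
  have h5 : IsAffineHom (Limits.prod.fst : V' ⨯ Zn S n ⟶ V').left := by
    refine MorphismProperty.of_isPullback (P := @IsAffineHom) sq' ?_
    change IsAffineHom (hB.from (Zn S n)).left
    rw [h1]
    exact h4
  exact isAffine_of_isAffineHom (Limits.prod.fst : V' ⨯ Zn S n ⟶ V').left

/-- the product of pullback squares in a category with binary products -/
theorem isPullback_prod_left {C : Type*} [Category C] [HasBinaryProducts C] (Y : C) {X X' : C} (f : X ⟶ X') :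
    IsPullback (prod.map f (𝟙 Y)) (Limits.prod.fst : X ⨯ Y ⟶ X) (Limits.prod.fst : X' ⨯ Y ⟶ X') f := by
  refine ⟨⟨by simp⟩, ⟨PullbackCone.IsLimit.mk _ (fun s => prod.lift s.snd (s.fst ≫ Limits.prod.snd)) ?_ ?_ ?_⟩⟩
  · intro s
    apply Limits.prod.hom_ext
    · rw [prod.lift_map, prod.lift_fst]
      exact s.condition.symm
    · rw [prod.lift_map, prod.lift_snd, Category.comp_id]
  · intro s
    exact prod.lift_fst _ _
  · intro s m h1 h2
    apply Limits.prod.hom_ext
    · rw [prod.lift_fst]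
      exact h2
    · rw [prod.lift_snd, ← h1, Category.assoc, prod.map_snd, Category.comp_id]

section chart

variable {R A : Type u} [CommRing R] [CommRing A] [Algebra R A] (n : ℕ) {F W : Sp S} {U : Over S}
  {p : F ⟶ (yon S).obj U} (j₀ : Spec (.of R) ⟶ U.left) [IsOpenImmersion j₀]

/-- `Spec R ⟶ U` -/
noncomputable abbrev jU : Over.mk (j₀ ≫ U.hom) ⟶ U := Over.homMk j₀ rfl

variable {j₀} {a : (yon S).obj (SA (j₀ ≫ U.hom) A) ⟶ F} (ha : RepWith @Etale a)
  (hap : a ≫ p = (yon S).map (kA (j₀ ≫ U.hom) A ≫ jU j₀))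
  {f' : W ⟶ F} {w' : W ⟶ (yon S).obj (U ⨯ Zn S n)}
  (sq : IsPullback f' w' p ((yon S).map (Limits.prod.fst : U ⨯ Zn S n ⟶ U)))

omit [IsOpenImmersion j₀] in
include ha hap sq in
/-- the étale chart of `F ×_{U} (U × Zn)` -/
theorem exists_chart_W : ∃ g₁ : (yon S).obj (SA (j₀ ≫ U.hom) A ⨯ Zn S n) ⟶ W,
    g₁ ≫ w' = (yon S).map (prod.map (kA (j₀ ≫ U.hom) A ≫ jU j₀) (𝟙 (Zn S n))) ∧ RepWith @Etale g₁ := by
  have sq1 := (isPullback_prod_left (Zn S n) (kA (j₀ ≫ U.hom) A ≫ jU j₀)).map (yon S)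
  have hw : ((yon S).map (Limits.prod.fst : SA (j₀ ≫ U.hom) A ⨯ Zn S n ⟶ SA (j₀ ≫ U.hom) A) ≫ a) ≫ p =
      (yon S).map (prod.map (kA (j₀ ≫ U.hom) A ≫ jU j₀) (𝟙 (Zn S n))) ≫ (yon S).map Limits.prod.fst := by
    rw [Category.assoc, hap]
    exact sq1.w.symm
  refine ⟨sq.lift _ _ hw, sq.lift_snd _ _ hw, ?_⟩
  have sq2 : IsPullback (sq.lift _ _ hw) ((yon S).map (Limits.prod.fst : SA (j₀ ≫ U.hom) A ⨯ Zn S n ⟶ _)) f' a := by
    refine (IsPullback.of_right (h₁₁ := sq.lift _ _ hw) (h₁₂ := w') (v₁₃ := (yon S).map Limits.prod.fst) (h₂₂ := p)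
      (h₂₁ := a) (v₁₂ := f') ?_ (sq.lift_fst _ _ hw) sq.flip)
    rw [sq.lift_snd, hap]
    exact sq1
  exact MorphismProperty.of_isPullback sq2.flip ha

end chart

theorem isPullback_prod_mid {C : Type*} [Category C] [HasBinaryProducts C] {X X' Y Y' : C} (j : X ⟶ X') (f : Y ⟶ Y') :
    IsPullback (prod.map (𝟙 X) f) (prod.map j (𝟙 Y)) (prod.map j (𝟙 Y')) (prod.map (𝟙 X') f) := by
  refine IsPullback.flip (IsPullback.of_bot (v₂₁ := (Limits.prod.fst : X ⨯ Y' ⟶ X))
    (v₂₂ := (Limits.prod.fst : X' ⨯ Y' ⟶ X')) (h₃₁ := j) ?_ ?_ (isPullback_prod_left Y' j))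
  · rw [prod.map_fst, prod.map_fst, Category.comp_id, Category.comp_id]
    exact isPullback_prod_left Y j
  · rw [prod.map_map, prod.map_map, Category.id_comp, Category.id_comp, Category.comp_id, Category.comp_id]

theorem isPullback_of_mono' {C : Type*} [Category C] {X Y Z : C} (f : X ⟶ Y) (m : Y ⟶ Z) [Mono m] :
    IsPullback f (𝟙 X) m (f ≫ m) := by
  refine ⟨⟨by simp⟩, ⟨PullbackCone.IsLimit.mk _ (fun s => s.snd) ?_ ?_ ?_⟩⟩
  · intro s
    rw [← cancel_mono m, s.condition, Category.assoc]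
  · intro s
    exact Category.comp_id _
  · intro s l h1 h2
    exact (Category.comp_id l).symm.trans h2

instance isFinite_prod (n : ℕ) (U : Over S) : IsFinite (prod.map (𝟙 U) (cn S n)).left :=
  MorphismProperty.of_isPullback (P := @IsFinite) ((isPullback_prod U (cn S n)).map (Over.forget S)).flip (isFinite_cn S n)
instance flat_prod (n : ℕ) (U : Over S) : Flat (prod.map (𝟙 U) (cn S n)).left :=
  MorphismProperty.of_isPullback (P := @Flat) ((isPullback_prod U (cn S n)).map (Over.forget S)).flip (flat_cn S n)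
instance lfp_prod (n : ℕ) (U : Over S) : LocallyOfFinitePresentation (prod.map (𝟙 U) (cn S n)).left :=
  MorphismProperty.of_isPullback (P := @LocallyOfFinitePresentation)
    ((isPullback_prod U (cn S n)).map (Over.forget S)).flip (lfp_cn S n)

theorem isOpenImmersion_prod_left {U₀ U : Over S} (j : U₀ ⟶ U) [IsOpenImmersion j.left] (Y : Over S) :
    IsOpenImmersion (prod.map j (𝟙 Y)).left :=
  MorphismProperty.of_isPullback (P := @IsOpenImmersion) ((isPullback_prod_left Y j).map (Over.forget S)).flip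
    (show IsOpenImmersion j.left from inferInstance)

open K744.ArtV in
theorem smAt_comp {X Y Z : Scheme.{u}} (f : X ⟶ Y) (g : Y ⟶ Z) [IsOpenImmersion g] {t : X} (h : SmAt f t) :
    SmAt (f ≫ g) t := by
  have hg : (g.stalkMap (f t)).hom.FormallySmooth := Scheme.Hom.mem_smoothLocus.1 (by
    rw [Scheme.Hom.smoothLocus_eq_top]
    trivial)
  have h1 := RingHom.FormallySmooth.comp hg h
  unfold SmAt
  rw [Scheme.Hom.stalkMap_comp]
  exact h1

end K893.V4
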