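import Groth.Agent.AlgSp.K606.PshBasic
import Groth.Agent.AlgSp.K598.Site

/-!
# Weil restriction of a sheaf over `h_Z` along `c : Z ⟶ T`: definition and points

A point of `Res c w` over `T₁` is a morphism `t : T₁ ⟶ T` together with a natural family of sections
`F a b` of `W` over `T₂`, for `a : T₂ ⟶ T₁`, `b : T₂ ⟶ Z` with `a ≫ t = b ≫ c`, lying over `b`.
-/

set_option autoImplicit false
universe u
open CategoryTheory CategoryTheory.Limits AlgebraicGeometry Opposite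

namespace K893.Wr

open AlgSp

variable {S : Scheme.{u}} {Z T : Over S}

/-- Points of the Weil restriction of `w : W ⟶ h_Z` along `c : Z ⟶ T`. -/
structure Pt (c : Z ⟶ T) {W : Sp S} (w : W ⟶ (yon S).obj Z) (T₁ : Over S) : Type (u + 1) where
  /-- the structure map -/
  t : T₁ ⟶ T
  /-- the family of sections -/
  F : ∀ {T₂ : Over S} (a : T₂ ⟶ T₁) (b : T₂ ⟶ Z), a ≫ t = b ≫ c → W.obj.obj (op T₂)
  w_F : ∀ {T₂ : Over S} (a : T₂ ⟶ T₁) (b : T₂ ⟶ Z) (h : a ≫ t = b ≫ c),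
    w.hom.app (op T₂) (F a b h) = (⟨b⟩ : ((yon S).obj Z).obj.obj (op T₂))
  nat : ∀ {T₂ T₃ : Over S} (g : T₃ ⟶ T₂) (a : T₂ ⟶ T₁) (b : T₂ ⟶ Z) (h : a ≫ t = b ≫ c),
    W.obj.map g.op (F a b h) = F (g ≫ a) (g ≫ b) (by rw [Category.assoc, h, Category.assoc])

variable {c : Z ⟶ T} {W : Sp S} {w : W ⟶ (yon S).obj Z}

theorem Pt.ext {T₁ : Over S} {x y : Pt c w T₁} (h : x.t = y.t)
    (hF : ∀ {T₂ : Over S} (a : T₂ ⟶ T₁) (b : T₂ ⟶ Z) (h1 : a ≫ x.t = b ≫ c) (h2 : a ≫ y.t = b ≫ c),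
      x.F a b h1 = y.F a b h2) : x = y := by
  obtain ⟨t, F, w1, n1⟩ := x
  obtain ⟨t', F', w2, n2⟩ := y
  obtain rfl : t = t' := h
  have : @F = @F' := by
    funext T₂ a b h
    exact hF a b h h
  subst this
  rfl

theorem Pt.F_congr {T₁ : Over S} {x y : Pt c w T₁} (h : x = y) {T₂ : Over S} (a a' : T₂ ⟶ T₁) (b b' : T₂ ⟶ Z)
    (ha : a = a') (hb : b = b') (h1 : a ≫ x.t = b ≫ c) (h2 : a' ≫ y.t = b' ≫ c) : x.F a b h1 = y.F a' b' h2 := by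
  subst h; subst ha; subst hb; rfl

/-- Restriction of points. -/
def Pt.res {T₁ T₂ : Over S} (g : T₂ ⟶ T₁) (x : Pt c w T₁) : Pt c w T₂ where
  t := g ≫ x.t
  F a b h := x.F (a ≫ g) b (by rw [Category.assoc, h])
  w_F a b h := x.w_F _ _ _
  nat g' a b h := by
    rw [x.nat]
    exact Pt.F_congr rfl _ _ _ _ (Category.assoc _ _ _).symm rfl _ _

@[simp] theorem Pt.res_t {T₁ T₂ : Over S} (g : T₂ ⟶ T₁) (x : Pt c w T₁) : (x.res g).t = g ≫ x.t := rfl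

theorem Pt.res_F {T₁ T₂ T₃ : Over S} (g : T₂ ⟶ T₁) (x : Pt c w T₁) (a : T₃ ⟶ T₂) (b : T₃ ⟶ Z)
    (h : a ≫ (x.res g).t = b ≫ c) : (x.res g).F a b h = x.F (a ≫ g) b (by rw [Category.assoc]; exact h) := rfl

variable (c w) in
/-- The presheaf of points. -/
def psh : PSp S where
  obj T₁ := Pt c w T₁.unop
  map g := ↾fun x => x.res g.unop
  map_id T₁ := by
    ext x
    exact Pt.ext (Category.id_comp _) (fun a b h1 h2 => Pt.F_congr rfl _ _ _ _ (Category.comp_id _) rfl _ _)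
  map_comp f g := by
    ext x
    exact Pt.ext (Category.assoc _ _ _) (fun a b h1 h2 => Pt.F_congr rfl _ _ _ _ (Category.assoc _ _ _).symm rfl _ _)

theorem isSheaf_psh : Presheaf.IsSheaf (J S) (psh c w) := by
  have hW := W.property
  have hT := ((yon S).obj T).property
  rw [isSheaf_iff_isSheaf_of_type] at hW hT ⊢
  intro T₁ R hR x₀ hx₀
  -- the structure map
  obtain ⟨x, hxx⟩ : ∃ x : ∀ ⦃Y : Over S⦄ (f : Y ⟶ T₁), R.arrows f → Pt c w Y, ∀ ⦃Y : Over S⦄ (f : Y ⟶ T₁) (hf : R.arrows f),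
      x f hf = x₀ f hf := ⟨fun Y f hf => x₀ f hf, fun _ _ _ => rfl⟩
  have hx1 : ∀ ⦃Y₁ Y₂ Y : Over S⦄ (g₁ : Y ⟶ Y₁) (g₂ : Y ⟶ Y₂) ⦃f₁ : Y₁ ⟶ T₁⦄ ⦃f₂ : Y₂ ⟶ T₁⦄ (h₁ : R.arrows f₁)
      (h₂ : R.arrows f₂), g₁ ≫ f₁ = g₂ ≫ f₂ → (x f₁ h₁).res g₁ = (x f₂ h₂).res g₂ := fun Y₁ Y₂ Y g₁ g₂ f₁ f₂ h₁ h₂ h => by
    rw [hxx, hxx]; exact hx₀ g₁ g₂ h₁ h₂ h
  let xt : Presieve.FamilyOfElements ((yon S).obj T).obj R.arrows := fun Y f hf => ⟨(x f hf).t⟩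
  have hxt : xt.Compatible := by
    intro Y₁ Y₂ Y g₁ g₂ f₁ f₂ h₁ h₂ h
    have := congrArg Pt.t (hx1 g₁ g₂ h₁ h₂ h)
    exact congrArg ULift.up this
  obtain ⟨⟨t₀⟩, ht, ht'⟩ := hT R hR xt hxt
  obtain ⟨t, rfl⟩ : ∃ t : T₁ ⟶ T, t = t₀ := ⟨_, rfl⟩
  have ht1 : ∀ ⦃Y : Over S⦄ (f : Y ⟶ T₁) (hf : R.arrows f), f ≫ t = (x f hf).t := fun Y f hf => congrArg ULift.down (ht f hf)
  -- the family on `a^* R`
  have hfam : ∀ {T₂ : Over S} (a : T₂ ⟶ T₁) (b : T₂ ⟶ Z) (h : a ≫ t = b ≫ c) {Y : Over S} (g : Y ⟶ T₂)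
      (hg : R.arrows (g ≫ a)), 𝟙 Y ≫ (x (g ≫ a) hg).t = (g ≫ b) ≫ c := by
    intro T₂ a b h Y g hg
    rw [Category.id_comp, ← ht1, Category.assoc, h, Category.assoc]
  let fam : ∀ {T₂ : Over S} (a : T₂ ⟶ T₁) (b : T₂ ⟶ Z) (h : a ≫ t = b ≫ c),
      Presieve.FamilyOfElements W.obj (R.pullback a).arrows := fun {T₂} a b h Y g hg =>
    (x (g ≫ a) hg).F (𝟙 Y) (g ≫ b) (hfam a b h g hg)
  have hfamc : ∀ {T₂ : Over S} (a : T₂ ⟶ T₁) (b : T₂ ⟶ Z) (h : a ≫ t = b ≫ c), (fam a b h).Compatible := by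
    intro T₂ a b h Y₁ Y₂ Y g₁ g₂ f₁ f₂ h₁ h₂ h'
    replace h₁ : R.arrows (f₁ ≫ a) := h₁
    replace h₂ : R.arrows (f₂ ≫ a) := h₂
    change W.obj.map g₁.op ((x (f₁ ≫ a) h₁).F (𝟙 Y₁) (f₁ ≫ b) (hfam a b h f₁ h₁)) =
      W.obj.map g₂.op ((x (f₂ ≫ a) h₂).F (𝟙 Y₂) (f₂ ≫ b) (hfam a b h f₂ h₂))
    rw [Pt.nat, Pt.nat]
    have e := hx1 g₁ g₂ h₁ h₂ (by rw [← Category.assoc, h', Category.assoc])
    have h3 : 𝟙 Y ≫ ((x (f₁ ≫ a) h₁).res g₁).t = (g₁ ≫ f₁ ≫ b) ≫ c := by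
      rw [Pt.res_t, Category.id_comp, ← ht1 _ h₁, Category.assoc, Category.assoc, Category.assoc, h]
    have h4 : 𝟙 Y ≫ ((x (f₂ ≫ a) h₂).res g₂).t = (g₁ ≫ f₁ ≫ b) ≫ c := by rw [← e]; exact h3
    have e2 := Pt.F_congr e (𝟙 Y) (𝟙 Y) (g₁ ≫ f₁ ≫ b) (g₁ ≫ f₁ ≫ b) rfl rfl h3 h4
    rw [Pt.res_F, Pt.res_F] at e2
    refine (Pt.F_congr rfl _ _ _ _ (by simp) rfl _ _).trans (e2.trans (Pt.F_congr rfl _ _ _ _ (by simp) ?_ _ _))
    rw [← Category.assoc, h', Category.assoc]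
  have hcov : ∀ {T₂ : Over S} (a : T₂ ⟶ T₁), R.pullback a ∈ J S T₂ := fun a => (J S).pullback_stable a hR
  choose G hG hG' using fun (T₂ : Over S) (a : T₂ ⟶ T₁) (b : T₂ ⟶ Z) (h : a ≫ t = b ≫ c) =>
    hW (R.pullback a) (hcov a) (fam a b h) (hfamc a b h)
  have hG1 : ∀ (T₂ : Over S) (a : T₂ ⟶ T₁) (b : T₂ ⟶ Z) (h : a ≫ t = b ≫ c) {Y : Over S} (g : Y ⟶ T₂)
      (hg : R.arrows (g ≫ a)), W.obj.map g.op (G T₂ a b h) = (x (g ≫ a) hg).F (𝟙 Y) (g ≫ b) (hfam a b h g hg) :=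
    fun T₂ a b h Y g hg => hG T₂ a b h g hg
  have hsepW : ∀ {T₂ : Over S} (a : T₂ ⟶ T₁) (s s' : W.obj.obj (op T₂)),
      (∀ {Y : Over S} (g : Y ⟶ T₂), R.arrows (g ≫ a) → W.obj.map g.op s = W.obj.map g.op s') → s = s' :=
    fun a s s' h => (hW.isSeparated (R.pullback a) (hcov a)).ext fun Y g hg => h g hg
  have hZ := ((yon S).obj Z).property
  rw [isSheaf_iff_isSheaf_of_type] at hZ
  let y : Pt c w T₁ :=
    { t := t
      F := fun {T₂} a b h => G T₂ a b h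
      w_F := by
        intro T₂ a b h
        refine (hZ.isSeparated (R.pullback a) (hcov a)).ext fun Y g hg => ?_
        replace hg : R.arrows (g ≫ a) := hg
        rw [← NatTrans.naturality_apply, hG1 T₂ a b h g hg, Pt.w_F]
        rfl
      nat := by
        intro T₂ T₃ g a b h
        refine hsepW (g ≫ a) _ _ fun {Y} g' hg' => ?_
        rw [hG1 T₃ (g ≫ a) (g ≫ b) _ g' hg', ← Functor.map_comp_apply, ← op_comp,
          hG1 T₂ a b h (g' ≫ g) (by rw [Category.assoc]; exact hg')]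
        have e3 : ∀ (k k' : Y ⟶ T₁) (hk : k = k') (h1 : R.arrows k) (h2 : R.arrows k'), x k h1 = x k' h2 := by
          intro k k' hk h1 h2; subst hk; rfl
        exact Pt.F_congr (e3 _ _ (Category.assoc _ _ _) _ _) _ _ _ _ rfl (Category.assoc _ _ _) _ _ }
  have hy : ∀ ⦃Y : Over S⦄ (f : Y ⟶ T₁) (hf : R.arrows f), y.res f = x f hf := by
    intro Y f hf
    refine Pt.ext (ht1 f hf) fun {T₂} a b h1 h2 => ?_
    change G T₂ (a ≫ f) b _ = _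
    have h5 := hG1 T₂ (a ≫ f) b (by rw [Category.assoc]; exact h1) (𝟙 T₂) (by
      rw [Category.id_comp]; exact R.downward_closed hf a)
    rw [op_id, Functor.map_id_apply] at h5
    rw [h5]
    have e4 := hx1 (𝟙 T₂) a (f₁ := 𝟙 T₂ ≫ a ≫ f) (by rw [Category.id_comp]; exact R.downward_closed hf a) hf
      (by rw [Category.id_comp, Category.id_comp])
    have h6 : 𝟙 T₂ ≫ ((x f hf).res a).t = b ≫ c := by rw [Pt.res_t, Category.id_comp]; exact h2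
    have h7 : 𝟙 T₂ ≫ ((x (𝟙 T₂ ≫ a ≫ f) (by rw [Category.id_comp]; exact R.downward_closed hf a)).res (𝟙 T₂)).t
      = b ≫ c := by rw [e4]; exact h6
    have e5 := Pt.F_congr e4 (𝟙 T₂) (𝟙 T₂) b b rfl rfl h7 h6
    rw [Pt.res_F, Pt.res_F] at e5
    exact (Pt.F_congr rfl _ _ _ _ (by simp) (by simp) _ _).trans (e5.trans (Pt.F_congr rfl _ _ _ _ (by simp) rfl _ _))
  refine ⟨y, fun Y f hf => (hy f hf).trans (hxx f hf), fun z₀ hz => ?_⟩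
  obtain ⟨z, rfl⟩ : ∃ z : Pt c w T₁, z = z₀ := ⟨z₀, rfl⟩
  have hz' : ∀ ⦃Y : Over S⦄ (f : Y ⟶ T₁) (hf : R.arrows f), Pt.res f z = x f hf := fun Y f hf =>
    (hz f hf).trans (hxx f hf).symm
  have hzt : z.t = t := by
    have := ht' ⟨z.t⟩ (fun Y f hf => congrArg ULift.up (congrArg Pt.t (hz' f hf)))
    exact congrArg ULift.down this
  refine Pt.ext hzt fun {T₂} a b h1 h2 => ?_
  refine hsepW a _ _ fun {Y} g hg => ?_
  change _ = W.obj.map g.op (G T₂ a b h2)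
  rw [Pt.nat, hG1 T₂ a b h2 g hg]
  have e6 := hz' (g ≫ a) hg
  have h8 : 𝟙 Y ≫ (Pt.res (g ≫ a) z).t = (g ≫ b) ≫ c := by
    rw [Pt.res_t, Category.id_comp, Category.assoc, h1, Category.assoc]
  have e7 := Pt.F_congr e6 (𝟙 Y) (𝟙 Y) (g ≫ b) (g ≫ b) rfl rfl h8 (hfam a b h2 g hg)
  rw [← e7, Pt.res_F]
  exact Pt.F_congr rfl _ _ _ _ (by simp) rfl _ _

variable (c w) in
/-- The Weil restriction of `w : W ⟶ h_Z` along `c : Z ⟶ T`. -/
def Res : Sp S := ⟨psh c w, isSheaf_psh⟩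

theorem res_map {T₁ T₂ : Over S} (g : T₂ ⟶ T₁) (x : Pt c w T₁) : (Res c w).obj.map g.op x = x.res g := rfl

variable (c w) in
/-- The structure map `Res c w ⟶ h_T`. -/
def π : Res c w ⟶ (yon S).obj T :=
  ObjectProperty.homMk { app := fun T₁ => ↾fun (x : Pt c w T₁.unop) => (⟨x.t⟩ : ULift (T₁.unop ⟶ T)) }

@[simp] theorem π_app {T₁ : Over S} (x : Pt c w T₁) : (π c w).hom.app (op T₁) x = ⟨x.t⟩ := rfl

/-- Functoriality on points. -/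
def Pt.map {W' : Sp S} {w' : W' ⟶ (yon S).obj Z} (f : W ⟶ W') (hf : f ≫ w' = w) {T₁ : Over S} (x : Pt c w T₁) :
    Pt c w' T₁ where
  t := x.t
  F {T₂} a b h := f.hom.app (op T₂) (x.F a b h)
  w_F {T₂} a b h := by
    have := congrArg (fun g => g.hom.app (op T₂) (x.F a b h)) hf
    exact this.trans (x.w_F a b h)
  nat {T₂ T₃} g a b h := by
    rw [← NatTrans.naturality_apply, x.nat]

theorem Pt.map_F {W' : Sp S} {w' : W' ⟶ (yon S).obj Z} (f : W ⟶ W') (hf : f ≫ w' = w) {T₁ T₂ : Over S}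
    (x : Pt c w T₁) (a : T₂ ⟶ T₁) (b : T₂ ⟶ Z) (h : a ≫ (x.map f hf).t = b ≫ c) :
    (x.map f hf).F a b h = f.hom.app (op T₂) (x.F a b h) := rfl

/-- Functoriality of the Weil restriction. -/
def map {W' : Sp S} {w' : W' ⟶ (yon S).obj Z} (c : Z ⟶ T) (f : W ⟶ W') (hf : f ≫ w' = w) : Res c w ⟶ Res c w' :=
  ObjectProperty.homMk { app := fun T₁ => ↾fun (x : Pt c w T₁.unop) => x.map f hf }

@[simp] theorem map_app {W' : Sp S} {w' : W' ⟶ (yon S).obj Z} (c : Z ⟶ T) (f : W ⟶ W') (hf : f ≫ w' = w)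
    {T₁ : Over S} (x : Pt c w T₁) : (map c f hf).hom.app (op T₁) x = x.map f hf := rfl

theorem map_π {W' : Sp S} {w' : W' ⟶ (yon S).obj Z} (c : Z ⟶ T) (f : W ⟶ W') (hf : f ≫ w' = w) :
    map c f hf ≫ π c w' = π c w := rfl

/-! ### maps from schemes -/

open K598.Site in
/-- The map `h_{T₁} ⟶ Res c w` of a point. -/
noncomputable def Pt.hom {T₁ : Over S} (ξ : Pt c w T₁) : (yon S).obj T₁ ⟶ Res c w :=
  (yE (F := Res c w)).symm ξ

open K598.Site in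
theorem yE_hom {T₁ : Over S} (ξ : Pt c w T₁) : yE (F := Res c w) ξ.hom = (ξ : (Res c w).obj.obj (op T₁)) :=
  (yE (T := T₁) (F := Res c w)).apply_symm_apply ξ

open K598.Site in
theorem exists_pt {T₁ : Over S} (m : (yon S).obj T₁ ⟶ Res c w) : ∃ ξ : Pt c w T₁, ξ.hom = m :=
  ⟨yE m, (yE (T := T₁) (F := Res c w)).symm_apply_apply m⟩

open K598.Site in
theorem Pt.hom_injective {T₁ : Over S} {ξ η : Pt c w T₁} (h : ξ.hom = η.hom) : ξ = η :=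
  (yE (T := T₁) (F := Res c w)).symm.injective h

open K598.Site in
/-- The value of a map `h_{T₁} ⟶ F` on a morphism. -/
theorem yE_app {F : Sp S} {T₁ T₂ : Over S} (ξ : (yon S).obj T₁ ⟶ F) (a : T₂ ⟶ T₁) :
    ξ.hom.app (op T₂) (⟨a⟩ : ((yon S).obj T₁).obj.obj (op T₂)) = F.obj.map a.op (yE ξ) := by
  rw [← yE_map_comp]
  have : yE ((yon S).map a ≫ ξ) = ξ.hom.app (op T₂) (((yon S).map a).hom.app (op T₂)
      (⟨𝟙 T₂⟩ : ((yon S).obj T₂).obj.obj (op T₂))) := rfl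
  rw [this]
  refine congrArg (ξ.hom.app (op T₂)) ?_
  exact congrArg ULift.up (Category.id_comp a).symm

theorem Pt.hom_app {T₁ T₂ : Over S} (ξ : Pt c w T₁) (a : T₂ ⟶ T₁) :
    ξ.hom.hom.app (op T₂) (⟨a⟩ : ((yon S).obj T₁).obj.obj (op T₂)) = (ξ.res a : (Res c w).obj.obj (op T₂)) := by
  rw [yE_app, yE_hom]
  rfl

open K598.Site in
theorem yon_map_hom {T₁ T₂ : Over S} (ξ : Pt c w T₁) (a : T₂ ⟶ T₁) : (yon S).map a ≫ ξ.hom = (ξ.res a).hom := by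
  apply yE.injective
  rw [yE_map_comp, yE_hom, yE_hom]
  rfl

open K598.Site in
theorem Pt.hom_π {T₁ : Over S} (ξ : Pt c w T₁) : ξ.hom ≫ π c w = (yon S).map ξ.t := by
  apply yE.injective
  rw [yE_comp, yE_hom]
  exact congrArg ULift.up (Category.id_comp ξ.t).symm

open K598.Site in
theorem Pt.hom_map {W' : Sp S} {w' : W' ⟶ (yon S).obj Z} (f : W ⟶ W') (hf : f ≫ w' = w) {T₁ : Over S} (ξ : Pt c w T₁) :
    ξ.hom ≫ Wr.map c f hf = (ξ.map f hf).hom := by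
  apply yE.injective
  rw [yE_comp, yE_hom, yE_hom]
  rfl

/-! ### points from pullback squares -/

section sq

variable {T₁ Z₁ : Over S} {p : Z₁ ⟶ T₁} {q : Z₁ ⟶ Z} {t : T₁ ⟶ T}

/-- The point attached to a section over an arbitrary fibre product. -/
noncomputable def Pt.mk' (sq : IsPullback p q t c) (s : W.obj.obj (op Z₁))
    (hs : w.hom.app (op Z₁) s = (⟨q⟩ : ((yon S).obj Z).obj.obj (op Z₁))) : Pt c w T₁ where
  t := t
  F a b h := W.obj.map (sq.lift a b h).op s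
  w_F {T₂} a b h := by
    rw [NatTrans.naturality_apply, hs]
    exact congrArg ULift.up (sq.lift_snd a b h)
  nat {T₂ T₃} g a b h := by
    rw [← Functor.map_comp_apply, ← op_comp]
    have : g ≫ sq.lift a b h = sq.lift (g ≫ a) (g ≫ b) (by rw [Category.assoc, h, Category.assoc]) := by
      apply sq.hom_ext <;> simp
    rw [this]

theorem Pt.mk'_F (sq : IsPullback p q t c) (s : W.obj.obj (op Z₁))
    (hs : w.hom.app (op Z₁) s = (⟨q⟩ : ((yon S).obj Z).obj.obj (op Z₁))) {T₂ : Over S} (a : T₂ ⟶ T₁) (b : T₂ ⟶ Z)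
    (h : a ≫ t = b ≫ c) : (Pt.mk' sq s hs).F a b h = W.obj.map (sq.lift a b h).op s := rfl

theorem Pt.mk'_F_self (sq : IsPullback p q t c) (s : W.obj.obj (op Z₁))
    (hs : w.hom.app (op Z₁) s = (⟨q⟩ : ((yon S).obj Z).obj.obj (op Z₁))) : (Pt.mk' sq s hs).F p q sq.w = s := by
  rw [Pt.mk'_F]
  have : sq.lift p q sq.w = 𝟙 _ := by apply sq.hom_ext <;> simp
  rw [this, op_id, Functor.map_id_apply]

/-- A point is determined by its value on one fibre product. -/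
theorem Pt.F_eq {x : Pt c w T₁} (sq : IsPullback p q x.t c) {T₂ : Over S} (a : T₂ ⟶ T₁) (b : T₂ ⟶ Z)
    (h : a ≫ x.t = b ≫ c) : x.F a b h = W.obj.map (sq.lift a b h).op (x.F p q sq.w) := by
  rw [Pt.nat]
  exact Pt.F_congr rfl _ _ _ _ (sq.lift_fst _ _ _).symm (sq.lift_snd _ _ _).symm _ _

theorem Pt.eq_of_sq {x y : Pt c w T₁} (sq : IsPullback p q x.t c) (h : x.t = y.t)
    (h' : x.F p q sq.w = y.F p q (by rw [← h]; exact sq.w)) : x = y := by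
  refine Pt.ext h fun a b h1 h2 => ?_
  have sq' : IsPullback p q y.t c := by rw [← h]; exact sq
  have e : sq.lift a b h1 = sq'.lift a b h2 := by apply sq.hom_ext <;> simp
  rw [Pt.F_eq sq a b h1, Pt.F_eq sq' a b h2, h', e]

theorem Pt.exists_mk' (x : Pt c w T₁) (sq : IsPullback p q x.t c) :
    ∃ (s : W.obj.obj (op Z₁)) (hs : w.hom.app (op Z₁) s = (⟨q⟩ : ((yon S).obj Z).obj.obj (op Z₁))), x = Pt.mk' sq s hs :=
  ⟨x.F p q sq.w, x.w_F _ _ _, Pt.eq_of_sq sq rfl (Pt.mk'_F_self sq _ _).symm⟩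

end sq

end K893.Wr
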