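import Groth.Agent.Gerb.K893.Wr2
import Groth.Agent.AlgSt.K746.AffFin
import Groth.Agent.WeilRes.K933.WRFinite
import Groth.Agent.AlgSp.K598.RepKit
import Groth.Agent.AlgSp.K609.Slice

/-!
# Weil restriction: representability by schemes

`AF X`: every finite set of points of `X` lies in an affine open.
-/

set_option autoImplicit false
set_option backward.isDefEq.respectTransparency false
set_option backward.isDefEq.respectTransparency.types false
universe u
open CategoryTheory CategoryTheory.Limits AlgebraicGeometry Opposite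

namespace K893.Wr

open AlgSp K598.Site

/-- Every finite set of points is contained in an affine open. -/
def AF (X : Scheme.{u}) : Prop := ∀ E : Set X, E.Finite → ∃ O : X.Opens, IsAffineOpen O ∧ E ⊆ (O : Set X)

theorem AF.of_map {X Y : Scheme.{u}} (hY : AF Y) (f : X ⟶ Y) [IsSeparated f] [LocallyQuasiFinite f]
    [LocallyOfFiniteType f] : AF X := by
  intro E hE
  obtain ⟨O, hO, hEO⟩ := hY (f '' E) (hE.image _)
  obtain ⟨W, hW, hEW, -⟩ := K746.AffFin.exists_isAffineOpen_over f E hE O hO (fun x hx => hEO ⟨x, hx, rfl⟩)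
  exact ⟨W, hW, hEW⟩

theorem AF_of_isAffine (X : Scheme.{u}) [IsAffine X] : AF X := fun E _ =>
  ⟨⊤, isAffineOpen_top X, Set.subset_univ _⟩

theorem AF.prod {Y A : Scheme.{u}} (hY : AF Y) [IsAffine A] : AF (pullback (terminal.from Y) (terminal.from A)) := by
  intro E hE
  have hA : IsAffineHom (terminal.from A) := inferInstance
  have : IsAffineHom (pullback.fst (terminal.from Y) (terminal.from A)) :=
    MorphismProperty.pullback_fst _ _ hA
  obtain ⟨O, hO, hEO⟩ := hY (pullback.fst (terminal.from Y) (terminal.from A) '' E) (hE.image _)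
  exact ⟨pullback.fst (terminal.from Y) (terminal.from A) ⁻¹ᵁ O, hO.preimage _, fun x hx => hEO ⟨x, hx, rfl⟩⟩

/-- A scheme with a joint monomorphism to `Y` (with `AF`) and an affine scheme, locally of finite type over the
latter, has `AF`. -/
theorem AF.of_jointly_mono {E Y A : Scheme.{u}} (e₁ : E ⟶ Y) (e₂ : E ⟶ A) (hY : AF Y) [IsAffine A]
    [LocallyOfFiniteType e₂] (hm : ∀ {X : Scheme.{u}} (k l : X ⟶ E), k ≫ e₁ = l ≫ e₁ → k ≫ e₂ = l ≫ e₂ → k = l) :
    AF E := by
  let f : E ⟶ pullback (terminal.from Y) (terminal.from A) := pullback.lift e₁ e₂ (Subsingleton.elim _ _)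
  have hf1 : f ≫ pullback.fst _ _ = e₁ := pullback.lift_fst _ _ _
  have hf2 : f ≫ pullback.snd _ _ = e₂ := pullback.lift_snd _ _ _
  have : Mono f := ⟨fun k l h => hm k l (by rw [← hf1, ← Category.assoc, h, Category.assoc])
    (by rw [← hf2, ← Category.assoc, h, Category.assoc])⟩
  have : LocallyOfFiniteType (f ≫ pullback.snd (terminal.from Y) (terminal.from A)) := by rw [hf2]; infer_instance
  have : LocallyOfFiniteType f := locallyOfFiniteType_of_comp f (pullback.snd (terminal.from Y) (terminal.from A))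
  have : LocallyQuasiFinite f := inferInstance
  exact hY.prod.of_map f

/-- Every scheme is covered by a disjoint union of affine schemes. -/
theorem exists_AF_cover (X : Scheme.{u}) : ∃ (Y : Scheme.{u}) (f : Y ⟶ X), AF Y ∧ Etale f ∧ Surjective f := by
  let R : X.affineOpens → CommRingCat.{u} := fun V => Γ(X, V.1)
  let g : ∀ V : X.affineOpens, Spec (R V) ⟶ X := fun V => V.2.fromSpec
  refine ⟨∐ fun V => Spec (R V), Sigma.desc g, ?_, ?_, ⟨fun x => ?_⟩⟩
  · exact (AF_of_isAffine _).of_map (sigmaSpec R)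
  · have : IsZariskiLocalAtSource @Etale.{u} := HasRingHomProperty.instIsZariskiLocalAtSource
    refine (IsZariskiLocalAtSource.sigmaDesc (P := @Etale) (f := g) fun V => ?_)
    have : IsOpenImmersion (g V) := inferInstanceAs (IsOpenImmersion V.2.fromSpec)
    infer_instance
  · obtain ⟨_, ⟨W, hW, rfl⟩, hu, -⟩ := X.isBasis_affineOpens.exists_subset_of_mem_open (Set.mem_univ x) isOpen_univ
    have : x ∈ Set.range hW.fromSpec := by rw [hW.range_fromSpec]; exact hu
    obtain ⟨y, hy⟩ := this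
    refine ⟨Sigma.ι (fun V => Spec (R V)) ⟨W, hW⟩ y, ?_⟩
    rw [← Scheme.Hom.comp_apply, Sigma.ι_desc]
    exact hy

section rep

variable {S : Scheme.{u}} {Z₁ T₁ E : Over S} (c₁ : Z₁ ⟶ T₁) (e : E ⟶ Z₁)

/-- The fibre product of `t : X ⟶ T₁` with `c₁`, as a scheme over `S`. -/
noncomputable def bcO {X : Over S} (t : X ⟶ T₁) : Over S :=
  Over.mk ((Red.bc c₁.left (Over.mk t.left)).hom ≫ Z₁.hom)

noncomputable def bcP {X : Over S} (t : X ⟶ T₁) : bcO c₁ t ⟶ X :=
  Over.homMk (pullback.fst t.left c₁.left) (by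
    have h1 : pullback.fst t.left c₁.left ≫ t.left = pullback.snd t.left c₁.left ≫ c₁.left := pullback.condition
    change pullback.fst t.left c₁.left ≫ X.hom = pullback.snd t.left c₁.left ≫ Z₁.hom
    rw [← Over.w t, ← Over.w c₁, ← Category.assoc, h1, Category.assoc])

noncomputable def bcQ {X : Over S} (t : X ⟶ T₁) : bcO c₁ t ⟶ Z₁ :=
  Over.homMk (pullback.snd t.left c₁.left) rfl

theorem isPullback_of_left {A B C D : Over S} {a : A ⟶ B} {b : A ⟶ C} {f : B ⟶ D} {g : C ⟶ D}
    (h : IsPullback a.left b.left f.left g.left) : IsPullback a b f g :=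
  IsPullback.of_map (Over.forget S) (Over.OverMorphism.ext h.w) h

theorem bc_sq {X : Over S} (t : X ⟶ T₁) : IsPullback (bcP c₁ t) (bcQ c₁ t) t c₁ :=
  isPullback_of_left (IsPullback.of_hasPullback t.left c₁.left)

variable {e} in
/-- A morphism over `Z₁` as a morphism over `S`. -/
noncomputable def lowHom {X : Over S} (t : X ⟶ T₁) (m : Red.bc c₁.left (Over.mk t.left) ⟶ Over.mk e.left) :
    bcO c₁ t ⟶ E :=
  Over.homMk m.left (by
    have := Over.w m
    change m.left ≫ E.hom = (Red.bc c₁.left (Over.mk t.left)).hom ≫ Z₁.hom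
    rw [← Over.w e, ← Category.assoc]
    exact congrArg (· ≫ Z₁.hom) this)

variable {e} in
theorem lowHom_comp {X : Over S} (t : X ⟶ T₁) (m : Red.bc c₁.left (Over.mk t.left) ⟶ Over.mk e.left) :
    lowHom c₁ t m ≫ e = bcQ c₁ t := Over.OverMorphism.ext (Over.w m)

variable {e} in
/-- The point attached to a morphism over `Z₁`. -/
noncomputable def ofHom {X : Over S} (t : X ⟶ T₁) (m : Red.bc c₁.left (Over.mk t.left) ⟶ Over.mk e.left) :
    Pt c₁ ((yon S).map e) X :=
  Pt.mk' (bc_sq c₁ t) (⟨lowHom c₁ t m⟩ : ((yon S).obj E).obj.obj (op (bcO c₁ t))) (congrArg ULift.up (lowHom_comp c₁ t m))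

variable {e} in
theorem ofHom_injective {X : Over S} (t : X ⟶ T₁) {m m' : Red.bc c₁.left (Over.mk t.left) ⟶ Over.mk e.left}
    (h : ofHom c₁ t m = ofHom c₁ t m') : m = m' := by
  have h1 := Pt.F_congr h (bcP c₁ t) (bcP c₁ t) (bcQ c₁ t) (bcQ c₁ t) rfl rfl (bc_sq c₁ t).w (bc_sq c₁ t).w
  have h2 := (Pt.mk'_F_self (bc_sq c₁ t) _ (congrArg ULift.up (lowHom_comp c₁ t m))).symm.trans
    (h1.trans (Pt.mk'_F_self (bc_sq c₁ t) _ (congrArg ULift.up (lowHom_comp c₁ t m'))))
  ext1
  exact congrArg (fun k => k.left) (congrArg ULift.down h2)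

variable {e} in
theorem exists_ofHom {X : Over S} (x : Pt c₁ ((yon S).map e) X) :
    ∃ m : Red.bc c₁.left (Over.mk x.t.left) ⟶ Over.mk e.left, x = ofHom c₁ x.t m := by
  obtain ⟨⟨s⟩, hs, hx⟩ := x.exists_mk' (bc_sq c₁ x.t)
  have hs' : s ≫ e = bcQ c₁ x.t := congrArg ULift.down hs
  refine ⟨Over.homMk s.left (congrArg (fun k => k.left) hs'), ?_⟩
  have : lowHom c₁ x.t (Over.homMk s.left (congrArg (fun k => k.left) hs')) = s := Over.OverMorphism.ext rfl
  conv_lhs => rw [hx]
  unfold ofHom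
  congr 1

theorem exists_rep_of_isWeilRes {R₀ : Over T₁.left} {q : Red.bc c₁.left R₀ ⟶ Over.mk e.left}
    (h : WeilRes.IsWeilRes c₁.left (Over.mk e.left) R₀ q) :
    ∃ R : Over S, Nonempty ((yon S).obj R ≅ Res c₁ ((yon S).map e)) := by
  let R : Over S := Over.mk (R₀.hom ≫ T₁.hom)
  let r : R ⟶ T₁ := Over.homMk R₀.hom rfl
  let ρ : Pt c₁ ((yon S).map e) R := ofHom c₁ r q
  have key : ∀ {X : Over S} (g : X ⟶ R) (t : X ⟶ T₁) (ht : g ≫ r = t) (g₀ : Over.mk t.left ⟶ R₀), g₀.left = g.left →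
      ρ.res g = ofHom c₁ t (WeilRes.restr c₁.left q _ g₀) := by
    intro X g t ht g₀ hg
    subst ht
    refine Pt.eq_of_sq (bc_sq c₁ (g ≫ r)) rfl ?_
    refine Eq.trans ?_ (Pt.mk'_F_self (bc_sq c₁ (g ≫ r)) _ (congrArg ULift.up (lowHom_comp c₁ (g ≫ r) _))).symm
    have hw : (bcP c₁ (g ≫ r) ≫ g) ≫ r = bcQ c₁ (g ≫ r) ≫ c₁ := by
      rw [Category.assoc, (bc_sq c₁ (g ≫ r)).w]
    suffices hs : (bc_sq c₁ r).lift (bcP c₁ (g ≫ r) ≫ g) (bcQ c₁ (g ≫ r)) hw ≫ lowHom c₁ r q =
        lowHom c₁ (g ≫ r) (WeilRes.restr c₁.left q _ g₀) from congrArg ULift.up hs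
    apply Over.OverMorphism.ext
    change ((bc_sq c₁ r).lift (bcP c₁ (g ≫ r) ≫ g) (bcQ c₁ (g ≫ r)) hw ≫ lowHom c₁ r q).left =
      ((Over.pullback c₁.left).map g₀).left ≫ q.left
    rw [Over.comp_left]
    refine congrArg (· ≫ q.left) ?_
    apply pullback.hom_ext
    · have h1 := congrArg (fun k => k.left) ((bc_sq c₁ r).lift_fst (bcP c₁ (g ≫ r) ≫ g) (bcQ c₁ (g ≫ r)) (by
        rw [Category.assoc, (bc_sq c₁ (g ≫ r)).w]))
      refine h1.trans ?_
      simp [Over.pullback, hg, bcP]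
      exact (pullback.lift_fst _ _ _).symm
    · have h1 := congrArg (fun k => k.left) ((bc_sq c₁ r).lift_snd (bcP c₁ (g ≫ r) ≫ g) (bcQ c₁ (g ≫ r)) (by
        rw [Category.assoc, (bc_sq c₁ (g ≫ r)).w]))
      refine h1.trans ?_
      simp [Over.pullback, bcQ]
      exact (pullback.lift_snd _ _ _).symm
  have hiso : IsIso ρ.hom := by
    refine K609.Slice.isIso_of_bijective _ fun X => ⟨?_, ?_⟩
    · rintro ⟨g⟩ ⟨g'⟩ hgg
      obtain ⟨g, rfl⟩ : ∃ k : X ⟶ R, k = g := ⟨g, rfl⟩
      obtain ⟨g', rfl⟩ : ∃ k : X ⟶ R, k = g' := ⟨g', rfl⟩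
      have h1 : ρ.res g = ρ.res g' := (Pt.hom_app ρ g).symm.trans (hgg.trans (Pt.hom_app ρ g'))
      have ht : g' ≫ r = g ≫ r := (congrArg Pt.t h1).symm
      have h2 := key g (g ≫ r) rfl (Over.homMk g.left rfl) rfl
      have h3 := key g' (g ≫ r) ht (Over.homMk g'.left (congrArg (fun k => k.left) ht)) rfl
      have h4 := (h _).1 (ofHom_injective c₁ _ (h2.symm.trans (h1.trans h3)))
      exact congrArg ULift.up (Over.OverMorphism.ext (congrArg (fun k => k.left) h4))
    · intro x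
      obtain ⟨x, rfl⟩ : ∃ k : Pt c₁ ((yon S).map e) X, k = x := ⟨x, rfl⟩
      obtain ⟨m, hm⟩ := exists_ofHom c₁ x
      obtain ⟨g₀, rfl⟩ := (h _).2 m
      let g : X ⟶ R := Over.homMk g₀.left (by
        change g₀.left ≫ R₀.hom ≫ T₁.hom = _
        rw [← Category.assoc, Over.w g₀]
        exact Over.w x.t)
      refine ⟨(⟨g⟩ : ((yon S).obj R).obj.obj (op X)), ?_⟩
      rw [Pt.hom_app]
      refine (key g x.t (Over.OverMorphism.ext (Over.w g₀)) g₀ rfl).trans hm.symm
  exact ⟨R, ⟨asIso ρ.hom⟩⟩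

/-- **Representability**: if every finite set of points of `E` lies in an affine open, then the Weil restriction of
`E ⟶ Z₁` along the finite locally free `Z₁ ⟶ T₁` is a scheme. -/
theorem exists_rep [IsFinite c₁.left] [Flat c₁.left] [LocallyOfFinitePresentation c₁.left] (hE : AF E.left) :
    ∃ R : Over S, Nonempty ((yon S).obj R ≅ Res c₁ ((yon S).map e)) := by
  obtain ⟨R₀, ⟨ρ⟩⟩ := K933.WRFinite.exists_representableBy_of_finite c₁.left (Over.mk e.left) (by
    intro V V' v v' f' sq hv T y t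
    have hv' : IsOpenImmersion v' := MorphismProperty.of_isPullback sq hv
    have hf' : IsFinite f' := MorphismProperty.of_isPullback sq.flip ‹IsFinite c₁.left›
    have hAF : AF ((Over.pullback v').obj (Over.mk e.left)).left :=
      hE.of_map (pullback.fst e.left v' : pullback e.left v' ⟶ E.left)
    have hfst : IsFinite (pullback.fst T.hom f') := inferInstance
    have hfin : ((pullback.fst T.hom f') ⁻¹' {t}).Finite := Scheme.Hom.finite_preimage_singleton _ t
    obtain ⟨O, hO, hsub⟩ := hAF (y.left '' ((pullback.fst T.hom f') ⁻¹' {t})) (hfin.image _)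
    exact ⟨O, hO, fun z hz => hsub ⟨z, hz, rfl⟩⟩)
  exact exists_rep_of_isWeilRes c₁ e (WeilRes.IsWeilRes.of_representableBy (f := c₁.left) ρ)

end rep

end K893.Wr
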