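import Groth.Agent.Gerb.K893.Wr3
import Groth.Agent.AlgSp.K635.Formal
import Groth.Agent.AlgSp.K635.Thick

/-!
# Weil restriction: infinitesimal lifting

If `f : W ⟶ W'` over `h_Z` is formally smooth (unramified, etale) and `c : Z ⟶ T` is affine, then so is `Res f`.
-/

set_option autoImplicit false
universe u
open CategoryTheory CategoryTheory.Limits AlgebraicGeometry Opposite

namespace K893.Wr

open AlgSp K598.Site K635.Formal K635.InfLift K635.Thick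

variable {S : Scheme.{u}} {Z T : Over S} {c : Z ⟶ T} {W W' : Sp S} {w : W ⟶ (yon S).obj Z}
  {w' : W' ⟶ (yon S).obj Z} {f : W ⟶ W'} {hf : f ≫ w' = w}

/-- The map on fibre products induced by `j : T₁ ⟶ T₂` is a base change of `j`. -/
theorem isPullback_lift {T₁ T₂ Z₁ Z₂ : Over S} {j : T₁ ⟶ T₂} {t₁ : T₁ ⟶ T} {t₂ : T₂ ⟶ T} (ht : t₁ = j ≫ t₂)
    {p₁ : Z₁ ⟶ T₁} {q₁ : Z₁ ⟶ Z} {p₂ : Z₂ ⟶ T₂} {q₂ : Z₂ ⟶ Z} (sq₁ : IsPullback p₁ q₁ t₁ c)
    (sq₂ : IsPullback p₂ q₂ t₂ c) (hw : (p₁ ≫ j) ≫ t₂ = q₁ ≫ c) :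
    IsPullback (sq₂.lift (p₁ ≫ j) q₁ hw) p₁ p₂ j := by
  subst ht
  have h1 : IsPullback (sq₂.lift (p₁ ≫ j) q₁ hw ≫ q₂) p₁ c (j ≫ t₂) := by
    rw [sq₂.lift_snd]
    exact sq₁.flip
  exact IsPullback.of_right h1 (sq₂.lift_fst _ _ _) sq₂.flip

theorem nthick_of_isPullback {n : ℕ} {A B C D : Over S} {a : A ⟶ B} {b : A ⟶ C} {g : B ⟶ D} {h : C ⟶ D}
    (sq : IsPullback a b g h) (hh : nthick n h.left) : nthick n a.left :=
  MorphismProperty.of_isPullback (isPullback_left sq).flip hh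

theorem isAffine_of_sq (hc : IsAffineHom c.left) {T₁ Z₁ : Over S} {t : T₁ ⟶ T} {p : Z₁ ⟶ T₁} {q : Z₁ ⟶ Z}
    (sq : IsPullback p q t c) (hT : IsAffine T₁.left) : IsAffine Z₁.left := by
  have : IsAffineHom p.left := MorphismProperty.of_isPullback (isPullback_left sq).flip hc
  exact isAffine_of_isAffineHom p.left

theorem smooth_map (hc : IsAffineHom c.left) (h : IsFormallySmoothMor f) : IsFormallySmoothMor (Wr.map c f hf) :=
  isFormallySmoothMor_of_forall fun T₁ T₂ j hT₂ hj a b wab => by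
    obtain ⟨ξ, rfl⟩ := exists_pt a
    obtain ⟨η, rfl⟩ := exists_pt b
    rw [Pt.hom_map, yon_map_hom] at wab
    have e := Pt.hom_injective wab
    have ht : ξ.t = j ≫ η.t := congrArg Pt.t e
    have sq₁ := bc_sq c ξ.t
    have sq₂ := bc_sq c η.t
    have hw : (bcP c ξ.t ≫ j) ≫ η.t = bcQ c ξ.t ≫ c := by rw [Category.assoc, ← ht, sq₁.w]
    have hk := isPullback_lift ht sq₁ sq₂ hw
    have hkt : MoreMor.IsFirstOrderThickening (sq₂.lift (bcP c ξ.t ≫ j) (bcQ c ξ.t) hw).left :=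
      (nthick_one_iff _).1 (nthick_of_isPullback hk ((nthick_one_iff _).2 hj))
    have := isAffine_of_sq hc sq₂ hT₂
    obtain ⟨l, hl1, hl2⟩ := exists_lift h (sq₂.lift (bcP c ξ.t ≫ j) (bcQ c ξ.t) hw) hkt
      (yE.symm (ξ.F (bcP c ξ.t) (bcQ c ξ.t) sq₁.w)) (yE.symm (η.F (bcP c η.t) (bcQ c η.t) sq₂.w)) (by
        apply yE.injective
        rw [yE_comp, yE_map_comp, Equiv.apply_symm_apply, Equiv.apply_symm_apply, Pt.nat]
        have h1 := Pt.F_congr e (bcP c ξ.t) (bcP c ξ.t) (bcQ c ξ.t) (bcQ c ξ.t) rfl rfl sq₁.w (by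
          rw [Pt.res_t, ← ht, sq₁.w])
        exact h1.trans (Pt.F_congr rfl _ _ _ _ (sq₂.lift_fst _ _ _).symm (sq₂.lift_snd _ _ _).symm _ _))
    have hl2' : f.hom.app _ (yE l) = η.F (bcP c η.t) (bcQ c η.t) sq₂.w := by
      rw [← yE_comp, hl2, Equiv.apply_symm_apply]
    have hwl : w.hom.app _ (yE l) = (⟨bcQ c η.t⟩ : ((yon S).obj Z).obj.obj (op (bcO c η.t))) := by
      have h2 : w.hom.app _ (yE l) = w'.hom.app _ (f.hom.app _ (yE l)) :=
        congrArg (fun k => k.hom.app _ (yE l)) hf.symm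
      rw [h2, hl2', Pt.w_F]
    let ζ : Pt c w T₂ := Pt.mk' sq₂ (yE l) hwl
    refine ⟨ζ.hom, ?_, ?_⟩
    · rw [yon_map_hom]
      refine congrArg Pt.hom (Pt.eq_of_sq (y := ζ.res j) sq₁ ht ?_).symm
      have h3 : W.obj.map (sq₂.lift (bcP c ξ.t ≫ j) (bcQ c ξ.t) hw).op (yE l) = ξ.F (bcP c ξ.t) (bcQ c ξ.t) sq₁.w := by
        rw [← yE_map_comp, hl1, Equiv.apply_symm_apply]
      exact h3.symm
    · rw [Pt.hom_map]
      refine congrArg Pt.hom (Pt.eq_of_sq (x := ζ.map f hf) (y := η) sq₂ rfl ?_)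
      rw [Pt.map_F, Pt.mk'_F_self]
      exact hl2'

theorem unramified_map (hc : IsAffineHom c.left) (h : IsFormallyUnramifiedMor f) :
    IsFormallyUnramifiedMor (Wr.map c f hf) :=
  isFormallyUnramifiedMor_of_forall fun T₁ T₂ j hT₂ hj a b wab wab' => by
    obtain ⟨ξ, rfl⟩ := exists_pt a
    obtain ⟨η, rfl⟩ := exists_pt b
    rw [yon_map_hom, yon_map_hom] at wab
    rw [Pt.hom_map, Pt.hom_map] at wab'
    have e := Pt.hom_injective wab
    have e' := Pt.hom_injective wab'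
    have ht : ξ.t = η.t := congrArg (fun z : Pt c w' T₂ => z.t) e'
    have sq₂ := bc_sq c ξ.t
    have sq₁ := bc_sq c (j ≫ ξ.t)
    have hw : (bcP c (j ≫ ξ.t) ≫ j) ≫ ξ.t = bcQ c (j ≫ ξ.t) ≫ c := by rw [Category.assoc, sq₁.w]
    have hk := isPullback_lift rfl sq₁ sq₂ hw
    have hkt : MoreMor.IsFirstOrderThickening (sq₂.lift (bcP c (j ≫ ξ.t) ≫ j) (bcQ c (j ≫ ξ.t)) hw).left :=
      (nthick_one_iff _).1 (nthick_of_isPullback hk ((nthick_one_iff _).2 hj))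
    have := isAffine_of_sq hc sq₂ hT₂
    have hη : bcP c ξ.t ≫ η.t = bcQ c ξ.t ≫ c := by rw [← ht]; exact sq₂.w
    have hl := lift_unique h (sq₂.lift (bcP c (j ≫ ξ.t) ≫ j) (bcQ c (j ≫ ξ.t)) hw) hkt
      (yE.symm (ξ.F (bcP c ξ.t) (bcQ c ξ.t) sq₂.w)) (yE.symm (η.F (bcP c ξ.t) (bcQ c ξ.t) hη)) (by
        apply yE.injective
        rw [yE_map_comp, yE_map_comp, Equiv.apply_symm_apply, Equiv.apply_symm_apply, Pt.nat, Pt.nat]
        have h1 := Pt.F_congr e (bcP c (j ≫ ξ.t)) (bcP c (j ≫ ξ.t)) (bcQ c (j ≫ ξ.t)) (bcQ c (j ≫ ξ.t)) rfl rfl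
          (by rw [Pt.res_t, sq₁.w]) (by rw [Pt.res_t, ← ht, sq₁.w])
        rw [Pt.res_F, Pt.res_F] at h1
        refine Eq.trans ?_ (h1.trans ?_)
        · exact Pt.F_congr rfl _ _ _ _ (sq₂.lift_fst _ _ _) (sq₂.lift_snd _ _ _) _ _
        · exact Pt.F_congr rfl _ _ _ _ (sq₂.lift_fst _ _ _).symm (sq₂.lift_snd _ _ _).symm _ _) (by
        apply yE.injective
        rw [yE_comp, yE_comp, Equiv.apply_symm_apply, Equiv.apply_symm_apply]
        exact Pt.F_congr e' (bcP c ξ.t) (bcP c ξ.t) (bcQ c ξ.t) (bcQ c ξ.t) rfl rfl sq₂.w hη)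
    refine congrArg Pt.hom (Pt.eq_of_sq sq₂ ht (yE.symm.injective hl))

theorem etale_map (hc : IsAffineHom c.left) (h : IsFormallyEtaleMor f) : IsFormallyEtaleMor (Wr.map c f hf) :=
  isFormallyEtaleMor_iff.2 ⟨smooth_map hc (smooth_of_etale h), unramified_map hc (unramified_of_etale h)⟩

theorem etale_of_isIso {F G : Sp S} (g : F ⟶ G) [IsIso g] : IsFormallyEtaleMor g :=
  isFormallyEtaleMor_of_forall fun T₁ T₂ j _ hj a b wab => by
    refine ⟨b ≫ inv g, ⟨?_, by simp⟩, fun l hl => ?_⟩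
    · rw [← Category.assoc, ← wab, Category.assoc, IsIso.hom_inv_id, Category.comp_id]
    · rw [← hl.2, Category.assoc, IsIso.hom_inv_id, Category.comp_id]

theorem smooth_π (hc : IsAffineHom c.left) (h : IsFormallySmoothMor w) : IsFormallySmoothMor (π c w) := by
  have h1 : π c w = Wr.map c w (Category.comp_id w) ≫ π c (𝟙 _) := rfl
  rw [h1]
  exact comp_smooth (smooth_map hc h) (smooth_of_etale (etale_of_isIso _))

theorem unramified_π (hc : IsAffineHom c.left) (h : IsFormallyUnramifiedMor w) : IsFormallyUnramifiedMor (π c w) := by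
  have h1 : π c w = Wr.map c w (Category.comp_id w) ≫ π c (𝟙 _) := rfl
  rw [h1]
  exact comp_unramified (unramified_map hc h) (unramified_of_etale (etale_of_isIso _))

theorem etale_π (hc : IsAffineHom c.left) (h : IsFormallyEtaleMor w) : IsFormallyEtaleMor (π c w) :=
  isFormallyEtaleMor_iff.2 ⟨smooth_π hc (smooth_of_etale h), unramified_π hc (unramified_of_etale h)⟩

end K893.Wr
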