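import Groth.Agent.Gerb.K893.Wr4
import Groth.Prelude.Def_AlgSpRep

/-!
# Weil restriction: limit preserving

If `w : W ⟶ h_Z` is limit preserving and `c : Z ⟶ T` is affine then `π : Res c w ⟶ h_T` is limit preserving.
-/

set_option autoImplicit false
set_option backward.isDefEq.respectTransparency false
set_option backward.isDefEq.respectTransparency.types false
universe u
open CategoryTheory CategoryTheory.Limits AlgebraicGeometry Opposite

namespace K893.Wr

open AlgSp K598.Site

attribute [local instance] IsCofiltered.isConnected in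
theorem isLimitPreserving_pullback {X Y : Scheme.{u}} (f : Y ⟶ X) [IsAffineHom f] (F : PSp Y)
    (hF : IsLimitPreserving F) : IsLimitPreserving ((Over.pullback f).op ⋙ F) := by
  intro I _ _ D s hs hD hT
  have h1 : IsLimit s := isLimitOfReflects (Over.forget X) hs
  have : (Over.pullback f).IsRightAdjoint := (Over.mapPullbackAdj f).isRightAdjoint
  have h2 : IsLimit ((Over.pullback f).mapCone s) := isLimitOfPreserves (Over.pullback f) h1
  have h3 : IsLimit ((Over.forget Y).mapCone ((Over.pullback f).mapCone s)) := isLimitOfPreserves (Over.forget Y) h2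
  have haff : ∀ T : Over X, IsAffine T.left → IsAffine ((Over.pullback f).obj T).left := fun T hT => by
    have : IsAffineHom (pullback.fst T.hom f) := MorphismProperty.pullback_fst _ _ ‹IsAffineHom f›
    exact isAffine_of_isAffineHom (pullback.fst T.hom f)
  obtain ⟨hcol⟩ := hF (D ⋙ Over.pullback f) ((Over.pullback f).mapCone s) h3 (fun i => haff _ (hD i)) (haff _ hT)
  exact ⟨hcol⟩

section fib

variable {S : Scheme.{u}} {Z T : Over S} {c : Z ⟶ T} {W : Sp S} {w : W ⟶ (yon S).obj Z} {T₁ : Over S} (t₀ : T₁ ⟶ T)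

/-- The projection of the base change. -/
noncomputable def fr (c : Z ⟶ T) (X : Over T₁.left) :
    (Over.map (bcO c t₀).hom).obj ((Over.pullback (bcP c t₀).left).obj X) ⟶ (Over.map T₁.hom).obj X :=
  Over.homMk (pullback.fst X.hom (bcP c t₀).left) (by
    have h1 : pullback.fst X.hom (bcP c t₀).left ≫ X.hom = pullback.snd X.hom (bcP c t₀).left ≫ (bcP c t₀).left :=
      pullback.condition
    have h2 : (bcP c t₀).left ≫ T₁.hom = (bcO c t₀).hom := Over.w _
    change pullback.fst X.hom (bcP c t₀).left ≫ X.hom ≫ T₁.hom = pullback.snd X.hom (bcP c t₀).left ≫ (bcO c t₀).hom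
    rw [← h2, ← Category.assoc, h1, Category.assoc])

theorem fsq (c : Z ⟶ T) (X : Over T₁.left) : IsPullback (fr t₀ c X)
    (overHom (bcO c t₀) ((Over.pullback (bcP c t₀).left).obj X) ≫ bcQ c t₀) (overHom T₁ X ≫ t₀) c := by
  have h1 : IsPullback (fr t₀ c X) (overHom (bcO c t₀) ((Over.pullback (bcP c t₀).left).obj X)) (overHom T₁ X)
      (bcP c t₀) := isPullback_of_left (IsPullback.of_hasPullback X.hom (bcP c t₀).left)
  exact (h1.flip.paste_horiz (bc_sq c t₀).flip).flip

variable (c w) in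
/-- Sections of the fibre functor of `π`. -/
noncomputable def fibEquiv (X : (Over T₁.left)ᵒᵖ) :
    (fiberFun (π c w).hom T₁ (⟨t₀⟩ : ((yon S).obj T).obj.obj (op T₁))).obj X ≃
      ((Over.pullback (bcP c t₀).left).op ⋙
        fiberFun w.hom (bcO c t₀) (⟨bcQ c t₀⟩ : ((yon S).obj Z).obj.obj (op (bcO c t₀)))).obj X where
  toFun x := ⟨Pt.F (c := c) (w := w) x.1 (fr t₀ c X.unop)
      (overHom (bcO c t₀) ((Over.pullback (bcP c t₀).left).obj X.unop) ≫ bcQ c t₀) (by
        have h1 : Pt.t (c := c) (w := w) x.1 = overHom T₁ X.unop ≫ t₀ := congrArg ULift.down x.2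
        rw [h1]
        exact (fsq t₀ c X.unop).w), Pt.w_F _ _ _ _⟩
  invFun s := ⟨Pt.mk' (fsq t₀ c X.unop) s.1 s.2, rfl⟩
  left_inv x := by
    apply Subtype.ext
    have h1 : Pt.t (c := c) (w := w) x.1 = overHom T₁ X.unop ≫ t₀ := congrArg ULift.down x.2
    refine Pt.eq_of_sq (c := c) (w := w) (fsq t₀ c X.unop) h1.symm ?_
    exact Pt.mk'_F_self (fsq t₀ c X.unop) _ (Pt.w_F (c := c) (w := w) x.1 (fr t₀ c X.unop)
      (overHom (bcO c t₀) ((Over.pullback (bcP c t₀).left).obj X.unop) ≫ bcQ c t₀) (by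
        rw [h1]
        exact (fsq t₀ c X.unop).w))
  right_inv s := Subtype.ext (Pt.mk'_F_self (fsq t₀ c X.unop) s.1 s.2)

theorem fiber_nat {X₁ X₂ : Over T₁.left} (g : X₂ ⟶ X₁) :
    (Over.map (bcO c t₀).hom).map ((Over.pullback (bcP c t₀).left).map g) ≫ fr t₀ c X₁ =
      fr t₀ c X₂ ≫ (Over.map T₁.hom).map g := by
  apply Over.OverMorphism.ext
  exact pullback.lift_fst _ _ _

variable (c w) in
noncomputable def fibIso : fiberFun (π c w).hom T₁ (⟨t₀⟩ : ((yon S).obj T).obj.obj (op T₁)) ≅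
      (Over.pullback (bcP c t₀).left).op ⋙
        fiberFun w.hom (bcO c t₀) (⟨bcQ c t₀⟩ : ((yon S).obj Z).obj.obj (op (bcO c t₀))) :=
  NatIso.ofComponents (fun X => (fibEquiv c w t₀ X).toIso) (by
    intro X₁ X₂ g
    ext x
    apply Subtype.ext
    have h1 : Pt.t (c := c) (w := w) x.1 = overHom T₁ X₁.unop ≫ t₀ := congrArg ULift.down x.2
    have e1 : fr t₀ c X₁.unop ≫ Pt.t (c := c) (w := w) x.1 =
        (overHom (bcO c t₀) ((Over.pullback (bcP c t₀).left).obj X₁.unop) ≫ bcQ c t₀) ≫ c := by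
      rw [h1]
      exact (fsq t₀ c X₁.unop).w
    have e2 : fr t₀ c X₂.unop ≫ (Pt.res (c := c) (w := w) ((Over.map T₁.hom).map g.unop) x.1).t =
        (overHom (bcO c t₀) ((Over.pullback (bcP c t₀).left).obj X₂.unop) ≫ bcQ c t₀) ≫ c := by
      rw [Pt.res_t, h1, ← Category.assoc ((Over.map T₁.hom).map g.unop), map_comp_overHom]
      exact (fsq t₀ c X₂.unop).w
    change Pt.F (c := c) (w := w) (Pt.res ((Over.map T₁.hom).map g.unop) x.1) (fr t₀ c X₂.unop)
      (overHom (bcO c t₀) ((Over.pullback (bcP c t₀).left).obj X₂.unop) ≫ bcQ c t₀) e2 =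
        W.obj.map ((Over.map (bcO c t₀).hom).map ((Over.pullback (bcP c t₀).left).map g.unop)).op
          (Pt.F (c := c) (w := w) x.1 (fr t₀ c X₁.unop)
            (overHom (bcO c t₀) ((Over.pullback (bcP c t₀).left).obj X₁.unop) ≫ bcQ c t₀) e1)
    rw [Pt.nat, Pt.res_F]
    refine Pt.F_congr rfl _ _ _ _ (fiber_nat t₀ g.unop).symm ?_ _ _
    rw [← Category.assoc, map_comp_overHom])

variable (c w) in
/-- **The Weil restriction of a limit preserving map is limit preserving.** -/
theorem isRelLimitPreserving_π [IsAffineHom c.left] (hw : IsRelLimitPreserving w.hom) :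
    IsRelLimitPreserving (π c w).hom := by
  rintro T₁ ⟨t₀⟩
  have : IsAffineHom (bcP c t₀).left := MorphismProperty.of_isPullback
    (K635.Thick.isPullback_left (bc_sq c t₀)).flip ‹IsAffineHom c.left›
  exact (isLimitPreserving_pullback (bcP c t₀).left _ (hw (bcO c t₀) _)).of_iso (fibIso c w t₀).symm

end fib

end K893.Wr
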