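import Groth.Agent.Gerb.K893.Wr5
import Groth.Agent.AlgSt.K742.QCTop
import Groth.Agent.GrpSch.K269.FinSec
import Groth.Agent.AlgSp.K601.RelLimSp
import Groth.Agent.AlgSp.K635.EtCrit
import Groth.Agent.AlgSp.K628.ZarRep
import Groth.Agent.AlgSp.K606.Boot3
import Groth.Agent.AlgSt.K741.Desc
import Groth.Agent.AlgSt.K742.Nice

/-!
# Weil restriction of algebraic spaces along finite locally free morphisms
-/

set_option autoImplicit false
universe u
open CategoryTheory CategoryTheory.Limits AlgebraicGeometry Opposite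

namespace K893.Wr

open AlgSp K598.Site

/-- A smooth surjective morphism onto a finite scheme over an algebraically closed field has a section. -/
theorem exists_section_fin {k : Type u} [Field k] [IsAlgClosed k] {Z E : Scheme.{u}}
    (p : Z ⟶ Spec (CommRingCat.of k)) [IsFinite p] (f : E ⟶ Z) [Smooth f] [Surjective f] :
    ∃ s : Z ⟶ E, s ≫ f = 𝟙 Z := by
  have hZ : IsAffine Z := isAffine_of_isAffineHom p
  obtain ⟨φ, hφ⟩ := Spec.map_surjective (Z.isoSpec.inv ≫ p)
  let _ : Algebra k Γ(Z, ⊤) := φ.hom.toAlgebra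
  have hfin : IsFinite (Spec.map φ) := by rw [hφ]; infer_instance
  have hfin' : Module.Finite k Γ(Z, ⊤) := by
    rw [IsFinite.SpecMap_iff] at hfin
    exact hfin
  obtain ⟨W, g, hW, hg, hs⟩ := K742.QCTop.exists_affine_refinement (fun x => f x) f.isOpenMap f.surjective
  have : Surjective (g ≫ f) := ⟨hs⟩
  have : IsAffineHom (g ≫ f) := inferInstance
  obtain ⟨s, hs⟩ := K269.FinSec.exists_section k (B := Γ(Z, ⊤)) (g ≫ f) Z.isoSpec
  exact ⟨s ≫ g, by rw [Category.assoc]; exact hs⟩

variable {S : Scheme.{u}}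

section scheme

variable {Z₁ T₁ E R : Over S} {c₁ : Z₁ ⟶ T₁} {e : E ⟶ Z₁} {r : R ⟶ T₁}
  (i : (yon S).obj R ≅ Res c₁ ((yon S).map e)) (hr : i.hom ≫ π c₁ ((yon S).map e) = (yon S).map r)

include hr in
/-- Weil restriction preserves smooth surjective morphisms: surjectivity. -/
theorem surjective_r [IsFinite c₁.left] [Smooth e.left] [Surjective e.left] : Surjective r.left := by
  refine ⟨fun t => ?_⟩
  let K := AlgebraicClosure (T₁.left.residueField t)
  let a : Spec (CommRingCat.of K) ⟶ T₁.left :=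
    Spec.map (CommRingCat.ofHom (algebraMap (T₁.left.residueField t) K)) ≫ T₁.left.fromSpecResidueField t
  let T₂ : Over S := Over.mk (a ≫ T₁.hom)
  let α : T₂ ⟶ T₁ := Over.homMk a rfl
  have sq := bc_sq c₁ α
  have hp : IsFinite (bcP c₁ α).left := MorphismProperty.of_isPullback
    (K635.Thick.isPullback_left sq).flip ‹IsFinite c₁.left›
  let f : pullback e.left (bcQ c₁ α).left ⟶ (bcO c₁ α).left := pullback.snd _ _
  obtain ⟨s, hs⟩ := exists_section_fin (k := K) (bcP c₁ α).left f
  let σ : bcO c₁ α ⟶ E := Over.homMk (s ≫ pullback.fst e.left (bcQ c₁ α).left) (by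
    have h1 : pullback.fst e.left (bcQ c₁ α).left ≫ e.left = f ≫ (bcQ c₁ α).left := pullback.condition
    rw [← Over.w e, ← Category.assoc, Category.assoc s, h1, ← Category.assoc s, hs, Category.id_comp]
    exact Over.w (bcQ c₁ α))
  have hσ : σ ≫ e = bcQ c₁ α := by
    apply Over.OverMorphism.ext
    change (s ≫ pullback.fst e.left (bcQ c₁ α).left) ≫ e.left = _
    rw [Category.assoc, show pullback.fst e.left (bcQ c₁ α).left ≫ e.left = f ≫ (bcQ c₁ α).left from pullback.condition,
      ← Category.assoc, hs, Category.id_comp]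
  let x : Pt c₁ ((yon S).map e) T₂ := Pt.mk' sq (⟨σ⟩ : ((yon S).obj E).obj.obj (op (bcO c₁ α))) (congrArg ULift.up hσ)
  obtain ⟨m, hm⟩ := (yon S).map_surjective (x.hom ≫ i.inv)
  have h2 : m ≫ r = α := by
    apply (yon S).map_injective
    rw [Functor.map_comp, hm, ← hr, Category.assoc, Iso.inv_hom_id_assoc, Pt.hom_π]
    rfl
  have h3 : m.left ≫ r.left = a := congrArg (fun k => k.left) h2
  let pt : ↥(Spec (CommRingCat.of K)) := IsLocalRing.closedPoint K
  refine ⟨m.left pt, ?_⟩
  have h4 : r.left (m.left pt) = (m.left ≫ r.left) pt := (Scheme.Hom.comp_apply _ _ _).symm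
  rw [h4, h3]
  exact T₁.left.fromSpecResidueField_apply t _

include hr in
theorem lfp_r [IsAffineHom c₁.left] (he : LocallyOfFinitePresentation e.left) :
    LocallyOfFinitePresentation r.left := by
  have h1 : IsRelLimitPreserving ((yon S).map e).hom :=
    (K601.RelLimSp.locP_lfp_iff (IsAlgSpace.yon_obj E) (IsAlgSpace.yon_obj Z₁) _).1
      ((K742.nice_lfp.yon_iff e).2 he)
  have h2 := isRelLimitPreserving_π c₁ ((yon S).map e) h1
  have hA : IsAlgSpace (Res c₁ ((yon S).map e)) := (IsAlgSpace.yon_obj R).of_iso i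
  have h3 := (K601.RelLimSp.locP_lfp_iff hA (IsAlgSpace.yon_obj T₁) (π c₁ ((yon S).map e))).2 h2
  refine (K742.nice_lfp.yon_iff r).1 ?_
  rw [← hr]
  have := K735.Top.locP_respectsIso (S := S) @LocallyOfFinitePresentation
  exact MorphismProperty.RespectsIso.precomp _ i.hom _ h3

include hr in
theorem smooth_r [IsAffineHom c₁.left] (he : Smooth e.left) : Smooth r.left := by
  have h1 := lfp_r i hr (inferInstance : LocallyOfFinitePresentation e.left)
  refine (Groth.Agent.S1488.result _).2 ⟨h1, ?_⟩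
  rw [← K634.Charts.smooth_yon_map_iff, ← hr]
  refine K635.Formal.comp_smooth (K635.InfLift.smooth_of_etale (etale_of_isIso _)) (smooth_π ‹_› ?_)
  rw [K634.Charts.smooth_yon_map_iff]
  exact ((Groth.Agent.S1488.result _).1 he).2

include hr in
theorem etale_r [IsAffineHom c₁.left] (he : Etale e.left) : Etale r.left := by
  have h1 := lfp_r i hr (inferInstance : LocallyOfFinitePresentation e.left)
  refine (Groth.Agent.S1489.result _).2 ⟨h1, ?_⟩
  rw [← K634.Charts.etale_yon_map_iff, ← hr]
  refine K635.Formal.comp_etale (etale_of_isIso _) (etale_π ‹_› ?_)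
  rw [K634.Charts.etale_yon_map_iff]
  exact ((Groth.Agent.S1489.result _).1 he).2

end scheme

/-! ### scheme charts -/

variable {Z T : Over S} {c : Z ⟶ T}

/-- The structure morphism of a scheme representing `Res`. -/
theorem exists_r {Z₁ T₁ E R : Over S} {c₁ : Z₁ ⟶ T₁} {e : E ⟶ Z₁} (i : (yon S).obj R ≅ Res c₁ ((yon S).map e)) :
    ∃ r : R ⟶ T₁, i.hom ≫ π c₁ ((yon S).map e) = (yon S).map r := by
  obtain ⟨r, hr⟩ := (yon S).map_surjective (i.hom ≫ π c₁ ((yon S).map e))
  exact ⟨r, hr.symm⟩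

theorem finite_bcP [IsFinite c.left] {X : Over S} (t : X ⟶ T) : IsFinite (bcP c t).left :=
  MorphismProperty.of_isPullback (K635.Thick.isPullback_left (bc_sq c t)).flip ‹IsFinite c.left›

theorem flat_bcP [Flat c.left] {X : Over S} (t : X ⟶ T) : Flat (bcP c t).left :=
  MorphismProperty.of_isPullback (K635.Thick.isPullback_left (bc_sq c t)).flip ‹Flat c.left›

theorem lfp_bcP [LocallyOfFinitePresentation c.left] {X : Over S} (t : X ⟶ T) :
    LocallyOfFinitePresentation (bcP c t).left :=
  MorphismProperty.of_isPullback (K635.Thick.isPullback_left (bc_sq c t)).flip ‹LocallyOfFinitePresentation c.left›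

section main

variable [IsFinite c.left] [Flat c.left] [LocallyOfFinitePresentation c.left]

theorem RepAt.of_iso' {P : MorphismProperty Scheme.{u}} {X Y : Sp S} {f : X ⟶ Y} {U V : Over S} {h : (yon S).obj U ⟶ Y}
    {P' : Sp S} {a : P' ⟶ X} {b : P' ⟶ (yon S).obj U} (sq : IsPullback a b f h) (i : (yon S).obj V ≅ P') (r : V ⟶ U)
    (hr : i.hom ≫ b = (yon S).map r) (hP : P r.left) : K628.ZarRep.RepAt P f h :=
  ⟨V, i.hom ≫ a, r, sq.of_iso i.symm (Iso.refl _) (Iso.refl _) (Iso.refl _) (by simp) (by simp [← hr]) (by simp) (by simp), hP⟩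

/-- **Theorem A**: the Weil restriction of a scheme all of whose finite subsets lie in affine opens is a scheme. -/
theorem exists_scheme {Y : Over S} (hY : AF Y.left) (y : Y ⟶ Z) :
    ∃ R : Over S, Nonempty ((yon S).obj R ≅ Res c ((yon S).map y)) := by
  have key : K628.ZarRep.RepAt ⊤ (π c ((yon S).map y)) (𝟙 ((yon S).obj T)) := by
    refine K628.ZarRep.RepAt.of_affine fun T₁ j hT₁ hj => ?_
    rw [Category.comp_id]
    have := finite_bcP (c := c) j
    have := flat_bcP (c := c) j
    have := lfp_bcP (c := c) j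
    have hq : IsOpenImmersion (bcQ c j).left := MorphismProperty.of_isPullback
      (K635.Thick.isPullback_left (bc_sq c j)) hj
    have sqE := IsPullback.of_hasPullback y (bcQ c j)
    have hE : AF (pullback y (bcQ c j)).left := by
      have : IsOpenImmersion (pullback.fst y (bcQ c j)).left := MorphismProperty.of_isPullback
        (K635.Thick.isPullback_left sqE).flip hq
      exact hY.of_map (pullback.fst y (bcQ c j)).left
    obtain ⟨R, ⟨i⟩⟩ := exists_rep (bcP c j) (pullback.snd y (bcQ c j)) hE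
    obtain ⟨r, hr⟩ := exists_r i
    exact RepAt.of_iso' (isPullback_base (bc_sq c j) (sqE.map (yon S))) i r hr trivial
  obtain ⟨V, fst, snd, sq, -⟩ := key
  have : IsIso fst := sq.isIso_fst_of_isIso
  exact ⟨V, ⟨asIso fst⟩⟩

variable {W W' : Sp S} {w : W ⟶ (yon S).obj Z} {w' : W' ⟶ (yon S).obj Z}

/-- **Theorem B**: for `f : h_Y ⟶ W'` representable and locally of finite type, `Y` a scheme all of whose finite
subsets lie in affine opens, `Res f` is representable by schemes; the properties of the base changes. -/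
theorem repWith_map {P Q : MorphismProperty Scheme.{u}} [IsZariskiLocalAtTarget Q] {Y : Over S} (hY : AF Y.left)
    (f : (yon S).obj Y ⟶ W') {y : Y ⟶ Z} (hf : f ≫ w' = (yon S).map y) (hP : RepWith P f)
    (hP' : ∀ {A B : Scheme.{u}} (g : A ⟶ B), P g → LocallyOfFiniteType g)
    (hPQ : ∀ {Z₁ T₁ E R : Over S} (c₁ : Z₁ ⟶ T₁) (e : E ⟶ Z₁) (r : R ⟶ T₁)
      (i : (yon S).obj R ≅ Res c₁ ((yon S).map e)), i.hom ≫ π c₁ ((yon S).map e) = (yon S).map r →
        IsFinite c₁.left → P e.left → Q r.left) :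
    RepWith Q (Wr.map c f hf) := by
  refine K628.ZarRep.repWith_of_affine fun T₁ hT₁ h => ?_
  obtain ⟨ξ, rfl⟩ := exists_pt h
  have := finite_bcP (c := c) ξ.t
  have := flat_bcP (c := c) ξ.t
  have := lfp_bcP (c := c) ξ.t
  have sq := bc_sq c ξ.t
  obtain ⟨E, e, g, sqE⟩ := hP.1 (yE.symm (ξ.F (bcP c ξ.t) (bcQ c ξ.t) sq.w))
  obtain ⟨g, rfl⟩ := (yon S).map_surjective g
  have he : P e.left := hP.2 _ _ _ sqE
  have hZ₁ : IsAffine (bcO c ξ.t).left := isAffine_of_isAffineHom (bcP c ξ.t).left
  have := hP' _ he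
  have hE : AF E.left := by
    refine AF.of_jointly_mono g.left e.left hY fun {X} k l h1 h2 => ?_
    let X₀ : Over S := Over.mk (k ≫ E.hom)
    let k₀ : X₀ ⟶ E := Over.homMk k rfl
    let l₀ : X₀ ⟶ E := Over.homMk l (by
      change l ≫ E.hom = k ≫ E.hom
      rw [← Over.w e, ← Category.assoc, ← Category.assoc, h2])
    have h3 : k₀ = l₀ := by
      apply (yon S).map_injective
      refine sqE.hom_ext ?_ ?_
      · rw [← Functor.map_comp, ← Functor.map_comp]
        exact congrArg (yon S).map (Over.OverMorphism.ext h1)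
      · rw [← Functor.map_comp, ← Functor.map_comp]
        exact congrArg (yon S).map (Over.OverMorphism.ext h2)
    exact congrArg (fun m => m.left) h3
  obtain ⟨R, ⟨i⟩⟩ := exists_rep (bcP c ξ.t) e hE
  obtain ⟨r, hr⟩ := exists_r i
  exact RepAt.of_iso' (isPullback_point f hf ξ sq (yE.symm (ξ.F (bcP c ξ.t) (bcQ c ξ.t) sq.w))
    (Equiv.apply_symm_apply _ _) sqE) i r hr (hPQ _ _ r i hr inferInstance he)

end main

end K893.Wr
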