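import Groth.Agent.Gerb.K893.Wr6
import Groth.Agent.AlgSp.K610.Base
import Groth.Agent.AlgSp.K598.OpenInd

/-!
# The Weil restriction of an algebraic space along a finite locally free morphism is an algebraic space
-/

set_option autoImplicit false
universe u
open CategoryTheory CategoryTheory.Limits AlgebraicGeometry Opposite

namespace K893.Wr

open AlgSp K598.Site

variable {S : Scheme.{u}} {Z T : Over S} {c : Z ⟶ T}

theorem repWith_inf {P Q : MorphismProperty Scheme.{u}} {F G : Sp S} {f : F ⟶ G} (h1 : RepWith P f) (h2 : RepWith Q f) :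
    RepWith (P ⊓ Q) f := ⟨h1.1, fun _ _ _ _ _ sq => ⟨h1.2 _ _ _ sq, h2.2 _ _ _ sq⟩⟩

/-- An etale surjective chart by a scheme all of whose finite subsets lie in affine opens. -/
theorem exists_AF_chart {W : Sp S} (hW : IsAlgSpace W) :
    ∃ (Y : Over S) (f : (yon S).obj Y ⟶ W), AF Y.left ∧ RepWith @Etale f ∧ RepWith @Surjective f := by
  obtain ⟨U, p, hp, hp'⟩ := hW.atlas
  obtain ⟨Y₀, g₀, hY, hg, hg'⟩ := exists_AF_cover U.left
  let Y : Over S := Over.mk (g₀ ≫ U.hom)
  let g : Y ⟶ U := Over.homMk g₀ rfl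
  exact ⟨Y, (yon S).map g ≫ p, hY, K629.Basic.repWith_comp _ ((repWith_yon_map_iff _ g).2 hg) hp,
    K629.Basic.repWith_comp _ ((repWith_yon_map_iff _ g).2 hg') hp'⟩

section main

variable [IsFinite c.left] [Flat c.left] [LocallyOfFinitePresentation c.left]
  {W W' : Sp S} {w : W ⟶ (yon S).obj Z} {w' : W' ⟶ (yon S).obj Z}

theorem etale_map_chart {Y : Over S} (hY : AF Y.left) (f : (yon S).obj Y ⟶ W') {y : Y ⟶ Z} (hf : f ≫ w' = (yon S).map y)
    (h : RepWith @Etale f) : RepWith @Etale (Wr.map c f hf) :=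
  have : IsZariskiLocalAtTarget @Etale.{u} := HasRingHomProperty.instIsZariskiLocalAtTarget _
  repWith_map (P := @Etale) hY f hf h (fun g hg => by have : Etale g := hg; infer_instance)
    (fun c₁ e r i hr hc he => etale_r i hr he)

theorem smooth_map_chart {Y : Over S} (hY : AF Y.left) (f : (yon S).obj Y ⟶ W') {y : Y ⟶ Z} (hf : f ≫ w' = (yon S).map y)
    (h : RepWith @Smooth f) : RepWith @Smooth (Wr.map c f hf) :=
  have : IsZariskiLocalAtTarget @Smooth.{u} := HasRingHomProperty.instIsZariskiLocalAtTarget _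
  repWith_map (P := @Smooth) hY f hf h (fun g hg => by have : Smooth g := hg; infer_instance)
    (fun c₁ e r i hr hc he => smooth_r i hr he)

theorem surjective_map_chart {Y : Over S} (hY : AF Y.left) (f : (yon S).obj Y ⟶ W') {y : Y ⟶ Z}
    (hf : f ≫ w' = (yon S).map y) (h : RepWith @Smooth f) (h' : RepWith @Surjective f) :
    RepWith @Surjective (Wr.map c f hf) :=
  repWith_map (P := @Smooth ⊓ @Surjective) hY f hf (repWith_inf h h')
    (fun g hg => by have : Smooth g := hg.1; infer_instance)
    (fun c₁ e r i hr hc he => by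
      have := he.1
      have := he.2
      exact surjective_r i hr)

/-- **The Weil restriction of an algebraic space along a finite locally free morphism is an algebraic space.** -/
theorem isAlgSpace_Res (hW : IsAlgSpace W) : IsAlgSpace (Res c w) := by
  obtain ⟨Y, f, hY, hf1, hf2⟩ := exists_AF_chart hW
  obtain ⟨y, hy⟩ := (yon S).map_surjective (f ≫ w)
  have hf : f ≫ w = (yon S).map y := hy.symm
  obtain ⟨R, ⟨i⟩⟩ := exists_scheme (c := c) hY y
  have h1 : RepWith @Etale (Wr.map c f hf) := etale_map_chart hY f hf hf1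
  have h2 : RepWith @Surjective (Wr.map c f hf) := surjective_map_chart hY f hf
    (K629.Basic.repWith_mono (fun _ _ _ h => by have : Etale _ := h; infer_instance) hf1) hf2
  refine K606.Boot3.isAlgSpace_of_etale ((IsAlgSpace.yon_obj R).of_iso i) (p := Wr.map c f hf) ?_
  rw [repBySpWith_hom_iff]
  intro U ξ F' fst snd sq
  obtain ⟨V, v, fst', sq'⟩ := h1.1 ξ
  let e : (yon S).obj V ≅ F' := sq'.isoIsPullback _ _ sq
  have he : e.hom ≫ snd = (yon S).map v := sq'.isoIsPullback_hom_snd _ _ sq
  have hv1 : Etale v.left := h1.2 _ _ _ sq'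
  have hv2 : Surjective v.left := h2.2 _ _ _ sq'
  have hsnd : snd = e.inv ≫ (yon S).map v := by rw [← he, Iso.inv_hom_id_assoc]
  have h3 : RepWith @Etale snd := by
    rw [hsnd]
    exact MorphismProperty.RespectsIso.precomp _ _ _ ((repWith_yon_map_iff _ v).2 hv1)
  have h4 : RepWith @Surjective snd := by
    rw [hsnd]
    exact MorphismProperty.RespectsIso.precomp _ _ _ ((repWith_yon_map_iff _ v).2 hv2)
  exact ⟨(IsAlgSpace.yon_obj V).of_iso e, K610.Base.surjective_points_of_repWith h4,
    K598.OpenInd.isEtaleMor_of_repWith h3⟩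

end main

end K893.Wr
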